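/-
Verified stabiliser chains: each level's generators are named Schreier generators of the level above,
and every Schreier generator sifts to the identity.
-/
import Cfsg.Agent.Lib.HallJanko.Code

set_option autoImplicit false

namespace CfsgHJ

open Equiv

/-- One level: the base point, the transversal (point, code, inverse code, parent, generator), the
position of each point in the transversal, and the chosen Schreier generators for the next level. -/
structure Level where
  base : ℕ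
  tr : List (ℕ × ℕ × ℕ × ℕ × ℕ)
  pos : List ℕ
  sel : List (ℕ × ℕ)

namespace Level

def pt (L : Level) (k : ℕ) : ℕ := (L.tr.getD k (0, 0, 0, 0, 0)).1

def tc (L : Level) (k : ℕ) : ℕ := (L.tr.getD k (0, 0, 0, 0, 0)).2.1

def ti (L : Level) (k : ℕ) : ℕ := (L.tr.getD k (0, 0, 0, 0, 0)).2.2.1

def par (L : Level) (k : ℕ) : ℕ := (L.tr.getD k (0, 0, 0, 0, 0)).2.2.2.1

def gno (L : Level) (k : ℕ) : ℕ := (L.tr.getD k (0, 0, 0, 0, 0)).2.2.2.2

/-- The Schreier generator of transversal entry `k` and generator `g`. -/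
def schreier (L : Level) (n g k : ℕ) : ℕ :=
  cp n (L.ti (L.pos.getD (ap g (L.pt k)) 0)) (cp n g (L.tc k))

def nextGens (L : Level) (n : ℕ) (gens : List ℕ) : List ℕ :=
  L.sel.map fun p => L.schreier n (gens.getD p.2 0) p.1

def findsOK (L : Level) (x : ℕ) : Bool :=
  Nat.blt (L.pos.getD x 0) L.tr.length && Nat.beq (L.pt (L.pos.getD x 0)) x

def treeOK (L : Level) (n : ℕ) (gens : List ℕ) (k : ℕ) : Bool :=
  isPerm n (L.tc k) (L.ti k) && Nat.beq (ap (L.tc k) L.base) (L.pt k) && Nat.beq (L.pos.getD (L.pt k) 0) k &&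
    Nat.blt (L.pt k) n &&
    ((Nat.beq k 0 && Nat.beq (L.tc k) (idk n)) ||
      (Nat.blt (L.par k) k && Nat.blt (L.gno k) gens.length &&
        Nat.beq (L.tc k) (cp n (gens.getD (L.gno k) 0) (L.tc (L.par k)))))

end Level

/-- Sift a code through the levels. -/
def sift (n : ℕ) : List Level → ℕ → Bool
  | [], h => (List.range n).all fun i => Nat.beq (ap h i) i
  | L :: ls, h =>
    L.findsOK (ap h L.base) && sift n ls (cp n (L.ti (L.pos.getD (ap h L.base) 0)) h)

/-- The check of a chain below the given generators. -/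
def chainOK (n : ℕ) : List Level → List ℕ → Bool
  | [], gens => gens.all fun g => Nat.beq g (idk n)
  | L :: ls, gens =>
    Nat.blt L.base n && Nat.blt 0 L.tr.length &&
      ((List.range L.tr.length).all fun k => L.treeOK n gens k &&
        gens.all fun g => L.findsOK (ap g (L.pt k)) && sift n ls (L.schreier n g k)) &&
      (L.sel.all fun p => Nat.blt p.1 L.tr.length && Nat.blt p.2 gens.length) &&
      chainOK n ls (L.nextGens n gens)

/-- The subgroup generated by a list of codes. -/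
noncomputable def genG (n : ℕ) (gens : List ℕ) : Subgroup (Perm (Fin n)) :=
  Subgroup.closure {g | ∃ c ∈ gens, Rep n c g}

/-- The generators are codes of permutations. -/
def Valid (n : ℕ) (gens : List ℕ) : Prop := ∀ c ∈ gens, ∃ g, Rep n c g

def sizeOfChain : List Level → ℕ
  | [] => 1
  | L :: ls => L.tr.length * sizeOfChain ls

structure Sound (n : ℕ) (ls : List Level) (gens : List ℕ) : Prop where
  card : Nat.card (genG n gens) = sizeOfChain ls
  mem_iff : ∀ c g, Rep n c g → (sift n ls c = true ↔ g ∈ genG n gens)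

theorem chain_level {n : ℕ} (hn : n ≤ 128) {L : Level} {ls : List Level} {gens : List ℕ}
    (h : chainOK n (L :: ls) gens = true) (hv : Valid n gens)
    (ih : Valid n (L.nextGens n gens) → Sound n ls (L.nextGens n gens)) :
    Sound n (L :: ls) gens ∧ (genG n (L.nextGens n gens) : Set (Perm (Fin n))) =
      {g | g ∈ genG n gens ∧ ∀ b : Fin n, (b : ℕ) = L.base → g b = b} := by
  simp only [chainOK, Bool.and_eq_true, Nat.blt_eq, List.all_eq_true, List.mem_range] at h
  obtain ⟨⟨⟨⟨hb, hlen⟩, hall⟩, hsel⟩, -⟩ := h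
  set H := genG n gens
  let b : Fin n := ⟨L.base, hb⟩
  have htree : ∀ k, k < L.tr.length → isPerm n (L.tc k) (L.ti k) = true ∧ ap (L.tc k) L.base = L.pt k ∧
      L.pos.getD (L.pt k) 0 = k ∧ L.pt k < n ∧ decP n (L.tc k) ∈ H := by
    intro k
    induction k using Nat.strong_induction_on with
    | _ k ihk =>
      intro hk
      have ht := (hall k hk).1
      simp only [Level.treeOK, Bool.and_eq_true, Bool.or_eq_true, Nat.blt_eq] at ht
      obtain ⟨⟨⟨⟨hp, hap⟩, hpos⟩, hlt⟩, hor⟩ := ht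
      refine ⟨hp, Nat.eq_of_beq_eq_true hap, Nat.eq_of_beq_eq_true hpos, hlt, ?_⟩
      rcases hor with ⟨-, he⟩ | ⟨⟨hpar, hg⟩, he⟩
      · rw [(decP_rep hp).eq_beq (rep_id hn) he]; exact one_mem H
      · obtain ⟨g, hgr⟩ := hv _ (List.getElem_mem hg)
        rw [(decP_rep hp).eq_beq (hgr.comp (decP_rep (ihk _ hpar (lt_trans hpar hk)).1))
          (by rwa [List.getD_eq_getElem _ _ hg] at he)]
        exact mul_mem (Subgroup.subset_closure ⟨_, List.getElem_mem hg, hgr⟩) (ihk _ hpar (lt_trans hpar hk)).2.2.2.2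
  have hti : ∀ k, k < L.tr.length → Rep n (L.ti k) (decP n (L.tc k))⁻¹ := fun k hk =>
    rep_inv hn (decP_rep (htree k hk).1) (htree k hk).1
  have hTb : ∀ k, (hk : k < L.tr.length) → decP n (L.tc k) b = ⟨L.pt k, (htree k hk).2.2.2.1⟩ := fun k hk =>
    Fin.ext (by rw [← decP_rep (htree k hk).1 b]; exact (htree k hk).2.1)
  have hsch : ∀ k, k < L.tr.length → ∀ c ∈ gens, ∀ g, Rep n c g → ∃ j, j < L.tr.length ∧
      Rep n (L.schreier n c k) ((decP n (L.tc j))⁻¹ * (g * decP n (L.tc k))) ∧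
      sift n ls (L.schreier n c k) = true ∧ (decP n (L.tc j))⁻¹ * (g * decP n (L.tc k)) ∈ H ∧
      ((decP n (L.tc j))⁻¹ * (g * decP n (L.tc k))) b = b := by
    intro k hk c hc g hg
    have := (hall k hk).2 c hc
    simp only [Level.findsOK, Bool.and_eq_true, Nat.blt_eq] at this
    obtain ⟨⟨hj, hpt⟩, hs⟩ := this
    refine ⟨_, hj, ?_, hs, mul_mem (inv_mem (htree _ hj).2.2.2.2)
      (mul_mem (Subgroup.subset_closure ⟨c, hc, hg⟩) (htree k hk).2.2.2.2), ?_⟩
    · exact (hti _ hj).comp (hg.comp (decP_rep (htree k hk).1))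
    · rw [Perm.mul_apply, Perm.mul_apply, hTb k hk, Perm.inv_eq_iff_eq, hTb _ hj]
      exact Fin.ext (by rw [← hg ⟨L.pt k, (htree k hk).2.2.2.1⟩]; exact (Nat.eq_of_beq_eq_true hpt).symm)
  have hnv : Valid n (L.nextGens n gens) := by
    intro c hc
    simp only [Level.nextGens, List.mem_map] at hc
    obtain ⟨p, hp, rfl⟩ := hc
    obtain ⟨hp1, hp2⟩ := hsel p hp
    obtain ⟨g, hg⟩ := hv _ (List.getElem_mem hp2)
    obtain ⟨j, -, hr, -⟩ := hsch _ hp1 _ (List.getElem_mem hp2) g hg
    rw [List.getD_eq_getElem _ _ hp2]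
    exact ⟨_, hr⟩
  obtain ⟨hKcard, hKmem⟩ := ih hnv
  set K := genG n (L.nextGens n gens)
  have hK : ∀ g ∈ K, g ∈ H ∧ g b = b := by
    intro g hg
    induction hg using Subgroup.closure_induction with
    | mem g hg =>
      obtain ⟨c, hc, hr⟩ := hg
      simp only [Level.nextGens, List.mem_map] at hc
      obtain ⟨p, hp, rfl⟩ := hc
      obtain ⟨hp1, hp2⟩ := hsel p hp
      obtain ⟨g₀, hg₀⟩ := hv _ (List.getElem_mem hp2)
      obtain ⟨j, -, hr', -, hm, hfix⟩ := hsch _ hp1 _ (List.getElem_mem hp2) g₀ hg₀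
      rw [List.getD_eq_getElem _ _ hp2] at hr
      rw [hr.unique hr']
      exact ⟨hm, hfix⟩
    | one => exact ⟨one_mem H, rfl⟩
    | mul x y _ _ hx hy => exact ⟨mul_mem hx.1 hy.1, by rw [Perm.mul_apply, hy.2, hx.2]⟩
    | inv x _ hx => exact ⟨inv_mem hx.1, by rw [Perm.inv_eq_iff_eq, hx.2]⟩
  let S : Set (Perm (Fin n)) := {g | ∃ k < L.tr.length, ∃ y ∈ K, g = decP n (L.tc k) * y}
  have hclosed : ∀ g ∈ {g | ∃ c ∈ gens, Rep n c g}, ∀ y ∈ S, g * y ∈ S := by
    rintro g ⟨c, hc, hg⟩ _ ⟨k, hk, y, hy, rfl⟩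
    obtain ⟨j, hj, hr, hs, -⟩ := hsch k hk c hc g hg
    exact ⟨j, hj, _, mul_mem ((hKmem _ _ hr).mp hs) hy, by group⟩
  have hzero : decP n (L.tc 0) = 1 := by
    have ht := (hall 0 hlen).1
    simp only [Level.treeOK, Bool.and_eq_true, Bool.or_eq_true, Nat.blt_eq] at ht
    rcases ht.2 with ⟨-, he⟩ | ⟨⟨hpar, -⟩, -⟩
    · exact (decP_rep (htree 0 hlen).1).eq_beq (rep_id hn) he
    · exact absurd hpar (Nat.not_lt_zero _)
  have hHS : ∀ g ∈ H, g ∈ S := by
    intro g hg
    induction hg using Subgroup.closure_induction_left with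
    | one => exact ⟨0, hlen, 1, one_mem K, by rw [hzero, mul_one]⟩
    | mul_left g hg y _ hy => exact hclosed g hg y hy
    | inv_mul_cancel g hg y _ hy =>
      have hp : ∀ m : ℕ, g ^ m * y ∈ S := fun m => by
        induction m with
        | zero => simpa using hy
        | succ m ihm => rw [pow_succ', mul_assoc]; exact hclosed g hg _ ihm
      obtain ⟨m, hm⟩ := (isOfFinOrder_of_finite g).mem_powers_iff_mem_zpowers.mpr (inv_mem (Subgroup.mem_zpowers g))
      simp only at hm
      rw [← hm]; exact hp m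
  have hSH : ∀ g ∈ S, g ∈ H := by
    rintro g ⟨k, hk, y, hy, rfl⟩
    exact mul_mem (htree k hk).2.2.2.2 (hK y hy).1
  have hkey : ∀ k, (hk : k < L.tr.length) → ∀ y ∈ K,
      ((decP n (L.tc k) * y) b : ℕ) = L.pt k := fun k hk y hy => by
    rw [Perm.mul_apply, (hK y hy).2, hTb k hk]
  refine ⟨⟨?_, fun c g hg => ?_⟩, ?_⟩
  · let f : Fin L.tr.length × K → H := fun p =>
      ⟨decP n (L.tc p.1) * p.2, mul_mem (htree _ p.1.2).2.2.2.2 (hK _ p.2.2).1⟩
    have hf : Function.Bijective f := by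
      constructor
      · rintro ⟨i, y⟩ ⟨j, z⟩ e
        have e' : decP n (L.tc i) * (y : Perm (Fin n)) = decP n (L.tc j) * z := congrArg Subtype.val e
        have hij : i = j := Fin.ext (by
          have h1 := congrArg (fun q : Perm (Fin n) => L.pos.getD (q b : ℕ) 0) e'
          rw [hkey _ i.2 _ y.2, hkey _ j.2 _ z.2, (htree _ i.2).2.2.1, (htree _ j.2).2.2.1] at h1
          exact h1)
        subst hij
        rw [mul_right_inj] at e'
        rw [Subtype.ext e']
      · rintro ⟨g, hg⟩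
        obtain ⟨k, hk, y, hy, rfl⟩ := hHS g hg
        exact ⟨(⟨k, hk⟩, ⟨y, hy⟩), rfl⟩
    rw [sizeOfChain, ← hKcard, ← Nat.card_eq_of_bijective f hf, Nat.card_prod, Nat.card_fin]
  · have hcb : ap c L.base = (g b : ℕ) := hg b
    simp only [sift, Level.findsOK, Bool.and_eq_true, Nat.blt_eq, hcb]
    constructor
    · rintro ⟨⟨hj, -⟩, hs⟩
      have := (hKmem _ _ ((hti _ hj).comp hg)).mp hs
      have h2 := mul_mem (htree _ hj).2.2.2.2 (hK _ this).1
      rwa [mul_inv_cancel_left] at h2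
    · intro hgH
      obtain ⟨k, hk, y, hy, rfl⟩ := hHS g hgH
      have e : L.pos.getD (((decP n (L.tc k) * y) b : Fin n) : ℕ) 0 = k := by
        rw [hkey k hk y hy]; exact (htree k hk).2.2.1
      refine ⟨⟨by rw [e]; exact hk, by rw [e, hkey k hk y hy]; exact Nat.beq_eq ▸ rfl⟩, ?_⟩
      rw [hKmem _ _ ((hti _ (e.symm ▸ hk)).comp hg), e, inv_mul_cancel_left]
      exact hy
  · ext g
    refine ⟨fun hg => ⟨(hK g hg).1, fun c hc => ?_⟩, fun ⟨hg, hfix⟩ => ?_⟩
    · rw [show c = b from Fin.ext hc]; exact (hK g hg).2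
    · obtain ⟨k, hk, y, hy, rfl⟩ := hHS g hg
      have h0 : L.pt k = L.pt 0 := by
        rw [← hkey k hk y hy, hfix b rfl, ← hkey 0 hlen 1 (one_mem K), hzero, mul_one, Perm.one_apply]
      have : k = 0 := by rw [← (htree k hk).2.2.1, h0, (htree 0 hlen).2.2.1]
      subst this
      rw [hzero, one_mul]
      exact hy

theorem chain_sound {n : ℕ} (hn : n ≤ 128) : ∀ {ls : List Level} {gens : List ℕ},
    chainOK n ls gens = true → Valid n gens → Sound n ls gens := by
  intro ls
  induction ls with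
  | nil =>
    intro gens h hv
    simp only [chainOK, List.all_eq_true] at h
    have hbot : genG n gens = ⊥ := by
      rw [eq_bot_iff, genG, Subgroup.closure_le]
      rintro g ⟨c, hc, hg⟩
      exact Subgroup.mem_bot.mpr (hg.eq_beq (rep_id hn) (h c hc))
    refine ⟨by rw [hbot]; simp [sizeOfChain], fun c g hg => ?_⟩
    rw [hbot, Subgroup.mem_bot, sift]
    simp only [List.all_eq_true, List.mem_range]
    refine ⟨fun e => Equiv.ext fun i => Fin.ext ?_, fun e i hi => ?_⟩
    · rw [← hg i, Nat.eq_of_beq_eq_true (e i i.2)]; rfl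
    · rw [hg ⟨i, hi⟩, e]; exact Nat.beq_refl i
  | cons L ls ih =>
    intro gens h hv
    exact (chain_level hn h hv fun hv' => ih (by
      simp only [chainOK, Bool.and_eq_true] at h; exact h.2) hv').1

end CfsgHJ
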