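/-
Icosians in integer coordinates: the basis 1, I, W, IW, WI, IWI, WIW, IWIW, its multiplication
formula, and the embedding into the quaternions.
-/
import Cfsg.Prelude.Def_Spor_J2

set_option autoImplicit false

namespace CfsgHJ

open Quaternion Cfsg.Spor

/-- Coordinates of an icosian. -/
@[ext]
structure Ico where
  c0 : ℤ
  c1 : ℤ
  c2 : ℤ
  c3 : ℤ
  c4 : ℤ
  c5 : ℤ
  c6 : ℤ
  c7 : ℤ
deriving DecidableEq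

def Ico.d0 (n : Ico) : ℤ := 2 * n.c0 + n.c2 - n.c3 - n.c4 - n.c5 - n.c6

def Ico.d1 (n : Ico) : ℤ := n.c3 + n.c4 + n.c6 - n.c7

def Ico.d2 (n : Ico) : ℤ := 2 * n.c1 + n.c2 + n.c3 + n.c4 - n.c5 - n.c7

def Ico.d3 (n : Ico) : ℤ := -n.c2 + n.c5 + n.c6 + n.c7

def Ico.d4 (n : Ico) : ℤ := -n.c7

def Ico.d5 (n : Ico) : ℤ := -n.c3 + n.c4

def Ico.d6 (n : Ico) : ℤ := n.c6

def Ico.d7 (n : Ico) : ℤ := n.c2 + n.c5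

namespace Ico

def beq (x y : Ico) : Bool :=
  decide (x.c0 = y.c0) && decide (x.c1 = y.c1) && decide (x.c2 = y.c2) && decide (x.c3 = y.c3) &&
    decide (x.c4 = y.c4) && decide (x.c5 = y.c5) && decide (x.c6 = y.c6) && decide (x.c7 = y.c7)

theorem eq_of_beq {x y : Ico} (h : x.beq y = true) : x = y := by
  simp only [beq, Bool.and_eq_true, decide_eq_true_eq] at h
  exact Ico.ext h.1.1.1.1.1.1.1 h.1.1.1.1.1.1.2 h.1.1.1.1.1.2 h.1.1.1.1.2 h.1.1.1.2 h.1.1.2 h.1.2 h.2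

theorem beq_self (x : Ico) : x.beq x = true := by simp [beq]

theorem beq_iff {x y : Ico} : x.beq y = true ↔ x = y := ⟨eq_of_beq, fun h => h ▸ beq_self x⟩

def zero : Ico := ⟨0, 0, 0, 0, 0, 0, 0, 0⟩

def one : Ico := ⟨1, 0, 0, 0, 0, 0, 0, 0⟩

def iI : Ico := ⟨0, 1, 0, 0, 0, 0, 0, 0⟩

def iW : Ico := ⟨0, 0, 1, 0, 0, 0, 0, 0⟩

def hH : Ico := ⟨-1, 2, 0, -2, -2, 0, 1, -1⟩

def hB : Ico := ⟨0, 0, 0, 0, 0, 0, -1, 1⟩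

def add (x y : Ico) : Ico :=
  ⟨x.c0 + y.c0, x.c1 + y.c1, x.c2 + y.c2, x.c3 + y.c3, x.c4 + y.c4, x.c5 + y.c5, x.c6 + y.c6, x.c7 + y.c7⟩

def neg (x : Ico) : Ico := ⟨-x.c0, -x.c1, -x.c2, -x.c3, -x.c4, -x.c5, -x.c6, -x.c7⟩

def sub (x y : Ico) : Ico :=
  ⟨x.c0 - y.c0, x.c1 - y.c1, x.c2 - y.c2, x.c3 - y.c3, x.c4 - y.c4, x.c5 - y.c5, x.c6 - y.c6, x.c7 - y.c7⟩

def mul (x y : Ico) : Ico :=
  ⟨x.c0 * y.c0 - x.c1 * y.c1 - x.c2 * y.c2 + x.c2 * y.c7 + x.c3 * y.c4 - x.c3 * y.c5 - x.c3 * y.c7 + x.c4 * y.c3 + x.c4 * y.c6 - x.c5 * y.c4 - x.c5 * y.c5 - x.c5 * y.c6 + x.c6 * y.c3 - x.c6 * y.c5 - x.c6 * y.c7 - x.c7 * y.c1 - x.c7 * y.c3 - x.c7 * y.c4 - x.c7 * y.c6,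
    x.c0 * y.c1 + x.c1 * y.c0 - x.c2 * y.c4 + x.c2 * y.c5 + x.c2 * y.c7 - x.c3 * y.c2 + x.c3 * y.c7 + x.c4 * y.c4 + x.c4 * y.c5 + x.c4 * y.c6 + x.c5 * y.c3 + x.c5 * y.c6 + x.c6 * y.c1 + x.c6 * y.c3 + x.c6 * y.c4 + x.c6 * y.c6 + x.c7 * y.c3 - x.c7 * y.c5 - x.c7 * y.c7,
    x.c0 * y.c2 - x.c1 * y.c3 + x.c2 * y.c0 + x.c2 * y.c2 - x.c2 * y.c5 - x.c2 * y.c7 + x.c3 * y.c5 + x.c3 * y.c6 - x.c4 * y.c1 - x.c4 * y.c3 - x.c4 * y.c4 - x.c4 * y.c6 + x.c5 * y.c4 - x.c5 * y.c7 - x.c6 * y.c1 - x.c6 * y.c3 + x.c6 * y.c5 + x.c7 * y.c1 + x.c7 * y.c4,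
    x.c0 * y.c3 + x.c1 * y.c2 - x.c2 * y.c5 - x.c2 * y.c6 + x.c3 * y.c0 + x.c3 * y.c2 - x.c3 * y.c5 - x.c3 * y.c7 - x.c4 * y.c4 + x.c4 * y.c7 - x.c5 * y.c1 - x.c5 * y.c3 - x.c5 * y.c4 - x.c5 * y.c6 - x.c6 * y.c1 - x.c6 * y.c4 - x.c7 * y.c1 - x.c7 * y.c3 + x.c7 * y.c5,
    x.c0 * y.c4 - x.c1 * y.c5 + x.c2 * y.c1 + x.c2 * y.c4 - x.c2 * y.c5 - x.c3 * y.c5 - x.c3 * y.c7 + x.c4 * y.c0 - x.c4 * y.c4 - x.c4 * y.c5 - x.c5 * y.c4 - x.c5 * y.c6 - x.c6 * y.c1 - x.c6 * y.c2 - x.c6 * y.c4 - x.c7 * y.c1 - x.c7 * y.c3 - x.c7 * y.c4 + x.c7 * y.c5 - x.c7 * y.c6 + x.c7 * y.c7,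
    x.c0 * y.c5 + x.c1 * y.c4 + x.c2 * y.c5 + x.c2 * y.c7 + x.c3 * y.c1 + x.c3 * y.c4 - x.c3 * y.c5 + x.c4 * y.c4 + x.c4 * y.c6 + x.c5 * y.c0 - x.c5 * y.c4 - x.c5 * y.c5 + x.c6 * y.c1 + x.c6 * y.c3 + x.c6 * y.c4 - x.c6 * y.c5 + x.c6 * y.c6 - x.c6 * y.c7 - x.c7 * y.c1 - x.c7 * y.c2 - x.c7 * y.c4,
    x.c0 * y.c6 - x.c1 * y.c7 + x.c2 * y.c3 + x.c2 * y.c6 - x.c2 * y.c7 + x.c3 * y.c5 + x.c4 * y.c2 - x.c4 * y.c6 - x.c4 * y.c7 + x.c5 * y.c4 + x.c6 * y.c0 + x.c6 * y.c2 - x.c6 * y.c3 - x.c6 * y.c6 + x.c7 * y.c1 + x.c7 * y.c4 - x.c7 * y.c5,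
    x.c0 * y.c7 + x.c1 * y.c6 - x.c2 * y.c5 + x.c3 * y.c3 + x.c3 * y.c6 - x.c3 * y.c7 - x.c4 * y.c4 + x.c5 * y.c2 - x.c5 * y.c6 - x.c5 * y.c7 - x.c6 * y.c1 - x.c6 * y.c4 + x.c6 * y.c5 + x.c7 * y.c0 + x.c7 * y.c2 - x.c7 * y.c3 - x.c7 * y.c6⟩

def conj (n : Ico) : Ico :=
  ⟨n.c0 + n.c2 - n.c5 - n.c7,
    -n.c1 - n.c3 - n.c4 - n.c6 + n.c7,
    -n.c2,
    n.c4 + n.c6 - n.c7,
    n.c3 + n.c6 - n.c7,
    -n.c5,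
    -n.c6,
    -n.c7⟩

/-- All coordinates even. -/
def even (x : Ico) : Bool :=
  decide (x.c0 % 2 = 0) && decide (x.c1 % 2 = 0) && decide (x.c2 % 2 = 0) && decide (x.c3 % 2 = 0) &&
    decide (x.c4 % 2 = 0) && decide (x.c5 % 2 = 0) && decide (x.c6 % 2 = 0) && decide (x.c7 % 2 = 0)

def half (x : Ico) : Ico := ⟨x.c0 / 2, x.c1 / 2, x.c2 / 2, x.c3 / 2, x.c4 / 2, x.c5 / 2, x.c6 / 2, x.c7 / 2⟩

def dbl (x : Ico) : Ico := ⟨2 * x.c0, 2 * x.c1, 2 * x.c2, 2 * x.c3, 2 * x.c4, 2 * x.c5, 2 * x.c6, 2 * x.c7⟩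

/-- Coordinates from the doubled real coordinates. -/
def back (x : ℤ × ℤ × ℤ × ℤ × ℤ × ℤ × ℤ × ℤ) : Ico :=
  match x with
  | (x1, x2, x3, x4, x5, x6, x7, x8) =>
    ⟨(x1 + x2 + x4 - x7) / 2,
      (-x2 + x3 + x4 + x5) / 2,
      (-x4 - x5 + x7 + x8) / 2,
      (x2 - x5 - x6 - x7) / 2,
      (x2 - x5 + x6 - x7) / 2,
      (x4 + x5 - x7 + x8) / 2,
      (2 * x7) / 2,
      (-2 * x5) / 2⟩

def dd (n : Ico) : ℤ × ℤ × ℤ × ℤ × ℤ × ℤ × ℤ × ℤ := (n.d0, n.d1, n.d2, n.d3, n.d4, n.d5, n.d6, n.d7)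

theorem back_dd (n : Ico) : back n.dd = n := by
  ext <;> simp only [back, dd, d0, d1, d2, d3, d4, d5, d6, d7] <;> omega

/-- The embedding. -/
noncomputable def phi (n : Ico) : ℍ[ℝ] :=
  ⟨(((n.d0 : ℤ) : ℝ) + ((n.d1 : ℤ) : ℝ) * tau) / 2, (((n.d2 : ℤ) : ℝ) + ((n.d3 : ℤ) : ℝ) * tau) / 2,
    (((n.d4 : ℤ) : ℝ) + ((n.d5 : ℤ) : ℝ) * tau) / 2, (((n.d6 : ℤ) : ℝ) + ((n.d7 : ℤ) : ℝ) * tau) / 2⟩

@[simp] theorem phi_re (n : Ico) : (phi n).re = (((n.d0 : ℤ) : ℝ) + ((n.d1 : ℤ) : ℝ) * tau) / 2 := rfl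
@[simp] theorem phi_imI (n : Ico) : (phi n).imI = (((n.d2 : ℤ) : ℝ) + ((n.d3 : ℤ) : ℝ) * tau) / 2 := rfl
@[simp] theorem phi_imJ (n : Ico) : (phi n).imJ = (((n.d4 : ℤ) : ℝ) + ((n.d5 : ℤ) : ℝ) * tau) / 2 := rfl
@[simp] theorem phi_imK (n : Ico) : (phi n).imK = (((n.d6 : ℤ) : ℝ) + ((n.d7 : ℤ) : ℝ) * tau) / 2 := rfl

theorem tau_sq : tau * tau = tau + 1 := by
  have h : Real.sqrt 5 * Real.sqrt 5 = 5 := Real.mul_self_sqrt (by norm_num)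
  unfold tau; linear_combination h / 4

theorem tau_sq2 : tau ^ 2 = tau + 1 := by rw [pow_two, tau_sq]

theorem phi_add (x y : Ico) : phi (add x y) = phi x + phi y := by
  apply Quaternion.ext <;> simp [add, d0, d1, d2, d3, d4, d5, d6, d7] <;> ring

theorem phi_neg (x : Ico) : phi (neg x) = -phi x := by
  apply Quaternion.ext <;> simp [neg, d0, d1, d2, d3, d4, d5, d6, d7] <;> ring

theorem phi_sub (x y : Ico) : phi (sub x y) = phi x - phi y := by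
  apply Quaternion.ext <;> simp [sub, d0, d1, d2, d3, d4, d5, d6, d7] <;> ring

theorem phi_zero : phi zero = 0 := by
  apply Quaternion.ext <;> simp [zero, d0, d1, d2, d3, d4, d5, d6, d7]

theorem phi_one : phi one = 1 := by
  apply Quaternion.ext <;> simp [one, d0, d1, d2, d3, d4, d5, d6, d7]

theorem phi_iI : phi iI = qI := by
  apply Quaternion.ext <;> simp [iI, qI, d0, d1, d2, d3, d4, d5, d6, d7]

theorem phi_iW : phi iW = ⟨1 / 2, sig / 2, 0, tau / 2⟩ := by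
  apply Quaternion.ext <;> simp [iW, sig, tau, d0, d1, d2, d3, d4, d5, d6, d7] <;> ring

theorem phi_hH : phi hH = icoH := by
  apply Quaternion.ext <;> simp [hH, icoH, tau, d0, d1, d2, d3, d4, d5, d6, d7] <;> ring

theorem phi_conj (x : Ico) : phi (conj x) = star (phi x) := by
  apply Quaternion.ext <;> simp [conj, d0, d1, d2, d3, d4, d5, d6, d7] <;> ring

theorem phi_dbl (x : Ico) : phi (dbl x) = (2 : ℝ) • phi x := by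
  apply Quaternion.ext <;> simp [dbl, d0, d1, d2, d3, d4, d5, d6, d7] <;> ring

theorem phi_mul (x y : Ico) : phi (mul x y) = phi x * phi y := by
  apply Quaternion.ext <;> simp [mul, d0, d1, d2, d3, d4, d5, d6, d7]
  all_goals (ring_nf; simp only [tau_sq2]; ring_nf)

theorem even_iff {x : Ico} : x.even = true ↔ dbl (half x) = x := by
  simp only [even, dbl, half, Bool.and_eq_true, decide_eq_true_eq, Ico.ext_iff]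
  omega

end Ico

end CfsgHJ
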