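/-
The icosian Leech lattice in coordinates.
-/
import Cfsg.Agent.Lib.HallJanko.Ico

set_option autoImplicit false

namespace CfsgHJ

open Quaternion Cfsg.Spor Ico

namespace Ico

theorem tau_irrational {p r : ℤ} (h : (p : ℝ) + (r : ℝ) * tau = 0) : p = 0 ∧ r = 0 := by
  have hi : Irrational tau := by
    have := Real.goldenRatio_irrational
    exact this
  have hr : r = 0 := by
    by_contra hne
    exact (hi.intCast_mul hne).ne_int (-p) (by push_cast; linarith)
  subst hr
  simp at h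
  exact ⟨h, rfl⟩

theorem phi_inj : Function.Injective phi := by
  intro x y h
  have key : ∀ a b c d : ℤ, ((a : ℝ) + b * tau) / 2 = ((c : ℝ) + d * tau) / 2 → a = c ∧ b = d := by
    intro a b c d e
    obtain ⟨e1, e2⟩ := tau_irrational (p := a - c) (r := b - d) (by push_cast; linarith)
    omega
  obtain ⟨h0, h1⟩ := key _ _ _ _ (by simpa using congrArg (fun q : ℍ[ℝ] => q.re) h)
  obtain ⟨h2, h3⟩ := key _ _ _ _ (by simpa using congrArg (fun q : ℍ[ℝ] => q.imI) h)
  obtain ⟨h4, h5⟩ := key _ _ _ _ (by simpa using congrArg (fun q : ℍ[ℝ] => q.imJ) h)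
  obtain ⟨h6, h7⟩ := key _ _ _ _ (by simpa using congrArg (fun q : ℍ[ℝ] => q.imK) h)
  rw [← back_dd x, ← back_dd y]
  simp only [dd, h0, h1, h2, h3, h4, h5, h6, h7]

theorem phi_mem (n : Ico) : phi n ∈ icosians := by
  have hI : qI ∈ icosians := Subring.subset_closure (Or.inl rfl)
  have hW : phi iW ∈ icosians := by rw [phi_iW]; exact Subring.subset_closure (Or.inr rfl)
  have key : phi n = (n.c0 : ℍ[ℝ]) + (n.c1 : ℍ[ℝ]) * phi iI + (n.c2 : ℍ[ℝ]) * phi iW +
      (n.c3 : ℍ[ℝ]) * phi (mul iI iW) + (n.c4 : ℍ[ℝ]) * phi (mul iW iI) +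
      (n.c5 : ℍ[ℝ]) * phi (mul iI (mul iW iI)) + (n.c6 : ℍ[ℝ]) * phi (mul iW (mul iI iW)) +
      (n.c7 : ℍ[ℝ]) * phi (mul iI (mul iW (mul iI iW))) := by
    apply Quaternion.ext <;> simp [iI, iW, Ico.mul, d0, d1, d2, d3, d4, d5, d6, d7] <;> ring
  rw [key]
  simp only [phi_mul, phi_iI]
  exact add_mem (add_mem (add_mem (add_mem (add_mem (add_mem (add_mem (intCast_mem _ _)
    (mul_mem (intCast_mem _ _) hI)) (mul_mem (intCast_mem _ _) hW))
    (mul_mem (intCast_mem _ _) (mul_mem hI hW))) (mul_mem (intCast_mem _ _) (mul_mem hW hI)))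
    (mul_mem (intCast_mem _ _) (mul_mem hI (mul_mem hW hI))))
    (mul_mem (intCast_mem _ _) (mul_mem hW (mul_mem hI hW))))
    (mul_mem (intCast_mem _ _) (mul_mem hI (mul_mem hW (mul_mem hI hW))))

theorem mem_icosians {q : ℍ[ℝ]} : q ∈ icosians ↔ ∃ n, phi n = q := by
  refine ⟨fun h => ?_, fun ⟨n, hn⟩ => hn ▸ phi_mem n⟩
  induction h using Subring.closure_induction with
  | mem x hx =>
    rcases hx with rfl | rfl
    · exact ⟨iI, phi_iI⟩
    · exact ⟨iW, phi_iW⟩
  | zero => exact ⟨zero, phi_zero⟩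
  | one => exact ⟨one, phi_one⟩
  | add x y _ _ hx hy =>
    obtain ⟨a, rfl⟩ := hx; obtain ⟨b, rfl⟩ := hy; exact ⟨add a b, phi_add a b⟩
  | neg x _ hx => obtain ⟨a, rfl⟩ := hx; exact ⟨neg a, phi_neg a⟩
  | mul x y _ _ hx hy =>
    obtain ⟨a, rfl⟩ := hx; obtain ⟨b, rfl⟩ := hy; exact ⟨mul a b, phi_mul a b⟩

theorem mul_assoc' (a b c : Ico) : mul (mul a b) c = mul a (mul b c) :=
  phi_inj (by simp only [phi_mul, mul_assoc])

theorem one_mul' (a : Ico) : mul one a = a := phi_inj (by simp only [phi_mul, phi_one, one_mul])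

theorem mul_one' (a : Ico) : mul a one = a := phi_inj (by simp only [phi_mul, phi_one, mul_one])

theorem phi_hB : phi hB = star icoH := by
  rw [show hB = conj hH by rfl, phi_conj, phi_hH]

theorem phi_eq_zero {a : Ico} : phi a = 0 ↔ a = zero :=
  ⟨fun h => phi_inj (h.trans phi_zero.symm), fun h => h ▸ phi_zero⟩

end Ico

theorem smul_two (q : ℍ[ℝ]) : (2 : ℝ) • q = q * 2 := by
  rw [mul_two, two_smul]

theorem icoH_star : icoH * star icoH = 2 := by
  rw [← phi_hH, ← phi_conj, ← phi_mul, show mul hH (conj hH) = dbl one by decide +kernel, phi_dbl, phi_one]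
  rw [smul_two, one_mul]

theorem star_icoH_mul : star icoH * icoH = 2 := by
  rw [← phi_hH, ← phi_conj, ← phi_mul, show mul (conj hH) hH = dbl one by decide +kernel, phi_dbl, phi_one]
  rw [smul_two, one_mul]

def inH (v : Ico) : Bool := (mul v hB).even

def inB (v : Ico) : Bool := (mul v hH).even

theorem inH_iff {v : Ico} : inH v = true ↔ phi v ∈ leftIdeal icoH := by
  constructor
  · intro h
    refine ⟨phi (half (mul v hB)), phi_mem _, ?_⟩
    have e := congrArg phi (Ico.even_iff.mp h)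
    rw [phi_dbl, phi_mul, phi_hB] at e
    apply smul_right_injective ℍ[ℝ] (two_ne_zero (α := ℝ))
    simp only
    rw [← smul_mul_assoc, e, mul_assoc, star_icoH_mul, smul_two]
  · rintro ⟨q, hq, he⟩
    obtain ⟨a, rfl⟩ := mem_icosians.mp hq
    have : mul v hB = dbl a := phi_inj (by
      rw [phi_mul, phi_hB, he, mul_assoc, icoH_star, phi_dbl, smul_two])
    rw [inH, this]
    simp [Ico.even, dbl]

theorem inB_iff {v : Ico} : inB v = true ↔ phi v ∈ leftIdeal (star icoH) := by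
  constructor
  · intro h
    refine ⟨phi (half (mul v hH)), phi_mem _, ?_⟩
    have e := congrArg phi (Ico.even_iff.mp h)
    rw [phi_dbl, phi_mul, phi_hH] at e
    apply smul_right_injective ℍ[ℝ] (two_ne_zero (α := ℝ))
    simp only
    rw [← smul_mul_assoc, e, mul_assoc, icoH_star, smul_two]
  · rintro ⟨q, hq, he⟩
    obtain ⟨a, rfl⟩ := mem_icosians.mp hq
    have : mul v hH = dbl a := phi_inj (by
      rw [phi_mul, phi_hH, he, mul_assoc, star_icoH_mul, phi_dbl, smul_two])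
    rw [inB, this]
    simp [Ico.even, dbl]

/-- Triples of icosians. -/
abbrev Vec : Type := Ico × Ico × Ico

noncomputable def phi3 (v : Vec) : Fin 3 → ℍ[ℝ] := ![phi v.1, phi v.2.1, phi v.2.2]

theorem phi3_inj : Function.Injective phi3 := fun a b h =>
  Prod.ext (phi_inj (congrFun h 0)) (Prod.ext (phi_inj (congrFun h 1)) (phi_inj (congrFun h 2)))

/-- Membership of the lattice. -/
def inLam (v : Vec) : Bool :=
  inH (sub v.1 v.2.1) && inH (sub v.2.1 v.2.2) && inB (add (add v.1 v.2.1) v.2.2)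

theorem phi3_mem {v : Vec} : phi3 v ∈ icoLeech ↔ inLam v = true := by
  simp only [icoLeech, Set.mem_setOf_eq, inLam, Bool.and_eq_true, inH_iff, inB_iff, phi_add, phi_sub]
  constructor
  · rintro ⟨-, h1, h2, h3⟩; exact ⟨⟨h1, h2⟩, h3⟩
  · rintro ⟨⟨h1, h2⟩, h3⟩
    refine ⟨fun t => ?_, h1, h2, h3⟩
    fin_cases t <;> exact phi_mem _

theorem exists_vec {x : Fin 3 → ℍ[ℝ]} (hx : x ∈ icoLeech) : ∃ v, inLam v = true ∧ phi3 v = x := by
  obtain ⟨a, ha⟩ := mem_icosians.mp (hx.1 0)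
  obtain ⟨b, hb⟩ := mem_icosians.mp (hx.1 1)
  obtain ⟨c, hc⟩ := mem_icosians.mp (hx.1 2)
  have e : phi3 (a, b, c) = x := by
    funext t; fin_cases t <;> simp [phi3, ha, hb, hc]
  exact ⟨(a, b, c), phi3_mem.mp (e ▸ hx), e⟩

/-- The hermitian product. -/
def ipV (x r : Vec) : Ico :=
  add (add (mul x.1 (conj r.1)) (mul x.2.1 (conj r.2.1))) (mul x.2.2 (conj r.2.2))

theorem phi_ipV (x r : Vec) : phi (ipV x r) = qip (phi3 x) (phi3 r) := by
  simp [ipV, qip, phi3, Fin.sum_univ_three, phi_add, phi_mul, phi_conj]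

def four : Ico := ⟨4, 0, 0, 0, 0, 0, 0, 0⟩

theorem phi_four : phi four = 4 := by
  rw [show four = dbl (dbl one) by rfl, phi_dbl, phi_dbl, phi_one, smul_two, smul_two, one_mul]; norm_num

theorem qip_four_iff {r : Vec} : qip (phi3 r) (phi3 r) = 4 ↔ ipV r r = four := by
  rw [← phi_ipV, ← phi_four]; exact phi_inj.eq_iff

def smulV (a : Ico) (v : Vec) : Vec := (mul a v.1, mul a v.2.1, mul a v.2.2)

theorem phi3_smulV (a : Ico) (v : Vec) : phi3 (smulV a v) = fun t => phi a * phi3 v t := by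
  funext t; fin_cases t <;> simp [phi3, smulV, phi_mul]

theorem ipV_smul (a : Ico) (x r : Vec) : ipV (smulV a x) r = mul a (ipV x r) := by
  apply phi_inj
  simp only [ipV, smulV, phi_add, phi_mul, mul_add, mul_assoc]

theorem ipV_smul_right (a : Ico) (x r : Vec) : ipV x (smulV a r) = mul (ipV x r) (conj a) := by
  apply phi_inj
  simp only [ipV, smulV, phi_add, phi_mul, phi_conj, star_mul, add_mul, mul_assoc]

end CfsgHJ
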