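/-
Tables for the minimal vectors of the icosian lattice (computed outside, checked in MinVec).
-/
import Cfsg.Agent.Lib.HallJanko.Ico

set_option autoImplicit false

namespace CfsgHJ

open Ico

def eI : Ico := ⟨-1,2,0,-2,-2,0,1,-1⟩

def unitL : List Ico := [
  ⟨1,0,0,0,0,0,0,0⟩, ⟨-1,0,0,0,0,0,0,0⟩, ⟨0,-1,0,1,1,0,-1,1⟩, ⟨-1,-1,1,0,0,-1,1,1⟩, ⟨0,0,-1,0,0,1,-1,-1⟩,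
  ⟨-1,0,0,-1,-1,0,1,-1⟩, ⟨0,0,-1,0,0,0,0,0⟩, ⟨0,0,0,0,0,1,0,0⟩, ⟨-1,-1,1,0,1,-1,0,1⟩, ⟨-1,0,0,0,-1,0,0,-1⟩,
  ⟨0,0,0,1,0,1,-1,0⟩, ⟨-1,0,0,0,-1,-1,1,0⟩, ⟨0,0,0,0,1,1,-1,0⟩, ⟨-1,0,0,-1,0,-1,1,0⟩, ⟨0,0,0,0,1,0,0,1⟩,
  ⟨0,1,-1,0,-1,1,0,-1⟩, ⟨-1,0,0,0,0,-1,0,0⟩, ⟨-1,0,1,0,0,0,0,0⟩, ⟨0,0,0,1,1,0,-1,1⟩, ⟨-1,0,1,0,0,-1,1,1⟩,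
  ⟨0,1,-1,0,0,1,-1,-1⟩, ⟨-1,1,0,-1,-1,0,1,-1⟩, ⟨0,-1,0,1,0,0,0,0⟩, ⟨0,-1,0,0,1,0,0,0⟩, ⟨0,-1,0,1,1,0,-1,0⟩,
  ⟨-1,-1,1,0,0,-1,1,0⟩, ⟨0,-1,0,1,1,-1,0,1⟩, ⟨0,-1,1,1,1,0,0,1⟩, ⟨0,0,-1,0,0,0,0,-1⟩, ⟨0,0,0,0,0,1,0,-1⟩,
  ⟨1,0,-1,1,1,1,-1,0⟩, ⟨0,0,0,0,0,0,1,0⟩, ⟨0,0,0,1,0,0,0,0⟩, ⟨0,0,0,0,1,0,0,0⟩, ⟨0,0,0,0,0,1,-1,0⟩,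
  ⟨-1,0,0,-1,-1,-1,1,0⟩, ⟨0,0,0,0,0,0,0,1⟩, ⟨0,1,-1,-1,-1,1,0,-1⟩, ⟨0,0,0,0,1,0,-1,1⟩, ⟨-1,0,1,-1,0,-1,1,1⟩,
  ⟨0,1,-1,0,-1,1,-1,-1⟩, ⟨-1,1,0,-1,-2,0,1,-1⟩, ⟨-1,0,1,0,0,-1,0,1⟩, ⟨-1,1,0,-1,-1,0,0,-1⟩, ⟨0,1,0,0,0,1,-1,0⟩,
  ⟨-1,1,0,-1,-1,-1,1,0⟩, ⟨0,-1,0,0,0,0,0,0⟩, ⟨0,-1,0,0,1,-1,0,1⟩, ⟨0,-1,1,0,1,0,0,1⟩, ⟨0,0,-1,0,-1,0,0,-1⟩,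
  ⟨0,0,0,0,-1,1,0,-1⟩, ⟨1,0,-1,1,0,1,-1,0⟩, ⟨0,0,0,0,-1,0,1,0⟩, ⟨1,0,-1,0,1,1,-1,0⟩, ⟨0,0,0,-1,0,0,1,0⟩,
  ⟨0,-1,1,1,1,0,-1,1⟩, ⟨-1,-1,1,0,0,-2,1,1⟩, ⟨0,0,0,0,0,1,-1,-1⟩, ⟨-1,0,0,-1,-1,-1,1,-1⟩, ⟨0,-1,1,1,1,-1,0,2⟩,
  ⟨1,0,-1,1,1,1,-2,0⟩, ⟨-1,0,1,-1,-1,-1,2,0⟩, ⟨0,1,-1,-1,-1,1,0,-2⟩, ⟨1,0,0,1,1,1,-1,1⟩, ⟨0,0,0,0,0,-1,1,1⟩,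
  ⟨1,1,-1,0,0,2,-1,-1⟩, ⟨0,1,-1,-1,-1,0,1,-1⟩, ⟨0,0,0,1,0,0,-1,0⟩, ⟨-1,0,1,0,-1,-1,1,0⟩, ⟨0,0,0,0,1,0,-1,0⟩,
  ⟨-1,0,1,-1,0,-1,1,0⟩, ⟨0,0,0,0,1,-1,0,1⟩, ⟨0,0,1,0,1,0,0,1⟩, ⟨0,1,-1,0,-1,0,0,-1⟩, ⟨0,1,0,0,-1,1,0,-1⟩,
  ⟨0,1,0,0,0,0,0,0⟩, ⟨1,-1,0,1,1,1,-1,0⟩, ⟨0,-1,0,0,0,-1,1,0⟩, ⟨1,-1,0,1,1,0,0,1⟩, ⟨1,0,-1,0,0,1,0,-1⟩,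
  ⟨1,-1,0,1,2,0,-1,1⟩, ⟨0,-1,1,0,1,-1,1,1⟩, ⟨1,0,-1,1,0,1,-1,-1⟩, ⟨0,0,0,0,-1,0,1,-1⟩, ⟨0,-1,1,1,1,-1,0,1⟩,
  ⟨0,0,0,0,0,0,0,-1⟩, ⟨1,0,0,1,1,1,-1,0⟩, ⟨0,0,0,0,0,-1,1,0⟩, ⟨0,0,0,0,-1,0,0,0⟩, ⟨0,0,0,-1,0,0,0,0⟩,
  ⟨0,0,0,0,0,0,-1,0⟩, ⟨-1,0,1,-1,-1,-1,1,0⟩, ⟨0,0,0,0,0,-1,0,1⟩, ⟨0,0,1,0,0,0,0,1⟩, ⟨0,1,-1,-1,-1,0,0,-1⟩,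
  ⟨0,1,0,-1,-1,1,0,-1⟩, ⟨1,1,-1,0,0,1,-1,0⟩, ⟨0,1,0,-1,-1,0,1,0⟩, ⟨0,1,0,0,-1,0,0,0⟩, ⟨0,1,0,-1,0,0,0,0⟩,
  ⟨1,-1,0,1,1,0,-1,1⟩, ⟨0,-1,1,0,0,-1,1,1⟩, ⟨1,0,-1,0,0,1,-1,-1⟩, ⟨0,0,0,-1,-1,0,1,-1⟩, ⟨1,0,-1,0,0,0,0,0⟩,
  ⟨1,0,0,0,0,1,0,0⟩, ⟨0,-1,1,0,1,-1,0,1⟩, ⟨0,0,0,0,-1,0,0,-1⟩, ⟨1,0,0,1,0,1,-1,0⟩, ⟨0,0,0,0,-1,-1,1,0⟩,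
  ⟨1,0,0,0,1,1,-1,0⟩, ⟨0,0,0,-1,0,-1,1,0⟩, ⟨1,0,0,0,1,0,0,1⟩, ⟨1,1,-1,0,-1,1,0,-1⟩, ⟨0,0,0,0,0,-1,0,0⟩,
  ⟨0,0,1,0,0,0,0,0⟩, ⟨1,0,0,1,1,0,-1,1⟩, ⟨0,0,1,0,0,-1,1,1⟩, ⟨1,1,-1,0,0,1,-1,-1⟩, ⟨0,1,0,-1,-1,0,1,-1⟩]

def repL : List Ico := [
  ⟨1,0,0,0,0,0,0,0⟩, ⟨0,1,0,-1,-1,-1,1,0⟩, ⟨1,0,0,0,1,0,0,0⟩, ⟨1,1,0,0,0,0,0,0⟩,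
  ⟨1,1,0,0,-1,1,0,-1⟩, ⟨1,1,-1,0,-1,0,0,-1⟩, ⟨1,0,1,0,1,0,0,1⟩, ⟨1,0,0,0,1,-1,0,1⟩]

def shortTab : List (List (ℕ × ℕ)) := [
  [(1,3), (1,4), (1,5), (1,6), (1,7), (15,4), (11,5), (12,6), (14,7), (10,4), (16,5), (17,6), (13,7), (18,3), (20,3), (1,0), (19,3), (21,3), (18,7), (14,6), (15,5), (21,4), (16,7), (19,6), (20,5), (17,4), (71,7), (72,6), (73,5), (74,4), (75,3)],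
  [(8,7), (9,4), (28,5), (1,1), (13,1), (27,6), (26,1), (31,1), (16,3), (9,5), (8,6), (17,3), (18,6), (32,4), (33,1), (19,1), (28,1), (11,1), (33,7), (21,5), (26,7), (32,3), (33,3), (29,4), (16,1), (21,1), (20,4), (32,1), (87,1), (19,7), (32,5)],
  [(33,6), (25,1), (6,5), (7,6), (38,7), (1,2), (12,2), (41,4), (7,4), (14,3), (15,3), (6,7), (43,2), (39,2), (44,6), (38,2), (44,2), (19,4), (20,7), (13,2), (21,2), (45,5), (20,2), (14,2), (44,3), (39,6), (40,5), (45,3), (18,5), (45,2), (99,2)],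
  [(21,6), (44,4), (45,7), (10,6), (11,4), (12,7), (13,5), (2,7), (14,1), (6,1), (5,4), (4,5), (8,2), (17,2), (3,6), (2,0), (10,3), (47,7), (3,0), (12,3), (48,6), (49,5), (11,3), (4,0), (50,4), (13,3), (5,0), (26,5), (63,6), (30,1), (6,0)],
  [(7,0), (64,1), (66,5), (29,6), (30,3), (31,4), (30,7), (31,3), (42,2), (69,7), (8,0), (39,7), (40,4), (9,0), (68,4), (70,2), (38,6), (18,1), (71,1), (27,4), (16,2), (10,0), (11,0), (19,2), (69,2), (12,0), (13,0), (72,2), (28,7), (15,1), (66,1)],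
  [(41,5), (18,2), (30,5), (14,0), (19,5), (20,6), (15,0), (31,6), (33,2), (42,6), (42,3), (43,3), (43,5), (18,4), (42,7), (20,1), (16,0), (17,0), (45,1), (43,4), (21,7), (18,0), (10,5), (71,3), (19,0), (12,4), (72,3), (73,3), (11,7), (20,0), (74,3)],
  [(13,6), (21,0), (65,4), (71,2), (75,2), (64,7), (67,5), (75,1), (73,1), (70,6), (75,6), (75,4), (75,7), (75,5), (2,6), (22,4), (23,7), (5,5), (23,1), (3,1), (55,6), (8,3), (9,3), (58,5), (8,1), (24,7), (22,0), (3,7), (4,4), (23,0), (25,4)],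
  [(5,1), (22,5), (26,3), (80,7), (27,1), (81,1), (27,3), (28,3), (22,1), (77,1), (83,4), (29,3), (23,6), (30,6), (31,5), (24,5), (59,6), (24,0), (17,7), (16,4), (25,0), (62,5), (25,6), (24,1), (26,0), (27,0), (56,1), (33,5), (72,7), (73,4), (32,6)],
  [(29,1), (28,0), (29,0), (61,1), (30,4), (59,7), (30,0), (86,6), (87,5), (31,0), (62,4), (31,7), (67,4), (70,7), (67,3), (56,7), (69,3), (17,1), (70,1), (17,5), (16,6), (9,1), (58,1), (68,3), (57,4), (70,3), (84,1), (82,5), (32,0), (68,5), (69,6)],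
  [(33,0), (81,6), (83,1), (86,3), (33,4), (32,7), (87,3), (85,1), (68,1), (71,6), (86,4), (87,7), (74,5), (24,3), (25,5), (24,6), (25,3), (28,4), (27,7), (24,4), (25,7), (82,4), (26,6), (29,5), (81,7), (80,6), (83,5), (85,5), (84,6), (84,7), (84,3)],
  [(85,3), (85,4), (37,2), (34,6), (3,4), (4,7), (35,5), (6,3), (52,4), (53,7), (7,3), (34,2), (5,2), (2,5), (36,6), (4,2), (34,0), (35,0), (7,2), (37,5), (5,6), (60,7), (36,0), (36,7), (14,5), (15,6), (37,4), (37,0), (61,4), (65,6), (64,5)],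
  [(38,3), (93,6), (40,3), (35,2), (41,2), (35,7), (34,4), (89,2), (95,2), (39,3), (94,5), (41,3), (40,2), (36,2), (38,0), (44,7), (71,5), (39,0), (40,0), (74,6), (45,4), (41,0), (62,2), (54,2), (14,4), (63,3), (51,5), (6,2), (15,2), (64,3), (65,3)],
  [(53,2), (65,2), (54,6), (66,3), (15,7), (43,7), (42,4), (60,5), (42,0), (42,5), (99,7), (98,4), (43,6), (43,0), (61,6), (63,4), (92,7), (94,2), (44,0), (45,0), (97,2), (95,4), (66,7), (96,2), (66,2), (45,6), (98,3), (99,3), (44,5), (99,6), (72,4)],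
  [(73,7), (98,5), (2,3), (4,3), (46,0), (3,3), (5,3), (6,4), (2,1), (47,1), (3,5), (4,6), (7,1), (54,1), (7,7), (78,1), (2,4), (8,5), (9,2), (3,2), (57,2), (48,2), (9,6), (5,7), (51,4), (2,2), (10,2), (56,5), (12,1), (47,0), (48,0)],
  [(39,1), (4,1), (49,0), (50,0), (35,1), (57,6), (23,2), (29,2), (54,7), (80,1), (59,1), (51,0), (10,7), (6,6), (52,0), (53,0), (7,5), (13,4), (54,0), (79,1), (52,1), (53,6), (63,7), (66,4), (52,5), (91,2), (90,2), (55,0), (56,0), (93,2), (12,5)],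
  [(8,4), (9,7), (11,6), (58,2), (57,0), (58,0), (61,2), (60,3), (59,0), (59,3), (72,1), (11,2), (60,0), (10,1), (47,2), (0,0), (74,2), (111,1), (61,0), (110,2), (49,1), (62,3), (62,0), (61,3), (60,2), (63,0), (64,0), (63,2), (110,6), (112,7), (113,4)],
  [(109,5), (28,2), (65,0), (66,0), (31,2), (30,2), (69,5), (55,4), (58,7), (68,6), (69,1), (42,1), (67,0), (108,4), (114,5), (68,0), (69,0), (115,6), (111,7), (70,0), (62,1), (41,1), (67,7), (92,2), (98,2), (64,6), (86,1), (71,0), (72,0), (117,1), (82,1)],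
  [(73,0), (74,0), (109,1), (65,5), (111,2), (119,2), (70,4), (116,7), (112,6), (73,2), (64,2), (118,2), (112,2), (113,5), (119,4), (43,1), (114,7), (67,1), (114,1), (117,6), (118,5), (74,1), (119,1), (115,4), (116,3), (118,3), (75,0), (117,3), (119,3), (23,5), (48,7)],
  [(49,4), (22,6), (77,5), (22,3), (23,3), (76,6), (55,2), (25,2), (55,7), (26,4), (24,2), (76,0), (77,0), (27,2), (29,7), (58,4), (60,6), (78,0), (78,6), (23,4), (22,7), (79,5), (79,0), (61,5), (79,4), (78,7), (106,7), (55,3), (67,6), (56,2), (68,2)],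
  [(56,3), (57,3), (106,2), (115,2), (70,5), (58,3), (107,4), (67,2), (59,2), (80,0), (76,4), (47,6), (81,0), (82,0), (50,5), (77,7), (83,0), (85,2), (81,2), (80,3), (27,5), (82,3), (26,2), (32,2), (87,4), (86,7), (80,2), (86,2), (81,3), (28,6), (83,3)],
  [(57,5), (56,6), (60,4), (84,0), (84,4), (106,6), (107,5), (85,7), (85,0), (61,7), (116,6), (84,5), (114,2), (86,0), (87,0), (117,2), (85,6), (119,5), (116,2), (87,2), (114,3), (68,7), (69,4), (115,3), (86,5), (117,7), (118,4), (87,6), (84,2), (36,4), (36,3)],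
  [(37,3), (37,7), (37,6), (36,5), (38,5), (41,6), (40,7), (92,5), (95,6), (39,4), (96,7), (97,4), (94,7), (93,4), (96,3), (97,6), (96,5), (97,3), (47,5), (34,7), (35,4), (50,6), (53,1), (36,1), (34,3), (89,7), (88,4), (35,3), (38,1), (40,6), (88,0)],
  [(52,6), (53,5), (89,0), (39,5), (37,1), (51,3), (64,4), (53,3), (63,1), (112,1), (105,6), (104,5), (51,1), (104,1), (52,3), (65,7), (54,3), (51,7), (54,4), (90,7), (59,4), (90,0), (34,5), (35,6), (91,0), (62,7), (91,4), (60,1), (92,0), (93,0), (92,1)],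
  [(89,6), (48,4), (49,7), (88,5), (65,1), (94,0), (95,0), (97,1), (96,6), (59,5), (96,0), (105,4), (104,7), (97,0), (62,6), (97,5), (90,5), (91,6), (98,6), (92,3), (38,4), (44,1), (99,1), (93,3), (94,3), (40,1), (94,1), (41,7), (95,3), (99,5), (116,1)],
  [(96,4), (98,0), (117,4), (118,7), (99,0), (97,7), (113,1), (63,5), (112,3), (113,3), (66,6), (118,1), (98,1), (116,5), (98,7), (99,4), (119,6), (46,5), (46,7), (46,4), (46,6), (51,6), (48,1), (46,1), (54,5), (57,7), (46,2), (50,2), (56,4), (100,0), (108,6)],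
  [(47,3), (101,0), (110,7), (48,3), (49,3), (109,4), (102,0), (50,3), (111,5), (103,0), (100,7), (78,4), (76,1), (104,0), (105,0), (101,1), (79,7), (103,4), (78,5), (78,3), (79,3), (79,6), (88,2), (90,6), (106,0), (101,6), (102,5), (107,0), (91,5), (103,2), (80,5)],
  [(55,1), (106,1), (93,7), (49,2), (108,0), (109,0), (52,2), (102,2), (110,0), (111,0), (105,2), (94,4), (50,1), (103,1), (83,6), (51,2), (53,4), (112,0), (81,4), (82,7), (113,0), (52,7), (79,2), (90,3), (91,7), (90,4), (91,3), (92,6), (55,5), (57,1), (114,0)],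
  [(115,0), (91,1), (58,6), (95,5), (116,0), (108,3), (71,4), (117,0), (110,3), (72,5), (73,6), (109,3), (118,0), (74,7), (111,3), (119,0), (118,6), (104,2), (113,2), (117,5), (116,4), (115,1), (107,1), (119,7), (108,5), (109,7), (110,4), (111,6), (76,7), (77,4), (100,6)],
  [(22,2), (76,2), (103,5), (76,3), (81,5), (82,6), (77,3), (107,2), (101,2), (76,5), (100,2), (108,2), (101,7), (102,4), (77,2), (83,2), (77,6), (82,2), (78,2), (115,7), (106,3), (107,3), (114,4), (80,4), (109,2), (0,2), (83,7), (114,6), (115,5), (96,1), (88,6)],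
  [(89,5), (102,7), (34,1), (89,1), (101,4), (100,1), (105,1), (92,4), (88,3), (89,3), (95,7), (100,5), (88,7), (110,1), (93,1), (102,1), (88,1), (89,4), (103,6), (104,3), (113,6), (112,5), (105,3), (90,1), (95,1), (94,6), (108,1), (0,1), (93,5), (112,4), (113,7)],
  [(46,3), (47,4), (48,5), (49,6), (50,7), (104,4), (101,5), (102,6), (105,7), (100,4), (106,5), (107,6), (103,7), (100,3), (102,3), (0,0), (101,3), (103,3), (108,7), (104,6), (105,5), (111,4), (107,7), (109,6), (110,5), (106,4), (0,7), (0,6), (0,5), (0,4), (0,3)]]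

def bucketL : List (List (List Ico)) := [
 [[⟨0,0,0,0,0,0,0,0⟩],
  [⟨-1,0,0,0,0,0,0,0⟩, ⟨1,0,0,0,0,0,0,0⟩],
  [⟨0,-1,0,0,0,0,0,0⟩, ⟨0,1,0,0,0,0,0,0⟩],
  [⟨-1,-1,0,0,0,0,0,0⟩, ⟨-1,1,0,0,0,0,0,0⟩, ⟨1,-1,0,2,2,0,-2,2⟩, ⟨-1,-1,2,0,0,-2,2,2⟩, ⟨1,1,-2,0,0,2,-2,-2⟩, ⟨-1,1,0,-2,-2,0,2,-2⟩, ⟨1,-1,0,0,0,0,0,0⟩, ⟨1,1,0,0,0,0,0,0⟩],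
  [⟨0,0,-1,0,0,0,0,0⟩, ⟨0,0,1,0,0,0,0,0⟩],
  [⟨-1,0,1,0,0,0,0,0⟩, ⟨1,0,-1,0,0,0,0,0⟩],
  [⟨0,1,-1,0,0,0,0,0⟩, ⟨0,-1,1,0,0,0,0,0⟩],
  [⟨-1,-1,1,0,0,0,0,0⟩, ⟨1,1,-1,0,0,0,0,0⟩],
  [⟨0,0,0,1,0,0,0,0⟩, ⟨0,0,0,-1,0,0,0,0⟩],
  [⟨-1,0,0,-1,0,0,0,0⟩, ⟨1,0,0,1,0,0,0,0⟩],
  [⟨0,-1,0,1,0,0,0,0⟩, ⟨0,1,0,-1,0,0,0,0⟩],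
  [⟨-1,1,0,-1,0,0,0,0⟩, ⟨1,-1,0,1,0,0,0,0⟩],
  [⟨0,0,-1,1,0,0,0,0⟩, ⟨0,0,-1,-1,0,0,0,0⟩, ⟨-2,0,1,-1,-2,-2,2,0⟩, ⟨0,2,-1,-1,-2,2,0,-2⟩, ⟨0,-2,1,1,2,-2,0,2⟩, ⟨2,0,-1,1,2,2,-2,0⟩, ⟨0,0,1,1,0,0,0,0⟩, ⟨0,0,1,-1,0,0,0,0⟩],
  [⟨-1,0,1,-1,0,0,0,0⟩, ⟨1,0,-1,1,0,0,0,0⟩],
  [⟨0,1,-1,-1,0,0,0,0⟩, ⟨0,-1,1,1,0,0,0,0⟩],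
  [⟨-1,-1,1,1,0,0,0,0⟩, ⟨-1,1,-1,-1,-2,0,0,-2⟩, ⟨1,1,-1,1,0,2,-2,0⟩, ⟨-1,1,1,-1,0,0,0,0⟩, ⟨1,-1,-1,1,0,0,0,0⟩, ⟨-1,-1,1,-1,0,-2,2,0⟩, ⟨1,-1,1,1,2,0,0,2⟩, ⟨1,1,-1,-1,0,0,0,0⟩]],
 [[⟨0,0,0,0,1,0,0,0⟩, ⟨0,0,0,0,-1,0,0,0⟩],
  [⟨-1,0,0,0,-1,0,0,0⟩, ⟨1,0,0,0,1,0,0,0⟩],
  [⟨0,-1,0,0,1,0,0,0⟩, ⟨0,1,0,0,-1,0,0,0⟩],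
  [⟨-1,1,0,0,-1,0,0,0⟩, ⟨1,-1,0,0,1,0,0,0⟩],
  [⟨0,0,-1,0,1,0,0,0⟩, ⟨0,0,-1,0,-1,0,0,0⟩, ⟨-2,0,1,-2,-1,-2,2,0⟩, ⟨0,0,1,0,1,0,0,2⟩, ⟨0,0,-1,0,-1,0,0,-2⟩, ⟨2,0,-1,2,1,2,-2,0⟩, ⟨0,0,1,0,1,0,0,0⟩, ⟨0,0,1,0,-1,0,0,0⟩],
  [⟨-1,0,1,0,-1,0,0,0⟩, ⟨1,0,-1,0,1,0,0,0⟩],
  [⟨0,1,-1,0,-1,0,0,0⟩, ⟨0,-1,1,0,1,0,0,0⟩],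
  [⟨-1,-1,1,0,1,0,0,0⟩, ⟨-1,-1,1,0,1,-2,0,2⟩, ⟨1,1,-1,0,1,2,-2,0⟩, ⟨-1,1,1,0,-1,0,0,0⟩, ⟨1,-1,-1,0,1,0,0,0⟩, ⟨-1,-1,1,0,-1,-2,2,0⟩, ⟨1,1,-1,0,-1,2,0,-2⟩, ⟨1,1,-1,0,-1,0,0,0⟩],
  [⟨0,0,0,1,-1,0,0,0⟩, ⟨0,0,0,-1,1,0,0,0⟩],
  [⟨1,0,0,1,1,2,-2,0⟩, ⟨-1,0,0,-1,-1,-2,2,0⟩],
  [⟨0,-1,0,1,1,0,0,0⟩, ⟨0,1,0,-1,-1,0,0,0⟩],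
  [⟨-1,1,0,-1,-1,0,0,0⟩, ⟨1,-1,0,1,1,0,0,0⟩],
  [⟨-2,0,1,-1,-1,-2,2,0⟩, ⟨2,0,-1,1,1,2,-2,0⟩],
  [⟨1,0,-1,1,1,2,-2,0⟩, ⟨-1,0,1,-1,-1,-2,2,0⟩],
  [⟨-2,-1,1,-1,-1,-2,2,0⟩, ⟨0,-1,1,1,1,0,0,2⟩, ⟨0,1,-1,-1,-1,2,0,-2⟩, ⟨0,-1,1,1,1,0,0,0⟩, ⟨0,1,-1,-1,-1,0,0,0⟩, ⟨0,-1,1,1,1,-2,0,2⟩, ⟨0,1,-1,-1,-1,0,0,-2⟩, ⟨2,1,-1,1,1,2,-2,0⟩],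
  [⟨-1,-1,1,1,1,-2,0,2⟩, ⟨-1,1,-1,-1,-1,0,0,-2⟩, ⟨1,1,-1,1,1,2,-2,0⟩, ⟨1,-1,-1,1,1,0,0,0⟩, ⟨-1,1,1,-1,-1,0,0,0⟩, ⟨-1,-1,1,-1,-1,-2,2,0⟩, ⟨1,-1,1,1,1,0,0,2⟩, ⟨1,1,-1,-1,-1,2,0,-2⟩]],
 [[⟨0,0,0,0,0,1,0,0⟩, ⟨0,0,0,0,0,-1,0,0⟩],
  [⟨-1,0,0,0,0,-1,0,0⟩, ⟨1,0,0,0,0,1,0,0⟩],
  [⟨0,1,0,0,0,1,0,0⟩, ⟨0,-1,0,0,0,-1,0,0⟩],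
  [⟨-1,-1,0,0,0,-1,0,0⟩, ⟨1,1,0,0,0,1,0,0⟩],
  [⟨0,0,-1,0,0,-1,0,0⟩, ⟨0,0,1,0,0,1,0,0⟩],
  [⟨1,0,-1,0,0,1,0,0⟩, ⟨-1,0,1,0,0,-1,0,0⟩],
  [⟨0,-1,1,0,2,-1,0,2⟩, ⟨0,1,-1,0,-2,1,0,-2⟩],
  [⟨-1,-1,1,0,0,-1,0,0⟩, ⟨1,1,-1,0,0,1,0,0⟩],
  [⟨0,0,0,1,0,1,0,0⟩, ⟨0,0,0,-1,0,1,0,0⟩, ⟨0,0,0,1,0,1,-2,0⟩, ⟨0,2,-2,-1,-2,1,0,-2⟩, ⟨0,-2,2,1,2,-1,0,2⟩, ⟨0,0,0,-1,0,-1,2,0⟩, ⟨0,0,0,1,0,-1,0,0⟩, ⟨0,0,0,-1,0,-1,0,0⟩],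
  [⟨-1,0,0,-1,0,-1,0,0⟩, ⟨1,0,0,1,0,1,0,0⟩],
  [⟨0,1,0,-1,0,1,0,0⟩, ⟨0,-1,0,1,0,-1,0,0⟩],
  [⟨-1,-1,0,1,0,-1,0,0⟩, ⟨-1,1,0,-1,-2,1,0,-2⟩, ⟨-1,1,0,-1,-2,-1,2,0⟩, ⟨-1,1,0,-1,0,-1,0,0⟩, ⟨1,-1,0,1,0,1,0,0⟩, ⟨1,-1,0,1,2,1,-2,0⟩, ⟨1,-1,0,1,2,-1,0,2⟩, ⟨1,1,0,-1,0,1,0,0⟩],
  [⟨0,-2,1,1,2,-1,0,2⟩, ⟨0,2,-1,-1,-2,1,0,-2⟩],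
  [⟨-1,2,-1,-1,-2,1,0,-2⟩, ⟨1,0,-1,1,0,1,0,0⟩, ⟨1,0,-1,1,2,1,-2,0⟩, ⟨-1,0,1,-1,0,-1,2,0⟩, ⟨1,0,-1,1,0,1,-2,0⟩, ⟨-1,0,1,-1,-2,-1,2,0⟩, ⟨-1,0,1,-1,0,-1,0,0⟩, ⟨1,-2,1,1,2,-1,0,2⟩],
  [⟨0,-1,1,1,2,-1,0,2⟩, ⟨0,1,-1,-1,-2,1,0,-2⟩],
  [⟨-1,1,-1,-1,-2,1,0,-2⟩, ⟨1,-1,-1,1,2,1,-2,0⟩, ⟨-1,-1,1,-1,0,-1,2,0⟩, ⟨-1,-1,1,1,0,-1,0,0⟩, ⟨1,1,-1,-1,0,1,0,0⟩, ⟨1,1,-1,1,0,1,-2,0⟩, ⟨-1,1,1,-1,-2,-1,2,0⟩, ⟨1,-1,1,1,2,-1,0,2⟩]],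
 [[⟨0,0,0,0,1,1,0,0⟩, ⟨0,0,0,0,-1,1,0,0⟩, ⟨0,0,0,0,1,1,-2,0⟩, ⟨0,0,0,0,1,-1,0,2⟩, ⟨0,0,0,0,-1,1,0,-2⟩, ⟨0,0,0,0,-1,-1,2,0⟩, ⟨0,0,0,0,1,-1,0,0⟩, ⟨0,0,0,0,-1,-1,0,0⟩],
  [⟨-1,0,0,0,-1,-1,0,0⟩, ⟨1,0,0,0,1,1,0,0⟩],
  [⟨0,1,0,0,-1,1,0,0⟩, ⟨0,-1,0,0,1,-1,0,0⟩],
  [⟨-1,-1,0,0,1,-1,0,0⟩, ⟨-1,-1,2,0,1,-1,0,2⟩, ⟨-1,1,0,-2,-1,-1,2,0⟩, ⟨-1,1,0,0,-1,-1,0,0⟩, ⟨1,-1,0,0,1,1,0,0⟩, ⟨1,-1,0,2,1,1,-2,0⟩, ⟨1,1,-2,0,-1,1,0,-2⟩, ⟨1,1,0,0,-1,1,0,0⟩],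
  [⟨0,0,-1,0,-1,1,0,-2⟩, ⟨0,0,1,0,1,-1,0,2⟩],
  [⟨-1,0,1,0,1,-1,0,2⟩, ⟨1,0,-1,0,1,1,0,0⟩, ⟨1,0,-1,2,1,1,-2,0⟩, ⟨-1,0,1,0,-1,-1,2,0⟩, ⟨1,0,-1,0,1,1,-2,0⟩, ⟨-1,0,1,-2,-1,-1,2,0⟩, ⟨-1,0,1,0,-1,-1,0,0⟩, ⟨1,0,-1,0,-1,1,0,-2⟩],
  [⟨0,1,-1,0,-1,1,0,-2⟩, ⟨0,-1,1,0,1,-1,0,2⟩],
  [⟨-1,-1,1,0,1,-1,0,2⟩, ⟨1,-1,-1,2,1,1,-2,0⟩, ⟨-1,-1,1,0,-1,-1,2,0⟩, ⟨-1,-1,1,0,1,-1,0,0⟩, ⟨1,1,-1,0,-1,1,0,0⟩, ⟨1,1,-1,0,1,1,-2,0⟩, ⟨-1,1,1,-2,-1,-1,2,0⟩, ⟨1,1,-1,0,-1,1,0,-2⟩],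
  [⟨0,0,0,1,1,1,-2,0⟩, ⟨0,0,0,-1,-1,-1,2,0⟩],
  [⟨-1,0,0,-1,-1,-1,2,0⟩, ⟨1,0,0,1,1,1,-2,0⟩],
  [⟨0,-1,0,1,1,1,-2,0⟩, ⟨0,-1,0,1,1,-1,0,2⟩, ⟨0,1,-2,-1,-1,1,0,-2⟩, ⟨0,-1,0,1,1,-1,0,0⟩, ⟨0,1,0,-1,-1,1,0,0⟩, ⟨0,-1,2,1,1,-1,0,2⟩, ⟨0,1,0,-1,-1,1,0,-2⟩, ⟨0,1,0,-1,-1,-1,2,0⟩],
  [⟨-1,-1,2,1,1,-1,0,2⟩, ⟨-1,1,0,-1,-1,1,0,-2⟩, ⟨-1,1,0,-1,-1,-1,2,0⟩, ⟨1,-1,0,1,1,1,0,0⟩, ⟨-1,1,0,-1,-1,-1,0,0⟩, ⟨1,-1,0,1,1,1,-2,0⟩, ⟨1,-1,0,1,1,-1,0,2⟩, ⟨1,1,-2,-1,-1,1,0,-2⟩],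
  [⟨0,0,-1,1,1,1,-2,0⟩, ⟨-2,0,1,-1,-1,-1,2,0⟩, ⟨0,-2,1,1,1,-1,0,2⟩, ⟨0,0,-1,-1,-1,1,0,-2⟩, ⟨0,0,1,1,1,-1,0,2⟩, ⟨0,2,-1,-1,-1,1,0,-2⟩, ⟨2,0,-1,1,1,1,-2,0⟩, ⟨0,0,1,-1,-1,-1,2,0⟩],
  [⟨1,0,-1,1,1,1,-2,0⟩, ⟨-1,0,1,-1,-1,-1,2,0⟩],
  [⟨0,-1,1,1,1,-1,0,2⟩, ⟨0,1,-1,-1,-1,1,0,-2⟩],
  [⟨-1,-1,1,1,1,-1,0,2⟩, ⟨-1,1,-1,-1,-1,1,0,-2⟩, ⟨1,-1,-1,1,1,1,-2,0⟩, ⟨-1,-1,1,-1,-1,-1,2,0⟩, ⟨1,1,-1,1,1,1,-2,0⟩, ⟨-1,1,1,-1,-1,-1,2,0⟩, ⟨1,-1,1,1,1,-1,0,2⟩, ⟨1,1,-1,-1,-1,1,0,-2⟩]],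
 [[⟨0,0,0,0,0,0,1,0⟩, ⟨0,0,0,0,0,0,-1,0⟩],
  [⟨-1,0,0,0,0,0,-1,0⟩, ⟨1,0,0,0,0,0,1,0⟩],
  [⟨0,-1,0,0,0,0,1,0⟩, ⟨0,1,0,0,0,0,-1,0⟩],
  [⟨-1,1,0,0,0,0,-1,0⟩, ⟨-1,-1,0,0,0,-2,1,0⟩, ⟨1,-1,0,2,2,0,-1,2⟩, ⟨1,1,-2,0,0,2,-1,-2⟩, ⟨-1,-1,2,0,0,-2,1,2⟩, ⟨-1,1,0,-2,-2,0,1,-2⟩, ⟨1,1,0,0,0,2,-1,0⟩, ⟨1,-1,0,0,0,0,1,0⟩],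
  [⟨0,0,-1,0,0,0,-1,0⟩, ⟨0,0,1,0,0,0,1,0⟩],
  [⟨-1,0,1,0,0,0,1,0⟩, ⟨-1,0,1,0,0,0,-1,0⟩, ⟨-1,0,1,0,0,-2,1,2⟩, ⟨-1,2,-1,-2,-2,0,1,-2⟩, ⟨1,-2,1,2,2,0,-1,2⟩, ⟨1,0,-1,0,0,2,-1,-2⟩, ⟨1,0,-1,0,0,0,1,0⟩, ⟨1,0,-1,0,0,0,-1,0⟩],
  [⟨0,1,-1,0,0,0,-1,0⟩, ⟨0,-1,1,0,0,0,1,0⟩],
  [⟨-1,-1,1,0,0,0,1,0⟩, ⟨-1,-1,1,0,0,-2,1,2⟩, ⟨-1,1,-1,-2,-2,0,1,-2⟩, ⟨1,1,-1,0,0,2,-1,0⟩, ⟨-1,-1,1,0,0,-2,1,0⟩, ⟨1,-1,1,2,2,0,-1,2⟩, ⟨1,1,-1,0,0,2,-1,-2⟩, ⟨1,1,-1,0,0,0,-1,0⟩],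
  [⟨0,0,0,-1,0,0,1,0⟩, ⟨0,0,0,1,0,0,-1,0⟩],
  [⟨-1,0,0,-1,0,0,1,0⟩, ⟨-1,0,0,1,0,0,-1,0⟩, ⟨-1,0,0,-1,-2,0,1,-2⟩, ⟨1,0,0,1,0,2,-1,0⟩, ⟨-1,0,0,-1,0,-2,1,0⟩, ⟨1,0,0,1,2,0,-1,2⟩, ⟨1,0,0,-1,0,0,1,0⟩, ⟨1,0,0,1,0,0,-1,0⟩],
  [⟨0,-1,0,1,0,0,-1,0⟩, ⟨0,1,0,-1,0,0,1,0⟩],
  [⟨1,-1,0,1,2,0,-1,2⟩, ⟨-1,1,0,-1,-2,0,1,-2⟩],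
  [⟨0,0,-1,1,0,0,-1,0⟩, ⟨0,0,1,-1,0,0,1,0⟩],
  [⟨-1,0,1,-1,0,0,1,0⟩, ⟨1,0,-1,1,0,0,-1,0⟩],
  [⟨0,-1,1,1,2,0,-1,2⟩, ⟨0,1,-1,-1,-2,0,1,-2⟩],
  [⟨-1,1,-1,-1,-2,0,1,-2⟩, ⟨1,-1,1,1,2,0,-1,2⟩]],
 [[⟨0,0,0,0,-1,0,1,0⟩, ⟨0,0,0,0,1,0,-1,0⟩],
  [⟨-1,0,0,0,-1,0,1,0⟩, ⟨-1,0,0,0,1,0,-1,0⟩, ⟨-1,-2,2,0,1,-2,1,2⟩, ⟨1,0,0,0,1,2,-1,0⟩, ⟨-1,0,0,0,-1,-2,1,0⟩, ⟨1,2,-2,0,-1,2,-1,-2⟩, ⟨1,0,0,0,-1,0,1,0⟩, ⟨1,0,0,0,1,0,-1,0⟩],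
  [⟨0,-1,0,0,1,0,-1,0⟩, ⟨0,1,0,0,-1,0,1,0⟩],
  [⟨1,1,-2,0,-1,2,-1,-2⟩, ⟨-1,-1,2,0,1,-2,1,2⟩],
  [⟨0,0,-1,0,1,0,-1,0⟩, ⟨0,0,1,0,-1,0,1,0⟩],
  [⟨-1,0,1,0,-1,0,1,0⟩, ⟨1,0,-1,0,1,0,-1,0⟩],
  [⟨0,1,-1,0,-1,2,-1,-2⟩, ⟨0,-1,1,0,1,-2,1,2⟩],
  [⟨-1,-1,1,0,1,-2,1,2⟩, ⟨1,1,-1,0,-1,2,-1,-2⟩],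
  [⟨0,0,0,1,1,0,-1,0⟩, ⟨0,0,0,-1,-1,0,1,0⟩],
  [⟨-1,0,0,-1,-1,0,1,0⟩, ⟨-1,-2,2,1,1,-2,1,2⟩, ⟨-1,0,0,-1,-1,0,1,-2⟩, ⟨1,0,0,1,1,2,-1,0⟩, ⟨-1,0,0,-1,-1,-2,1,0⟩, ⟨1,0,0,1,1,0,-1,2⟩, ⟨1,2,-2,-1,-1,2,-1,-2⟩, ⟨1,0,0,1,1,0,-1,0⟩],
  [⟨0,-1,0,1,1,0,-1,0⟩, ⟨0,1,0,-1,-1,0,1,0⟩],
  [⟨-1,1,0,-1,-1,0,1,0⟩, ⟨1,-1,0,1,1,0,-1,0⟩],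
  [⟨0,0,-1,1,1,0,-1,0⟩, ⟨-2,0,1,-1,-1,-2,1,0⟩, ⟨0,0,1,1,1,0,-1,2⟩, ⟨0,2,-1,-1,-1,2,-1,-2⟩, ⟨0,-2,1,1,1,-2,1,2⟩, ⟨0,0,-1,-1,-1,0,1,-2⟩, ⟨2,0,-1,1,1,2,-1,0⟩, ⟨0,0,1,-1,-1,0,1,0⟩],
  [⟨-1,0,1,-1,-1,0,1,0⟩, ⟨1,0,-1,1,1,0,-1,0⟩],
  [⟨0,-1,-1,1,1,0,-1,0⟩, ⟨0,-1,1,1,1,0,-1,2⟩, ⟨0,1,-1,-1,-1,2,-1,-2⟩, ⟨0,1,-1,-1,-1,0,1,0⟩, ⟨0,-1,1,1,1,0,-1,0⟩, ⟨0,-1,1,1,1,-2,1,2⟩, ⟨0,1,-1,-1,-1,0,1,-2⟩, ⟨0,1,1,-1,-1,0,1,0⟩],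
  [⟨-1,1,1,-1,-1,0,1,0⟩, ⟨1,-1,-1,1,1,0,-1,0⟩]],
 [[⟨0,0,0,0,0,1,-1,0⟩, ⟨0,0,0,0,0,-1,1,0⟩],
  [⟨-1,0,0,0,0,-1,1,0⟩, ⟨1,0,0,0,0,1,-1,0⟩],
  [⟨0,1,0,0,0,1,-1,0⟩, ⟨0,-1,0,0,0,-1,1,0⟩],
  [⟨-1,-1,0,0,0,-1,1,0⟩, ⟨1,1,0,0,0,1,-1,0⟩],
  [⟨0,0,-1,0,0,1,-1,0⟩, ⟨0,-2,1,2,2,-1,-1,2⟩, ⟨0,0,-1,0,0,1,-1,-2⟩, ⟨0,0,-1,0,0,-1,1,0⟩, ⟨0,0,1,0,0,1,-1,0⟩, ⟨0,0,1,0,0,-1,1,2⟩, ⟨0,2,-1,-2,-2,1,1,-2⟩, ⟨0,0,1,0,0,-1,1,0⟩],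
  [⟨-1,0,1,0,0,-1,1,0⟩, ⟨1,0,-1,0,0,1,-1,0⟩],
  [⟨0,1,-1,0,0,1,-1,0⟩, ⟨0,-1,1,0,0,-1,1,0⟩],
  [⟨-1,-1,1,0,0,-1,1,0⟩, ⟨1,1,-1,0,0,1,-1,0⟩],
  [⟨0,0,0,1,0,1,-1,0⟩, ⟨0,0,0,-1,0,-1,1,0⟩],
  [⟨-1,0,0,-1,0,-1,1,0⟩, ⟨1,0,0,1,0,1,-1,0⟩],
  [⟨0,-1,0,1,0,1,-1,0⟩, ⟨0,-1,0,1,2,-1,-1,2⟩, ⟨0,1,0,1,0,1,-1,0⟩, ⟨0,-1,0,1,0,-1,1,0⟩, ⟨0,1,0,-1,0,1,-1,0⟩, ⟨0,-1,0,-1,0,-1,1,0⟩, ⟨0,1,0,-1,-2,1,1,-2⟩, ⟨0,1,0,-1,0,-1,1,0⟩],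
  [⟨-1,-1,0,-1,0,-1,1,0⟩, ⟨-1,1,0,-1,-2,1,1,-2⟩, ⟨-1,1,0,-1,0,-1,1,0⟩, ⟨1,-1,0,1,2,1,-1,0⟩, ⟨-1,1,0,-1,-2,-1,1,0⟩, ⟨1,-1,0,1,0,1,-1,0⟩, ⟨1,-1,0,1,2,-1,-1,2⟩, ⟨1,1,0,1,0,1,-1,0⟩],
  [⟨0,0,-1,1,0,1,-1,0⟩, ⟨-2,0,1,-1,0,-1,1,0⟩, ⟨0,-2,1,1,2,-1,-1,2⟩, ⟨0,0,-1,-1,0,-1,1,0⟩, ⟨0,0,1,1,0,1,-1,0⟩, ⟨0,2,-1,-1,-2,1,1,-2⟩, ⟨2,0,-1,1,0,1,-1,0⟩, ⟨0,0,1,-1,0,-1,1,0⟩],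
  [⟨1,0,-1,1,0,1,-1,0⟩, ⟨-1,0,1,-1,0,-1,1,0⟩],
  [⟨0,1,-1,-1,-2,1,1,-2⟩, ⟨0,-1,1,1,2,-1,-1,2⟩],
  [⟨-1,-1,1,-1,0,-1,1,0⟩, ⟨1,1,-1,1,0,1,-1,0⟩]],
 [[⟨0,0,0,0,1,1,-1,0⟩, ⟨0,0,0,0,-1,-1,1,0⟩],
  [⟨-1,0,0,0,-1,-1,1,0⟩, ⟨1,0,0,0,1,1,-1,0⟩],
  [⟨0,-1,0,0,1,1,-1,0⟩, ⟨0,1,-2,0,-1,1,-1,-2⟩, ⟨0,1,0,0,1,1,-1,0⟩, ⟨0,-1,0,0,1,-1,1,0⟩, ⟨0,1,0,0,-1,1,-1,0⟩, ⟨0,-1,0,0,-1,-1,1,0⟩, ⟨0,-1,2,0,1,-1,1,2⟩, ⟨0,1,0,0,-1,-1,1,0⟩],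
  [⟨-1,-1,0,0,-1,-1,1,0⟩, ⟨-1,-1,2,0,1,-1,1,2⟩, ⟨-1,1,0,0,-1,-1,1,0⟩, ⟨1,-1,0,2,1,1,-1,0⟩, ⟨-1,1,0,-2,-1,-1,1,0⟩, ⟨1,-1,0,0,1,1,-1,0⟩, ⟨1,1,-2,0,-1,1,-1,-2⟩, ⟨1,1,0,0,1,1,-1,0⟩],
  [⟨0,0,-1,0,1,1,-1,0⟩, ⟨-2,0,1,0,-1,-1,1,0⟩, ⟨0,0,-1,0,-1,1,-1,-2⟩, ⟨0,0,-1,0,-1,-1,1,0⟩, ⟨0,0,1,0,1,1,-1,0⟩, ⟨0,0,1,0,1,-1,1,2⟩, ⟨2,0,-1,0,1,1,-1,0⟩, ⟨0,0,1,0,-1,-1,1,0⟩],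
  [⟨1,0,-1,0,1,1,-1,0⟩, ⟨-1,0,1,0,-1,-1,1,0⟩],
  [⟨0,-1,1,0,1,-1,1,2⟩, ⟨0,1,-1,0,-1,1,-1,-2⟩],
  [⟨-1,-1,1,0,-1,-1,1,0⟩, ⟨1,1,-1,0,1,1,-1,0⟩],
  [⟨0,0,0,1,1,1,-1,0⟩, ⟨0,0,0,-1,-1,-1,1,0⟩],
  [⟨-1,0,0,-1,-1,-1,1,0⟩, ⟨1,0,0,1,1,1,-1,0⟩],
  [⟨0,-1,0,1,1,1,-1,0⟩, ⟨0,1,0,-1,-1,-1,1,0⟩],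
  [⟨-1,1,0,-1,-1,-1,1,0⟩, ⟨1,-1,0,1,1,1,-1,0⟩],
  [⟨-2,0,1,-1,-1,-1,1,0⟩, ⟨2,0,-1,1,1,1,-1,0⟩],
  [⟨1,0,-1,1,1,1,-1,0⟩, ⟨-1,0,1,-1,-1,-1,1,0⟩],
  [⟨-2,1,1,-1,-1,-1,1,0⟩, ⟨0,-1,1,1,1,1,-1,0⟩, ⟨0,-1,1,1,1,-1,1,2⟩, ⟨0,1,-1,-1,-1,1,1,-2⟩, ⟨0,-1,1,1,1,-1,-1,2⟩, ⟨0,1,-1,-1,-1,1,-1,-2⟩, ⟨0,1,-1,-1,-1,-1,1,0⟩, ⟨2,-1,-1,1,1,1,-1,0⟩],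
  [⟨1,-1,-1,1,1,1,-1,0⟩, ⟨-1,1,1,-1,-1,-1,1,0⟩]],
 [[⟨0,0,0,0,0,0,0,1⟩, ⟨0,0,0,0,0,0,0,-1⟩],
  [⟨-1,0,0,0,0,0,0,-1⟩, ⟨1,0,0,0,0,0,0,1⟩],
  [⟨0,1,0,0,0,0,0,1⟩, ⟨0,-1,0,0,0,0,0,-1⟩],
  [⟨-1,-1,0,0,0,0,0,-1⟩, ⟨1,1,-2,0,0,2,-2,-1⟩, ⟨-1,1,0,-2,-2,0,2,-1⟩, ⟨-1,1,0,0,-2,0,0,-1⟩, ⟨1,-1,0,0,2,0,0,1⟩, ⟨1,-1,0,2,2,0,-2,1⟩, ⟨-1,-1,2,0,0,-2,2,1⟩, ⟨1,1,0,0,0,0,0,1⟩],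
  [⟨0,0,-1,0,0,0,0,-1⟩, ⟨0,0,1,0,0,0,0,1⟩],
  [⟨-1,0,1,0,0,0,0,1⟩, ⟨1,0,-1,0,0,0,0,-1⟩],
  [⟨0,1,-1,0,0,2,-2,-1⟩, ⟨0,-1,-1,0,0,0,0,-1⟩, ⟨0,-1,1,0,2,0,0,1⟩, ⟨0,1,-1,0,0,0,0,-1⟩, ⟨0,-1,1,0,0,0,0,1⟩, ⟨0,1,-1,0,-2,0,0,-1⟩, ⟨0,1,1,0,0,0,0,1⟩, ⟨0,-1,1,0,0,-2,2,1⟩],
  [⟨-1,-1,1,0,0,-2,2,1⟩, ⟨1,1,-1,0,0,2,-2,-1⟩],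
  [⟨0,0,0,1,0,0,0,1⟩, ⟨0,0,0,-1,0,0,0,-1⟩],
  [⟨-1,0,0,-1,0,0,0,-1⟩, ⟨1,0,0,1,0,0,0,1⟩],
  [⟨0,-1,0,1,0,0,0,1⟩, ⟨0,-1,0,1,2,0,-2,1⟩, ⟨-2,-1,2,-1,0,-2,2,1⟩, ⟨0,-1,0,1,0,0,0,-1⟩, ⟨0,1,0,-1,0,0,0,1⟩, ⟨2,1,-2,1,0,2,-2,-1⟩, ⟨0,1,0,-1,-2,0,2,-1⟩, ⟨0,1,0,-1,0,0,0,-1⟩],
  [⟨1,1,-2,1,0,2,-2,-1⟩, ⟨-1,1,0,-1,-2,0,2,-1⟩, ⟨-1,1,0,-1,0,0,0,-1⟩, ⟨1,-1,0,1,2,0,0,1⟩, ⟨-1,1,0,-1,-2,0,0,-1⟩, ⟨1,-1,0,1,0,0,0,1⟩, ⟨1,-1,0,1,2,0,-2,1⟩, ⟨-1,-1,2,-1,0,-2,2,1⟩],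
  [⟨0,0,-1,-1,0,0,0,-1⟩, ⟨0,0,1,1,0,0,0,1⟩],
  [⟨1,0,-1,1,0,2,-2,-1⟩, ⟨-1,0,1,-1,0,-2,2,1⟩],
  [⟨0,-1,1,1,0,0,0,1⟩, ⟨0,1,-1,-1,0,0,0,-1⟩],
  [⟨-1,-1,1,-1,0,-2,2,1⟩, ⟨1,1,-1,1,0,2,-2,-1⟩]],
 [[⟨0,0,0,0,1,0,0,1⟩, ⟨0,0,0,0,-1,0,0,-1⟩],
  [⟨-1,0,0,0,-1,0,0,-1⟩, ⟨1,0,0,0,1,0,0,1⟩],
  [⟨0,-1,0,0,1,0,0,1⟩, ⟨0,1,0,0,-1,0,0,-1⟩],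
  [⟨-1,1,0,0,-1,0,0,-1⟩, ⟨1,-1,0,0,1,0,0,1⟩],
  [⟨0,0,-1,0,-1,0,0,-1⟩, ⟨0,0,1,0,1,0,0,1⟩],
  [⟨-1,0,-1,0,-1,0,0,-1⟩, ⟨-1,0,1,0,1,0,0,1⟩, ⟨1,0,-1,0,1,2,-2,-1⟩, ⟨1,0,-1,0,1,0,0,1⟩, ⟨-1,0,1,0,-1,0,0,-1⟩, ⟨-1,0,1,0,-1,-2,2,1⟩, ⟨1,0,-1,0,-1,0,0,-1⟩, ⟨1,0,1,0,1,0,0,1⟩],
  [⟨0,-1,1,0,1,0,0,1⟩, ⟨0,1,-1,0,-1,0,0,-1⟩],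
  [⟨-1,-1,1,0,1,0,0,1⟩, ⟨-1,1,-1,0,-1,0,0,-1⟩, ⟨-1,-1,1,0,-1,-2,2,1⟩, ⟨1,1,-1,0,-1,2,0,-1⟩, ⟨-1,-1,1,0,1,-2,0,1⟩, ⟨1,1,-1,0,1,2,-2,-1⟩, ⟨1,-1,1,0,1,0,0,1⟩, ⟨1,1,-1,0,-1,0,0,-1⟩],
  [⟨0,0,0,1,1,0,0,1⟩, ⟨0,0,0,-1,1,0,0,1⟩, ⟨0,0,0,1,1,0,-2,1⟩, ⟨-2,0,2,-1,-1,-2,2,1⟩, ⟨2,0,-2,1,1,2,-2,-1⟩, ⟨0,0,0,-1,-1,0,2,-1⟩, ⟨0,0,0,1,-1,0,0,-1⟩, ⟨0,0,0,-1,-1,0,0,-1⟩],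
  [⟨-1,0,0,-1,-1,0,0,-1⟩, ⟨1,0,0,1,1,0,0,1⟩],
  [⟨0,-1,0,1,1,0,0,1⟩, ⟨0,1,0,-1,-1,0,0,-1⟩],
  [⟨-1,1,0,-1,-1,0,0,-1⟩, ⟨1,-1,0,1,1,0,0,1⟩],
  [⟨-2,0,1,-1,-1,-2,2,1⟩, ⟨0,-2,1,1,1,0,0,1⟩, ⟨0,0,-1,1,-1,0,0,-1⟩, ⟨0,0,1,1,1,0,0,1⟩, ⟨0,0,-1,-1,-1,0,0,-1⟩, ⟨0,0,1,-1,1,0,0,1⟩, ⟨0,2,-1,-1,-1,0,0,-1⟩, ⟨2,0,-1,1,1,2,-2,-1⟩],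
  [⟨1,0,-1,1,1,2,-2,-1⟩, ⟨-1,0,1,-1,-1,-2,2,1⟩],
  [⟨0,-1,1,1,1,0,0,1⟩, ⟨0,1,-1,-1,-1,0,0,-1⟩],
  [⟨-1,1,-1,-1,-1,0,0,-1⟩, ⟨1,-1,1,1,1,0,0,1⟩]],
 [[⟨0,0,0,0,0,1,0,-1⟩, ⟨0,0,0,0,0,-1,0,1⟩],
  [⟨-1,0,0,0,0,-1,0,1⟩, ⟨1,0,0,0,0,1,0,-1⟩],
  [⟨-2,1,0,-2,-2,-1,2,-1⟩, ⟨0,-1,0,0,0,1,0,-1⟩, ⟨0,-1,0,0,2,-1,0,1⟩, ⟨0,1,0,0,0,1,0,-1⟩, ⟨0,-1,0,0,0,-1,0,1⟩, ⟨0,1,0,0,-2,1,0,-1⟩, ⟨0,1,0,0,0,-1,0,1⟩, ⟨2,-1,0,2,2,1,-2,1⟩],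
  [⟨1,-1,0,2,2,1,-2,1⟩, ⟨-1,1,0,-2,-2,-1,2,-1⟩],
  [⟨0,0,-1,0,0,1,0,-1⟩, ⟨0,0,1,0,0,-1,0,1⟩],
  [⟨-1,0,1,0,0,-1,0,1⟩, ⟨1,0,-1,0,0,1,0,-1⟩],
  [⟨0,1,-1,0,0,1,0,-1⟩, ⟨0,1,-1,0,-2,1,0,-1⟩, ⟨0,1,-1,0,0,1,-2,-1⟩, ⟨-2,1,1,-2,-2,-1,2,-1⟩, ⟨2,-1,-1,2,2,1,-2,1⟩, ⟨0,-1,1,0,0,-1,2,1⟩, ⟨0,-1,1,0,2,-1,0,1⟩, ⟨0,-1,1,0,0,-1,0,1⟩],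
  [⟨-1,-1,1,0,0,-1,0,1⟩, ⟨1,1,-1,0,0,1,0,-1⟩],
  [⟨0,0,0,-1,0,1,0,-1⟩, ⟨0,0,0,1,0,-1,0,1⟩],
  [⟨-1,0,0,-1,-2,-1,2,-1⟩, ⟨1,0,0,1,2,1,-2,1⟩],
  [⟨0,-1,0,1,0,-1,0,1⟩, ⟨0,1,0,-1,0,1,0,-1⟩],
  [⟨1,-1,0,1,2,1,-2,1⟩, ⟨-1,1,0,-1,-2,-1,2,-1⟩],
  [⟨0,0,-1,-1,0,1,0,-1⟩, ⟨0,0,-1,1,0,1,-2,-1⟩, ⟨-2,0,1,-1,-2,-1,2,-1⟩, ⟨0,-2,1,1,2,-1,0,1⟩, ⟨0,2,-1,-1,-2,1,0,-1⟩, ⟨2,0,-1,1,2,1,-2,1⟩, ⟨0,0,1,-1,0,-1,2,1⟩, ⟨0,0,1,1,0,-1,0,1⟩],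
  [⟨1,0,-1,1,2,1,-2,1⟩, ⟨-1,0,1,-1,0,-1,2,1⟩, ⟨-1,0,1,1,0,-1,0,1⟩, ⟨1,0,-1,1,0,1,0,-1⟩, ⟨-1,0,1,-1,0,-1,0,1⟩, ⟨1,0,-1,-1,0,1,0,-1⟩, ⟨1,0,-1,1,0,1,-2,-1⟩, ⟨-1,0,1,-1,-2,-1,2,-1⟩],
  [⟨0,1,-1,-1,0,1,0,-1⟩, ⟨0,-1,1,1,0,-1,0,1⟩],
  [⟨-1,-1,1,1,0,-1,0,1⟩, ⟨1,1,-1,-1,0,1,0,-1⟩]],
 [[⟨0,0,0,0,-1,1,0,-1⟩, ⟨0,0,0,0,1,-1,0,1⟩],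
  [⟨-1,0,0,0,-1,1,0,-1⟩, ⟨-1,0,0,0,1,-1,0,1⟩, ⟨-1,0,0,-2,-1,-1,2,-1⟩, ⟨1,0,0,0,1,1,0,1⟩, ⟨-1,0,0,0,-1,-1,0,-1⟩, ⟨1,0,0,2,1,1,-2,1⟩, ⟨1,0,0,0,-1,1,0,-1⟩, ⟨1,0,0,0,1,-1,0,1⟩],
  [⟨0,-1,0,0,1,-1,0,1⟩, ⟨0,1,0,0,-1,1,0,-1⟩],
  [⟨-1,-1,0,0,1,-1,0,1⟩, ⟨-1,1,0,0,-1,1,0,-1⟩, ⟨1,-1,0,2,1,1,-2,1⟩, ⟨1,1,-2,0,-1,1,0,-1⟩, ⟨-1,-1,2,0,1,-1,0,1⟩, ⟨-1,1,0,-2,-1,-1,2,-1⟩, ⟨1,-1,0,0,1,-1,0,1⟩, ⟨1,1,0,0,-1,1,0,-1⟩],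
  [⟨0,0,-1,0,-1,1,0,-1⟩, ⟨0,0,1,0,1,-1,0,1⟩],
  [⟨-1,0,1,0,1,-1,0,1⟩, ⟨1,0,-1,0,-1,1,0,-1⟩],
  [⟨0,1,-1,0,-1,1,0,-1⟩, ⟨0,-1,1,0,1,-1,0,1⟩],
  [⟨-1,-1,1,0,1,-1,0,1⟩, ⟨1,1,-1,0,-1,1,0,-1⟩],
  [⟨0,0,0,1,1,1,-2,1⟩, ⟨0,-2,0,1,1,-1,0,1⟩, ⟨0,0,0,1,-1,1,0,-1⟩, ⟨0,0,0,1,1,-1,0,1⟩, ⟨0,0,0,-1,-1,1,0,-1⟩, ⟨0,0,0,-1,1,-1,0,1⟩, ⟨0,2,0,-1,-1,1,0,-1⟩, ⟨0,0,0,-1,-1,-1,2,-1⟩],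
  [⟨-1,0,0,-1,-1,-1,2,-1⟩, ⟨1,0,0,1,1,1,-2,1⟩],
  [⟨0,-1,0,1,1,-1,0,1⟩, ⟨0,1,0,-1,-1,1,0,-1⟩],
  [⟨-1,1,0,-1,-1,1,0,-1⟩, ⟨1,-1,0,1,1,-1,0,1⟩],
  [⟨0,2,-1,-1,-1,1,0,-1⟩, ⟨0,-2,1,1,1,-1,0,1⟩],
  [⟨-1,-2,1,1,1,-1,0,1⟩, ⟨1,0,-1,1,1,1,-2,1⟩, ⟨-1,0,1,-1,-1,-1,2,1⟩, ⟨-1,0,1,-1,1,-1,0,1⟩, ⟨1,0,-1,1,-1,1,0,-1⟩, ⟨1,0,-1,1,1,1,-2,-1⟩, ⟨-1,0,1,-1,-1,-1,2,-1⟩, ⟨1,2,-1,-1,-1,1,0,-1⟩],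
  [⟨0,1,-1,-1,-1,1,0,-1⟩, ⟨0,-1,1,1,1,-1,0,1⟩],
  [⟨-1,-1,1,1,1,-1,0,1⟩, ⟨1,1,-1,-1,-1,1,0,-1⟩]],
 [[⟨0,0,0,0,0,2,-1,-1⟩, ⟨0,0,0,0,0,0,1,1⟩, ⟨0,0,0,0,2,0,-1,1⟩, ⟨0,0,0,0,0,0,1,-1⟩, ⟨0,0,0,0,0,0,-1,1⟩, ⟨0,0,0,0,-2,0,1,-1⟩, ⟨0,0,0,0,0,0,-1,-1⟩, ⟨0,0,0,0,0,-2,1,1⟩],
  [⟨-1,0,0,0,-2,0,1,-1⟩, ⟨-1,0,0,0,0,0,-1,-1⟩, ⟨-1,0,0,0,0,-2,1,1⟩, ⟨1,-2,0,2,2,0,-1,1⟩, ⟨-1,2,0,-2,-2,0,1,-1⟩, ⟨1,0,0,0,0,2,-1,-1⟩, ⟨1,0,0,0,0,0,1,1⟩, ⟨1,0,0,0,2,0,-1,1⟩],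
  [⟨0,-1,0,0,2,0,-1,1⟩, ⟨-2,-1,2,0,0,-2,1,1⟩, ⟨0,1,0,0,0,2,-1,-1⟩, ⟨0,-1,0,0,0,0,1,-1⟩, ⟨0,1,0,0,0,0,-1,1⟩, ⟨0,-1,0,0,0,-2,1,1⟩, ⟨2,1,-2,0,0,2,-1,-1⟩, ⟨0,1,0,0,-2,0,1,-1⟩],
  [⟨-1,-1,0,0,0,-2,1,1⟩, ⟨1,1,-2,0,0,2,-1,-1⟩, ⟨-1,1,0,0,-2,0,1,-1⟩, ⟨1,-1,0,2,2,0,-1,1⟩, ⟨-1,1,0,-2,-2,0,1,-1⟩, ⟨1,-1,0,0,2,0,-1,1⟩, ⟨-1,-1,2,0,0,-2,1,1⟩, ⟨1,1,0,0,0,2,-1,-1⟩],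
  [⟨0,0,-1,0,0,0,-1,-1⟩, ⟨0,0,1,0,0,0,1,1⟩],
  [⟨1,0,-1,0,0,2,-1,-1⟩, ⟨-1,0,1,0,0,-2,1,1⟩],
  [⟨-2,-1,1,0,0,-2,1,1⟩, ⟨0,1,-1,0,0,2,-1,-1⟩, ⟨0,-1,1,0,0,0,1,1⟩, ⟨0,-1,1,0,2,0,-1,1⟩, ⟨0,1,-1,0,-2,0,1,-1⟩, ⟨0,1,-1,0,0,0,-1,-1⟩, ⟨0,-1,1,0,0,-2,1,1⟩, ⟨2,1,-1,0,0,2,-1,-1⟩],
  [⟨-1,-1,1,0,0,-2,1,1⟩, ⟨1,1,-1,0,0,2,-1,-1⟩],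
  [⟨0,0,0,1,0,0,-1,1⟩, ⟨0,0,0,-1,0,0,1,-1⟩],
  [⟨-1,0,0,-1,0,0,1,-1⟩, ⟨-1,0,0,-1,-2,0,1,-1⟩, ⟨-1,0,0,-1,0,-2,1,1⟩, ⟨-1,2,0,-1,-2,0,1,-1⟩, ⟨1,-2,0,1,2,0,-1,1⟩, ⟨1,0,0,1,0,2,-1,-1⟩, ⟨1,0,0,1,2,0,-1,1⟩, ⟨1,0,0,1,0,0,-1,1⟩],
  [⟨0,-1,0,1,2,0,-1,1⟩, ⟨0,1,0,-1,-2,0,1,-1⟩],
  [⟨-1,1,0,-1,-2,0,1,-1⟩, ⟨1,-1,0,1,2,0,-1,1⟩],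
  [⟨-2,0,1,-1,0,-2,1,1⟩, ⟨0,-2,1,1,2,0,-1,1⟩, ⟨0,0,-1,-1,0,0,1,-1⟩, ⟨0,0,-1,1,0,0,-1,-1⟩, ⟨0,0,1,-1,0,0,1,1⟩, ⟨0,0,1,1,0,0,-1,1⟩, ⟨0,2,-1,-1,-2,0,1,-1⟩, ⟨2,0,-1,1,0,2,-1,-1⟩],
  [⟨1,0,-1,1,0,2,-1,-1⟩, ⟨-1,0,1,-1,0,-2,1,1⟩],
  [⟨0,-1,1,1,2,0,-1,1⟩, ⟨0,1,-1,-1,-2,0,1,-1⟩],
  [⟨-1,1,-1,-1,-2,0,1,-1⟩, ⟨1,-1,-1,1,2,0,-1,1⟩, ⟨-1,-1,1,1,0,-2,1,1⟩, ⟨1,1,-1,1,0,2,-1,-1⟩, ⟨-1,-1,1,-1,0,-2,1,1⟩, ⟨1,1,-1,-1,0,2,-1,-1⟩, ⟨-1,1,1,-1,-2,0,1,-1⟩, ⟨1,-1,1,1,2,0,-1,1⟩]],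
 [[⟨0,0,0,0,1,0,-1,1⟩, ⟨0,0,0,0,-1,0,1,-1⟩],
  [⟨-1,0,0,0,-1,0,1,-1⟩, ⟨1,0,0,0,1,0,-1,1⟩],
  [⟨0,-1,0,2,1,0,-1,1⟩, ⟨0,-1,0,0,1,0,-1,1⟩, ⟨0,1,0,0,-1,2,-1,-1⟩, ⟨0,1,0,0,1,0,-1,1⟩, ⟨0,-1,0,0,-1,0,1,-1⟩, ⟨0,-1,0,0,1,-2,1,1⟩, ⟨0,1,0,0,-1,0,1,-1⟩, ⟨0,1,0,-2,-1,0,1,-1⟩],
  [⟨-1,1,0,-2,-1,0,1,-1⟩, ⟨1,-1,0,2,1,0,-1,1⟩],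
  [⟨0,0,-1,0,-1,0,1,-1⟩, ⟨0,0,1,0,1,0,-1,1⟩],
  [⟨-1,0,1,0,1,0,-1,1⟩, ⟨-1,-2,1,0,1,-2,1,1⟩, ⟨1,0,-1,0,1,2,-1,-1⟩, ⟨-1,0,1,0,-1,0,1,-1⟩, ⟨1,0,-1,0,1,0,-1,1⟩, ⟨-1,0,1,0,-1,-2,1,1⟩, ⟨1,2,-1,0,-1,2,-1,-1⟩, ⟨1,0,-1,0,-1,0,1,-1⟩],
  [⟨0,1,-1,0,-1,2,-1,-1⟩, ⟨0,-1,1,0,1,0,1,1⟩, ⟨0,-1,1,2,1,0,-1,1⟩, ⟨0,1,-1,0,-1,0,1,-1⟩, ⟨0,-1,1,0,1,0,-1,1⟩, ⟨0,1,-1,-2,-1,0,1,-1⟩, ⟨0,1,-1,0,-1,0,-1,-1⟩, ⟨0,-1,1,0,1,-2,1,1⟩],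
  [⟨-1,-1,1,0,1,-2,1,1⟩, ⟨1,1,-1,0,-1,2,-1,-1⟩],
  [⟨0,0,0,1,1,0,-1,1⟩, ⟨0,0,0,-1,-1,0,1,-1⟩],
  [⟨-1,0,0,-1,-1,0,1,-1⟩, ⟨1,0,0,1,1,0,-1,1⟩],
  [⟨0,-1,0,1,1,0,-1,1⟩, ⟨0,1,0,-1,-1,0,1,-1⟩],
  [⟨-1,1,0,-1,-1,0,1,-1⟩, ⟨1,-1,0,1,1,0,-1,1⟩],
  [⟨0,0,-1,-1,-1,0,1,-1⟩, ⟨0,0,1,1,1,0,-1,1⟩],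
  [⟨-1,0,1,-1,-1,0,1,-1⟩, ⟨1,0,-1,1,1,0,-1,1⟩],
  [⟨0,-1,1,1,1,0,-1,1⟩, ⟨0,1,-1,-1,-1,0,1,-1⟩],
  [⟨-1,-1,1,1,1,0,-1,1⟩, ⟨-1,1,-1,-1,-1,0,1,-1⟩, ⟨1,-1,-1,1,1,0,-1,1⟩, ⟨-1,-1,1,-1,1,-2,1,1⟩, ⟨1,1,-1,1,-1,2,-1,-1⟩, ⟨-1,1,1,-1,-1,0,1,-1⟩, ⟨1,-1,1,1,1,0,-1,1⟩, ⟨1,1,-1,-1,-1,0,1,-1⟩]],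
 [[⟨0,0,0,0,0,1,-1,-1⟩, ⟨0,0,0,0,0,-1,1,1⟩],
  [⟨-1,0,0,0,0,1,-1,-1⟩, ⟨-1,0,0,0,0,-1,1,1⟩, ⟨1,0,-2,0,0,1,-1,-1⟩, ⟨-1,0,0,0,-2,-1,1,-1⟩, ⟨1,0,0,0,2,1,-1,1⟩, ⟨-1,0,2,0,0,-1,1,1⟩, ⟨1,0,0,0,0,1,-1,-1⟩, ⟨1,0,0,0,0,-1,1,1⟩],
  [⟨0,-1,0,0,0,-1,1,1⟩, ⟨0,1,0,0,0,1,-1,-1⟩],
  [⟨-1,-1,2,0,0,-1,1,1⟩, ⟨1,1,-2,0,0,1,-1,-1⟩],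
  [⟨0,0,-1,0,0,1,-1,-1⟩, ⟨0,0,1,0,0,-1,1,1⟩],
  [⟨-1,0,1,0,0,-1,1,1⟩, ⟨1,0,-1,0,0,1,-1,-1⟩],
  [⟨0,1,-1,0,0,1,-1,-1⟩, ⟨0,-1,1,0,0,-1,1,1⟩],
  [⟨-1,-1,1,0,0,-1,1,1⟩, ⟨1,1,-1,0,0,1,-1,-1⟩],
  [⟨0,0,0,1,0,1,-1,-1⟩, ⟨0,0,0,-1,0,-1,1,1⟩],
  [⟨-1,0,0,-1,0,-1,1,1⟩, ⟨1,0,-2,1,0,1,-1,-1⟩, ⟨-1,0,0,-1,0,-1,1,-1⟩, ⟨1,0,0,1,2,1,-1,1⟩, ⟨-1,0,0,-1,-2,-1,1,-1⟩, ⟨1,0,0,1,0,1,-1,1⟩, ⟨-1,0,2,-1,0,-1,1,1⟩, ⟨1,0,0,1,0,1,-1,-1⟩],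
  [⟨-2,1,0,-1,-2,-1,1,-1⟩, ⟨0,-1,0,1,0,1,-1,-1⟩, ⟨0,-1,0,1,0,-1,1,1⟩, ⟨0,-1,0,1,2,-1,-1,1⟩, ⟨0,1,0,-1,-2,1,1,-1⟩, ⟨0,1,0,-1,0,1,-1,-1⟩, ⟨0,1,0,-1,0,-1,1,1⟩, ⟨2,-1,0,1,2,1,-1,1⟩],
  [⟨1,-1,0,1,2,1,-1,1⟩, ⟨-1,1,0,-1,-2,-1,1,-1⟩],
  [⟨0,0,-1,1,0,1,-1,-1⟩, ⟨0,0,1,-1,0,-1,1,1⟩],
  [⟨-1,0,1,-1,0,-1,1,1⟩, ⟨1,0,-1,1,0,1,-1,-1⟩],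
  [⟨0,1,-1,-1,0,1,-1,-1⟩, ⟨0,-1,1,1,0,-1,1,1⟩],
  [⟨-1,-1,1,1,0,-1,1,1⟩, ⟨-1,-1,1,-1,0,-1,1,1⟩, ⟨-1,1,-1,-1,-2,-1,1,-1⟩, ⟨-1,1,1,-1,0,-1,1,1⟩, ⟨1,-1,-1,1,0,1,-1,-1⟩, ⟨1,-1,1,1,2,1,-1,1⟩, ⟨1,1,-1,1,0,1,-1,-1⟩, ⟨1,1,-1,-1,0,1,-1,-1⟩]],
 [[⟨0,0,0,0,1,1,-1,1⟩, ⟨0,0,0,0,-1,1,1,-1⟩, ⟨0,0,0,0,1,1,-1,-1⟩, ⟨0,0,0,0,1,-1,1,1⟩, ⟨0,0,0,0,-1,1,-1,-1⟩, ⟨0,0,0,0,-1,-1,1,1⟩, ⟨0,0,0,0,1,-1,-1,1⟩, ⟨0,0,0,0,-1,-1,1,-1⟩],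
  [⟨-1,0,0,0,-1,-1,1,-1⟩, ⟨1,0,0,0,1,1,-1,1⟩],
  [⟨0,-1,0,0,1,-1,1,1⟩, ⟨0,1,0,0,-1,1,-1,-1⟩],
  [⟨-1,1,0,0,-1,1,-1,-1⟩, ⟨-1,-1,0,0,-1,-1,1,-1⟩, ⟨1,-1,0,2,1,1,-1,1⟩, ⟨-1,-1,2,0,1,-1,1,1⟩, ⟨1,1,-2,0,-1,1,-1,-1⟩, ⟨-1,1,0,-2,-1,-1,1,-1⟩, ⟨1,1,0,0,1,1,-1,1⟩, ⟨1,-1,0,0,1,-1,1,1⟩],
  [⟨0,0,-1,0,1,1,-1,-1⟩, ⟨0,0,-1,0,-1,1,-1,-1⟩, ⟨0,0,1,0,1,1,-1,1⟩, ⟨0,2,-1,0,-1,1,-1,-1⟩, ⟨0,-2,1,0,1,-1,1,1⟩, ⟨0,0,-1,0,-1,-1,1,-1⟩, ⟨0,0,1,0,1,-1,1,1⟩, ⟨0,0,1,0,-1,-1,1,1⟩],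
  [⟨-1,0,1,0,-1,-1,1,1⟩, ⟨1,0,-1,0,1,1,-1,-1⟩],
  [⟨0,1,-1,0,-1,1,-1,-1⟩, ⟨0,-1,1,0,1,-1,1,1⟩],
  [⟨-1,-1,1,0,1,-1,1,1⟩, ⟨1,1,-1,0,-1,1,-1,-1⟩],
  [⟨-2,0,0,-1,-1,-1,1,-1⟩, ⟨0,0,0,1,1,1,-1,1⟩, ⟨0,0,0,-1,-1,1,1,-1⟩, ⟨0,0,0,1,-1,1,-1,-1⟩, ⟨0,0,0,-1,1,-1,1,1⟩, ⟨0,0,0,1,1,-1,-1,1⟩, ⟨0,0,0,-1,-1,-1,1,-1⟩, ⟨2,0,0,1,1,1,-1,1⟩],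
  [⟨-1,0,0,-1,-1,-1,1,-1⟩, ⟨1,0,0,1,1,1,-1,1⟩],
  [⟨0,-1,0,1,1,-1,-1,1⟩, ⟨0,1,0,-1,-1,1,1,-1⟩],
  [⟨1,-1,0,1,1,1,-1,1⟩, ⟨-1,1,0,-1,-1,-1,1,-1⟩],
  [⟨0,0,-1,1,-1,1,-1,-1⟩, ⟨-2,0,1,-1,-1,-1,1,-1⟩, ⟨0,0,1,1,1,1,-1,1⟩, ⟨0,-2,1,1,1,-1,1,1⟩, ⟨0,2,-1,-1,-1,1,-1,-1⟩, ⟨0,0,-1,-1,-1,-1,1,-1⟩, ⟨2,0,-1,1,1,1,-1,1⟩, ⟨0,0,1,-1,1,-1,1,1⟩],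
  [⟨-1,0,-1,-1,-1,-1,1,-1⟩, ⟨1,0,-1,1,1,1,-1,1⟩, ⟨-1,0,1,-1,1,-1,1,1⟩, ⟨1,0,-1,1,1,1,-1,-1⟩, ⟨-1,0,1,-1,-1,-1,1,1⟩, ⟨1,0,-1,1,-1,1,-1,-1⟩, ⟨-1,0,1,-1,-1,-1,1,-1⟩, ⟨1,0,1,1,1,1,-1,1⟩],
  [⟨0,-1,1,1,1,1,-1,1⟩, ⟨0,1,-1,-1,-1,1,1,-1⟩, ⟨0,1,-1,1,-1,1,-1,-1⟩, ⟨0,-1,1,1,1,-1,1,1⟩, ⟨0,1,-1,-1,-1,1,-1,-1⟩, ⟨0,-1,1,-1,1,-1,1,1⟩, ⟨0,-1,1,1,1,-1,-1,1⟩, ⟨0,1,-1,-1,-1,-1,1,-1⟩],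
  [⟨-1,-1,1,-1,1,-1,1,1⟩, ⟨-1,-1,1,1,1,-1,-1,1⟩, ⟨-1,1,-1,-1,-1,-1,1,-1⟩, ⟨1,-1,-1,1,1,1,-1,-1⟩, ⟨-1,1,1,-1,-1,-1,1,1⟩, ⟨1,-1,1,1,1,1,-1,1⟩, ⟨1,1,-1,-1,-1,1,1,-1⟩, ⟨1,1,-1,1,-1,1,-1,-1⟩]]]

def lineL : List (List (Ico × Ico × Ico)) := [
[
  (⟨0,0,0,0,0,0,0,0⟩, ⟨0,0,0,0,0,0,0,0⟩, ⟨2,0,0,0,0,0,0,0⟩), (⟨0,0,0,0,0,0,0,0⟩, ⟨1,1,0,0,0,0,0,0⟩, ⟨-1,-1,0,0,0,0,0,0⟩), (⟨0,0,0,0,0,0,0,0⟩, ⟨1,1,0,0,0,0,0,0⟩, ⟨-1,-1,2,0,0,-2,2,2⟩),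
  (⟨0,0,0,0,0,0,0,0⟩, ⟨1,1,0,0,0,0,0,0⟩, ⟨-1,1,0,-2,-2,0,2,-2⟩), (⟨0,0,0,0,0,0,0,0⟩, ⟨1,1,0,0,0,0,0,0⟩, ⟨-1,1,0,0,0,0,0,0⟩), (⟨0,0,0,0,0,0,0,0⟩, ⟨1,1,0,0,0,0,0,0⟩, ⟨1,-1,0,0,0,0,0,0⟩),
  (⟨0,0,0,0,0,0,0,0⟩, ⟨1,1,0,0,0,0,0,0⟩, ⟨1,-1,0,2,2,0,-2,2⟩), (⟨0,0,0,0,0,0,0,0⟩, ⟨1,1,0,0,0,0,0,0⟩, ⟨1,1,-2,0,0,2,-2,-2⟩), (⟨0,0,0,0,0,0,0,0⟩, ⟨1,1,0,0,0,0,0,0⟩, ⟨1,1,0,0,0,0,0,0⟩),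
  (⟨0,0,0,0,0,0,0,0⟩, ⟨2,0,0,0,0,0,0,0⟩, ⟨0,0,0,0,0,0,0,0⟩), (⟨0,1,0,-1,-1,-1,1,0⟩, ⟨-1,-1,1,1,0,-1,0,1⟩, ⟨-1,0,0,-1,-1,-1,1,0⟩), (⟨0,1,0,-1,-1,-1,1,0⟩, ⟨-1,-1,1,1,0,-1,0,1⟩, ⟨1,0,0,1,1,1,-1,0⟩),
  (⟨0,1,0,-1,-1,-1,1,0⟩, ⟨-1,0,0,-1,-1,-1,1,0⟩, ⟨-1,-1,1,1,0,-1,0,1⟩), (⟨0,1,0,-1,-1,-1,1,0⟩, ⟨-1,0,0,-1,-1,-1,1,0⟩, ⟨1,1,-1,-1,0,1,0,-1⟩), (⟨0,1,0,-1,-1,-1,1,0⟩, ⟨-1,0,1,-1,0,-1,1,0⟩, ⟨-1,1,0,-1,-1,1,0,-1⟩),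
  (⟨0,1,0,-1,-1,-1,1,0⟩, ⟨-1,0,1,-1,0,-1,1,0⟩, ⟨1,-1,0,1,1,-1,0,1⟩), (⟨0,1,0,-1,-1,-1,1,0⟩, ⟨-1,1,0,-1,-1,1,0,-1⟩, ⟨-1,0,1,-1,0,-1,1,0⟩), (⟨0,1,0,-1,-1,-1,1,0⟩, ⟨-1,1,0,-1,-1,1,0,-1⟩, ⟨1,0,-1,1,0,1,-1,0⟩),
  (⟨0,1,0,-1,-1,-1,1,0⟩, ⟨0,-1,0,0,1,0,-1,0⟩, ⟨0,0,-1,0,0,0,0,-1⟩), (⟨0,1,0,-1,-1,-1,1,0⟩, ⟨0,-1,0,0,1,0,-1,0⟩, ⟨0,0,1,0,0,0,0,1⟩), (⟨0,1,0,-1,-1,-1,1,0⟩, ⟨0,-1,1,0,0,0,1,0⟩, ⟨0,0,0,0,-1,0,0,-1⟩)],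
[
  (⟨0,1,0,-1,-1,-1,1,0⟩, ⟨0,-1,1,0,0,0,1,0⟩, ⟨0,0,0,0,1,0,0,1⟩), (⟨0,1,0,-1,-1,-1,1,0⟩, ⟨0,0,-1,0,0,0,0,-1⟩, ⟨0,-1,0,0,1,0,-1,0⟩), (⟨0,1,0,-1,-1,-1,1,0⟩, ⟨0,0,-1,0,0,0,0,-1⟩, ⟨0,1,0,0,-1,0,1,0⟩),
  (⟨0,1,0,-1,-1,-1,1,0⟩, ⟨0,0,0,0,-1,0,0,-1⟩, ⟨0,-1,1,0,0,0,1,0⟩), (⟨0,1,0,-1,-1,-1,1,0⟩, ⟨0,0,0,0,-1,0,0,-1⟩, ⟨0,1,-1,0,0,0,-1,0⟩), (⟨0,1,0,-1,-1,-1,1,0⟩, ⟨0,0,0,0,1,0,0,1⟩, ⟨0,-1,1,0,0,0,1,0⟩),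
  (⟨0,1,0,-1,-1,-1,1,0⟩, ⟨0,0,0,0,1,0,0,1⟩, ⟨0,1,-1,0,0,0,-1,0⟩), (⟨0,1,0,-1,-1,-1,1,0⟩, ⟨0,0,1,0,0,0,0,1⟩, ⟨0,-1,0,0,1,0,-1,0⟩), (⟨0,1,0,-1,-1,-1,1,0⟩, ⟨0,0,1,0,0,0,0,1⟩, ⟨0,1,0,0,-1,0,1,0⟩),
  (⟨0,1,0,-1,-1,-1,1,0⟩, ⟨0,1,-1,0,0,0,-1,0⟩, ⟨0,0,0,0,-1,0,0,-1⟩), (⟨0,1,0,-1,-1,-1,1,0⟩, ⟨0,1,-1,0,0,0,-1,0⟩, ⟨0,0,0,0,1,0,0,1⟩), (⟨0,1,0,-1,-1,-1,1,0⟩, ⟨0,1,0,0,-1,0,1,0⟩, ⟨0,0,-1,0,0,0,0,-1⟩),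
  (⟨0,1,0,-1,-1,-1,1,0⟩, ⟨0,1,0,0,-1,0,1,0⟩, ⟨0,0,1,0,0,0,0,1⟩), (⟨0,1,0,-1,-1,-1,1,0⟩, ⟨1,-1,0,1,1,-1,0,1⟩, ⟨-1,0,1,-1,0,-1,1,0⟩), (⟨0,1,0,-1,-1,-1,1,0⟩, ⟨1,-1,0,1,1,-1,0,1⟩, ⟨1,0,-1,1,0,1,-1,0⟩),
  (⟨0,1,0,-1,-1,-1,1,0⟩, ⟨1,0,-1,1,0,1,-1,0⟩, ⟨-1,1,0,-1,-1,1,0,-1⟩), (⟨0,1,0,-1,-1,-1,1,0⟩, ⟨1,0,-1,1,0,1,-1,0⟩, ⟨1,-1,0,1,1,-1,0,1⟩), (⟨0,1,0,-1,-1,-1,1,0⟩, ⟨1,0,0,1,1,1,-1,0⟩, ⟨-1,-1,1,1,0,-1,0,1⟩),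
  (⟨0,1,0,-1,-1,-1,1,0⟩, ⟨1,0,0,1,1,1,-1,0⟩, ⟨1,1,-1,-1,0,1,0,-1⟩), (⟨0,1,0,-1,-1,-1,1,0⟩, ⟨1,1,-1,-1,0,1,0,-1⟩, ⟨-1,0,0,-1,-1,-1,1,0⟩), (⟨0,1,0,-1,-1,-1,1,0⟩, ⟨1,1,-1,-1,0,1,0,-1⟩, ⟨1,0,0,1,1,1,-1,0⟩)],
[
  (⟨1,0,0,0,0,0,0,0⟩, ⟨-2,0,1,-1,-1,-1,1,-1⟩, ⟨-1,0,1,-1,-1,-1,2,0⟩), (⟨1,0,0,0,0,0,0,0⟩, ⟨-2,0,1,-1,-1,-1,1,-1⟩, ⟨1,0,-1,1,1,1,-2,0⟩), (⟨1,0,0,0,0,0,0,0⟩, ⟨-1,-1,0,0,0,-2,1,1⟩, ⟨0,-1,0,0,0,0,0,0⟩),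
  (⟨1,0,0,0,0,0,0,0⟩, ⟨-1,-1,0,0,0,-2,1,1⟩, ⟨0,1,0,0,0,0,0,0⟩), (⟨1,0,0,0,0,0,0,0⟩, ⟨-1,-1,1,-1,1,-1,1,1⟩, ⟨0,-1,1,1,1,-1,0,2⟩), (⟨1,0,0,0,0,0,0,0⟩, ⟨-1,-1,1,-1,1,-1,1,1⟩, ⟨0,1,-1,-1,-1,1,0,-2⟩),
  (⟨1,0,0,0,0,0,0,0⟩, ⟨-1,-1,1,0,1,-2,1,1⟩, ⟨0,-1,1,0,1,0,0,0⟩), (⟨1,0,0,0,0,0,0,0⟩, ⟨-1,-1,1,0,1,-2,1,1⟩, ⟨0,1,-1,0,-1,0,0,0⟩), (⟨1,0,0,0,0,0,0,0⟩, ⟨-1,-1,1,1,1,-1,-1,1⟩, ⟨0,-1,1,1,1,-1,0,2⟩),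
  (⟨1,0,0,0,0,0,0,0⟩, ⟨-1,-1,1,1,1,-1,-1,1⟩, ⟨0,1,-1,-1,-1,1,0,-2⟩), (⟨1,0,0,0,0,0,0,0⟩, ⟨-1,-1,2,0,0,-2,1,1⟩, ⟨0,-1,0,0,0,0,0,0⟩), (⟨1,0,0,0,0,0,0,0⟩, ⟨-1,-1,2,0,0,-2,1,1⟩, ⟨0,1,0,0,0,0,0,0⟩),
  (⟨1,0,0,0,0,0,0,0⟩, ⟨-1,0,0,-1,0,-1,0,0⟩, ⟨0,0,0,-1,0,-1,1,1⟩), (⟨1,0,0,0,0,0,0,0⟩, ⟨-1,0,0,-1,0,-1,0,0⟩, ⟨0,0,0,1,0,1,-1,-1⟩), (⟨1,0,0,0,0,0,0,0⟩, ⟨-1,0,0,0,0,0,0,0⟩, ⟨0,0,0,0,-2,0,1,-1⟩),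
  (⟨1,0,0,0,0,0,0,0⟩, ⟨-1,0,0,0,0,0,0,0⟩, ⟨0,0,0,0,0,-2,1,1⟩), (⟨1,0,0,0,0,0,0,0⟩, ⟨-1,0,0,0,0,0,0,0⟩, ⟨0,0,0,0,0,0,-1,-1⟩), (⟨1,0,0,0,0,0,0,0⟩, ⟨-1,0,0,0,0,0,0,0⟩, ⟨0,0,0,0,0,0,-1,1⟩),
  (⟨1,0,0,0,0,0,0,0⟩, ⟨-1,0,0,0,0,0,0,0⟩, ⟨0,0,0,0,0,0,1,-1⟩), (⟨1,0,0,0,0,0,0,0⟩, ⟨-1,0,0,0,0,0,0,0⟩, ⟨0,0,0,0,0,0,1,1⟩), (⟨1,0,0,0,0,0,0,0⟩, ⟨-1,0,0,0,0,0,0,0⟩, ⟨0,0,0,0,0,2,-1,-1⟩)],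
[
  (⟨1,0,0,0,0,0,0,0⟩, ⟨-1,0,0,0,0,0,0,0⟩, ⟨0,0,0,0,2,0,-1,1⟩), (⟨1,0,0,0,0,0,0,0⟩, ⟨-1,0,1,-1,-1,-1,2,0⟩, ⟨-2,0,1,-1,-1,-1,1,-1⟩), (⟨1,0,0,0,0,0,0,0⟩, ⟨-1,0,1,-1,-1,-1,2,0⟩, ⟨0,-2,1,1,1,-1,1,1⟩),
  (⟨1,0,0,0,0,0,0,0⟩, ⟨-1,0,1,-1,-1,-1,2,0⟩, ⟨0,0,-1,-1,-1,-1,1,-1⟩), (⟨1,0,0,0,0,0,0,0⟩, ⟨-1,0,1,-1,-1,-1,2,0⟩, ⟨0,0,-1,1,-1,1,-1,-1⟩), (⟨1,0,0,0,0,0,0,0⟩, ⟨-1,0,1,-1,-1,-1,2,0⟩, ⟨0,0,1,-1,1,-1,1,1⟩),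
  (⟨1,0,0,0,0,0,0,0⟩, ⟨-1,0,1,-1,-1,-1,2,0⟩, ⟨0,0,1,1,1,1,-1,1⟩), (⟨1,0,0,0,0,0,0,0⟩, ⟨-1,0,1,-1,-1,-1,2,0⟩, ⟨0,2,-1,-1,-1,1,-1,-1⟩), (⟨1,0,0,0,0,0,0,0⟩, ⟨-1,0,1,-1,-1,-1,2,0⟩, ⟨2,0,-1,1,1,1,-1,1⟩),
  (⟨1,0,0,0,0,0,0,0⟩, ⟨-1,0,1,0,-1,0,0,0⟩, ⟨0,0,-1,0,-1,0,1,-1⟩), (⟨1,0,0,0,0,0,0,0⟩, ⟨-1,0,1,0,-1,0,0,0⟩, ⟨0,0,1,0,1,0,-1,1⟩), (⟨1,0,0,0,0,0,0,0⟩, ⟨-1,1,-1,-1,-1,-1,1,-1⟩, ⟨0,-1,1,1,1,-1,0,2⟩),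
  (⟨1,0,0,0,0,0,0,0⟩, ⟨-1,1,-1,-1,-1,-1,1,-1⟩, ⟨0,1,-1,-1,-1,1,0,-2⟩), (⟨1,0,0,0,0,0,0,0⟩, ⟨-1,1,0,-2,-2,0,1,-1⟩, ⟨0,-1,0,0,0,0,0,0⟩), (⟨1,0,0,0,0,0,0,0⟩, ⟨-1,1,0,-2,-2,0,1,-1⟩, ⟨0,1,0,0,0,0,0,0⟩),
  (⟨1,0,0,0,0,0,0,0⟩, ⟨-1,1,0,-1,-2,-1,1,-1⟩, ⟨0,-1,0,1,0,-1,0,0⟩), (⟨1,0,0,0,0,0,0,0⟩, ⟨-1,1,0,-1,-2,-1,1,-1⟩, ⟨0,1,0,-1,0,1,0,0⟩), (⟨1,0,0,0,0,0,0,0⟩, ⟨-1,1,0,0,-2,0,1,-1⟩, ⟨0,-1,0,0,0,0,0,0⟩),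
  (⟨1,0,0,0,0,0,0,0⟩, ⟨-1,1,0,0,-2,0,1,-1⟩, ⟨0,1,0,0,0,0,0,0⟩), (⟨1,0,0,0,0,0,0,0⟩, ⟨-1,1,1,-1,-1,-1,1,1⟩, ⟨0,-1,1,1,1,-1,0,2⟩), (⟨1,0,0,0,0,0,0,0⟩, ⟨-1,1,1,-1,-1,-1,1,1⟩, ⟨0,1,-1,-1,-1,1,0,-2⟩)],
[
  (⟨1,0,0,0,0,0,0,0⟩, ⟨0,-2,1,1,1,-1,1,1⟩, ⟨-1,0,1,-1,-1,-1,2,0⟩), (⟨1,0,0,0,0,0,0,0⟩, ⟨0,-2,1,1,1,-1,1,1⟩, ⟨1,0,-1,1,1,1,-2,0⟩), (⟨1,0,0,0,0,0,0,0⟩, ⟨0,-1,0,0,0,0,0,0⟩, ⟨-1,-1,0,0,0,-2,1,1⟩),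
  (⟨1,0,0,0,0,0,0,0⟩, ⟨0,-1,0,0,0,0,0,0⟩, ⟨-1,-1,2,0,0,-2,1,1⟩), (⟨1,0,0,0,0,0,0,0⟩, ⟨0,-1,0,0,0,0,0,0⟩, ⟨-1,1,0,-2,-2,0,1,-1⟩), (⟨1,0,0,0,0,0,0,0⟩, ⟨0,-1,0,0,0,0,0,0⟩, ⟨-1,1,0,0,-2,0,1,-1⟩),
  (⟨1,0,0,0,0,0,0,0⟩, ⟨0,-1,0,0,0,0,0,0⟩, ⟨1,-1,0,0,2,0,-1,1⟩), (⟨1,0,0,0,0,0,0,0⟩, ⟨0,-1,0,0,0,0,0,0⟩, ⟨1,-1,0,2,2,0,-1,1⟩), (⟨1,0,0,0,0,0,0,0⟩, ⟨0,-1,0,0,0,0,0,0⟩, ⟨1,1,-2,0,0,2,-1,-1⟩),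
  (⟨1,0,0,0,0,0,0,0⟩, ⟨0,-1,0,0,0,0,0,0⟩, ⟨1,1,0,0,0,2,-1,-1⟩), (⟨1,0,0,0,0,0,0,0⟩, ⟨0,-1,0,1,0,-1,0,0⟩, ⟨-1,1,0,-1,-2,-1,1,-1⟩), (⟨1,0,0,0,0,0,0,0⟩, ⟨0,-1,0,1,0,-1,0,0⟩, ⟨1,-1,0,1,2,1,-1,1⟩),
  (⟨1,0,0,0,0,0,0,0⟩, ⟨0,-1,1,0,1,0,0,0⟩, ⟨-1,-1,1,0,1,-2,1,1⟩), (⟨1,0,0,0,0,0,0,0⟩, ⟨0,-1,1,0,1,0,0,0⟩, ⟨1,1,-1,0,-1,2,-1,-1⟩), (⟨1,0,0,0,0,0,0,0⟩, ⟨0,-1,1,1,1,-1,0,2⟩, ⟨-1,-1,1,-1,1,-1,1,1⟩),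
  (⟨1,0,0,0,0,0,0,0⟩, ⟨0,-1,1,1,1,-1,0,2⟩, ⟨-1,-1,1,1,1,-1,-1,1⟩), (⟨1,0,0,0,0,0,0,0⟩, ⟨0,-1,1,1,1,-1,0,2⟩, ⟨-1,1,-1,-1,-1,-1,1,-1⟩), (⟨1,0,0,0,0,0,0,0⟩, ⟨0,-1,1,1,1,-1,0,2⟩, ⟨-1,1,1,-1,-1,-1,1,1⟩),
  (⟨1,0,0,0,0,0,0,0⟩, ⟨0,-1,1,1,1,-1,0,2⟩, ⟨1,-1,-1,1,1,1,-1,-1⟩), (⟨1,0,0,0,0,0,0,0⟩, ⟨0,-1,1,1,1,-1,0,2⟩, ⟨1,-1,1,1,1,1,-1,1⟩), (⟨1,0,0,0,0,0,0,0⟩, ⟨0,-1,1,1,1,-1,0,2⟩, ⟨1,1,-1,-1,-1,1,1,-1⟩)],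
[
  (⟨1,0,0,0,0,0,0,0⟩, ⟨0,-1,1,1,1,-1,0,2⟩, ⟨1,1,-1,1,-1,1,-1,-1⟩), (⟨1,0,0,0,0,0,0,0⟩, ⟨0,0,-1,-1,-1,-1,1,-1⟩, ⟨-1,0,1,-1,-1,-1,2,0⟩), (⟨1,0,0,0,0,0,0,0⟩, ⟨0,0,-1,-1,-1,-1,1,-1⟩, ⟨1,0,-1,1,1,1,-2,0⟩),
  (⟨1,0,0,0,0,0,0,0⟩, ⟨0,0,-1,0,-1,0,1,-1⟩, ⟨-1,0,1,0,-1,0,0,0⟩), (⟨1,0,0,0,0,0,0,0⟩, ⟨0,0,-1,0,-1,0,1,-1⟩, ⟨1,0,-1,0,1,0,0,0⟩), (⟨1,0,0,0,0,0,0,0⟩, ⟨0,0,-1,1,-1,1,-1,-1⟩, ⟨-1,0,1,-1,-1,-1,2,0⟩),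
  (⟨1,0,0,0,0,0,0,0⟩, ⟨0,0,-1,1,-1,1,-1,-1⟩, ⟨1,0,-1,1,1,1,-2,0⟩), (⟨1,0,0,0,0,0,0,0⟩, ⟨0,0,0,-1,0,-1,1,1⟩, ⟨-1,0,0,-1,0,-1,0,0⟩), (⟨1,0,0,0,0,0,0,0⟩, ⟨0,0,0,-1,0,-1,1,1⟩, ⟨1,0,0,1,0,1,0,0⟩),
  (⟨1,0,0,0,0,0,0,0⟩, ⟨0,0,0,0,-2,0,1,-1⟩, ⟨-1,0,0,0,0,0,0,0⟩), (⟨1,0,0,0,0,0,0,0⟩, ⟨0,0,0,0,-2,0,1,-1⟩, ⟨1,0,0,0,0,0,0,0⟩), (⟨1,0,0,0,0,0,0,0⟩, ⟨0,0,0,0,0,-2,1,1⟩, ⟨-1,0,0,0,0,0,0,0⟩),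
  (⟨1,0,0,0,0,0,0,0⟩, ⟨0,0,0,0,0,-2,1,1⟩, ⟨1,0,0,0,0,0,0,0⟩), (⟨1,0,0,0,0,0,0,0⟩, ⟨0,0,0,0,0,0,-1,-1⟩, ⟨-1,0,0,0,0,0,0,0⟩), (⟨1,0,0,0,0,0,0,0⟩, ⟨0,0,0,0,0,0,-1,-1⟩, ⟨1,0,0,0,0,0,0,0⟩),
  (⟨1,0,0,0,0,0,0,0⟩, ⟨0,0,0,0,0,0,-1,1⟩, ⟨-1,0,0,0,0,0,0,0⟩), (⟨1,0,0,0,0,0,0,0⟩, ⟨0,0,0,0,0,0,-1,1⟩, ⟨1,0,0,0,0,0,0,0⟩), (⟨1,0,0,0,0,0,0,0⟩, ⟨0,0,0,0,0,0,1,-1⟩, ⟨-1,0,0,0,0,0,0,0⟩),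
  (⟨1,0,0,0,0,0,0,0⟩, ⟨0,0,0,0,0,0,1,-1⟩, ⟨1,0,0,0,0,0,0,0⟩), (⟨1,0,0,0,0,0,0,0⟩, ⟨0,0,0,0,0,0,1,1⟩, ⟨-1,0,0,0,0,0,0,0⟩), (⟨1,0,0,0,0,0,0,0⟩, ⟨0,0,0,0,0,0,1,1⟩, ⟨1,0,0,0,0,0,0,0⟩)],
[
  (⟨1,0,0,0,0,0,0,0⟩, ⟨0,0,0,0,0,2,-1,-1⟩, ⟨-1,0,0,0,0,0,0,0⟩), (⟨1,0,0,0,0,0,0,0⟩, ⟨0,0,0,0,0,2,-1,-1⟩, ⟨1,0,0,0,0,0,0,0⟩), (⟨1,0,0,0,0,0,0,0⟩, ⟨0,0,0,0,2,0,-1,1⟩, ⟨-1,0,0,0,0,0,0,0⟩),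
  (⟨1,0,0,0,0,0,0,0⟩, ⟨0,0,0,0,2,0,-1,1⟩, ⟨1,0,0,0,0,0,0,0⟩), (⟨1,0,0,0,0,0,0,0⟩, ⟨0,0,0,1,0,1,-1,-1⟩, ⟨-1,0,0,-1,0,-1,0,0⟩), (⟨1,0,0,0,0,0,0,0⟩, ⟨0,0,0,1,0,1,-1,-1⟩, ⟨1,0,0,1,0,1,0,0⟩),
  (⟨1,0,0,0,0,0,0,0⟩, ⟨0,0,1,-1,1,-1,1,1⟩, ⟨-1,0,1,-1,-1,-1,2,0⟩), (⟨1,0,0,0,0,0,0,0⟩, ⟨0,0,1,-1,1,-1,1,1⟩, ⟨1,0,-1,1,1,1,-2,0⟩), (⟨1,0,0,0,0,0,0,0⟩, ⟨0,0,1,0,1,0,-1,1⟩, ⟨-1,0,1,0,-1,0,0,0⟩),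
  (⟨1,0,0,0,0,0,0,0⟩, ⟨0,0,1,0,1,0,-1,1⟩, ⟨1,0,-1,0,1,0,0,0⟩), (⟨1,0,0,0,0,0,0,0⟩, ⟨0,0,1,1,1,1,-1,1⟩, ⟨-1,0,1,-1,-1,-1,2,0⟩), (⟨1,0,0,0,0,0,0,0⟩, ⟨0,0,1,1,1,1,-1,1⟩, ⟨1,0,-1,1,1,1,-2,0⟩),
  (⟨1,0,0,0,0,0,0,0⟩, ⟨0,1,-1,-1,-1,1,0,-2⟩, ⟨-1,-1,1,-1,1,-1,1,1⟩), (⟨1,0,0,0,0,0,0,0⟩, ⟨0,1,-1,-1,-1,1,0,-2⟩, ⟨-1,-1,1,1,1,-1,-1,1⟩), (⟨1,0,0,0,0,0,0,0⟩, ⟨0,1,-1,-1,-1,1,0,-2⟩, ⟨-1,1,-1,-1,-1,-1,1,-1⟩),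
  (⟨1,0,0,0,0,0,0,0⟩, ⟨0,1,-1,-1,-1,1,0,-2⟩, ⟨-1,1,1,-1,-1,-1,1,1⟩), (⟨1,0,0,0,0,0,0,0⟩, ⟨0,1,-1,-1,-1,1,0,-2⟩, ⟨1,-1,-1,1,1,1,-1,-1⟩), (⟨1,0,0,0,0,0,0,0⟩, ⟨0,1,-1,-1,-1,1,0,-2⟩, ⟨1,-1,1,1,1,1,-1,1⟩),
  (⟨1,0,0,0,0,0,0,0⟩, ⟨0,1,-1,-1,-1,1,0,-2⟩, ⟨1,1,-1,-1,-1,1,1,-1⟩), (⟨1,0,0,0,0,0,0,0⟩, ⟨0,1,-1,-1,-1,1,0,-2⟩, ⟨1,1,-1,1,-1,1,-1,-1⟩), (⟨1,0,0,0,0,0,0,0⟩, ⟨0,1,-1,0,-1,0,0,0⟩, ⟨-1,-1,1,0,1,-2,1,1⟩)],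
[
  (⟨1,0,0,0,0,0,0,0⟩, ⟨0,1,-1,0,-1,0,0,0⟩, ⟨1,1,-1,0,-1,2,-1,-1⟩), (⟨1,0,0,0,0,0,0,0⟩, ⟨0,1,0,-1,0,1,0,0⟩, ⟨-1,1,0,-1,-2,-1,1,-1⟩), (⟨1,0,0,0,0,0,0,0⟩, ⟨0,1,0,-1,0,1,0,0⟩, ⟨1,-1,0,1,2,1,-1,1⟩),
  (⟨1,0,0,0,0,0,0,0⟩, ⟨0,1,0,0,0,0,0,0⟩, ⟨-1,-1,0,0,0,-2,1,1⟩), (⟨1,0,0,0,0,0,0,0⟩, ⟨0,1,0,0,0,0,0,0⟩, ⟨-1,-1,2,0,0,-2,1,1⟩), (⟨1,0,0,0,0,0,0,0⟩, ⟨0,1,0,0,0,0,0,0⟩, ⟨-1,1,0,-2,-2,0,1,-1⟩),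
  (⟨1,0,0,0,0,0,0,0⟩, ⟨0,1,0,0,0,0,0,0⟩, ⟨-1,1,0,0,-2,0,1,-1⟩), (⟨1,0,0,0,0,0,0,0⟩, ⟨0,1,0,0,0,0,0,0⟩, ⟨1,-1,0,0,2,0,-1,1⟩), (⟨1,0,0,0,0,0,0,0⟩, ⟨0,1,0,0,0,0,0,0⟩, ⟨1,-1,0,2,2,0,-1,1⟩),
  (⟨1,0,0,0,0,0,0,0⟩, ⟨0,1,0,0,0,0,0,0⟩, ⟨1,1,-2,0,0,2,-1,-1⟩), (⟨1,0,0,0,0,0,0,0⟩, ⟨0,1,0,0,0,0,0,0⟩, ⟨1,1,0,0,0,2,-1,-1⟩), (⟨1,0,0,0,0,0,0,0⟩, ⟨0,2,-1,-1,-1,1,-1,-1⟩, ⟨-1,0,1,-1,-1,-1,2,0⟩),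
  (⟨1,0,0,0,0,0,0,0⟩, ⟨0,2,-1,-1,-1,1,-1,-1⟩, ⟨1,0,-1,1,1,1,-2,0⟩), (⟨1,0,0,0,0,0,0,0⟩, ⟨1,-1,-1,1,1,1,-1,-1⟩, ⟨0,-1,1,1,1,-1,0,2⟩), (⟨1,0,0,0,0,0,0,0⟩, ⟨1,-1,-1,1,1,1,-1,-1⟩, ⟨0,1,-1,-1,-1,1,0,-2⟩),
  (⟨1,0,0,0,0,0,0,0⟩, ⟨1,-1,0,0,2,0,-1,1⟩, ⟨0,-1,0,0,0,0,0,0⟩), (⟨1,0,0,0,0,0,0,0⟩, ⟨1,-1,0,0,2,0,-1,1⟩, ⟨0,1,0,0,0,0,0,0⟩), (⟨1,0,0,0,0,0,0,0⟩, ⟨1,-1,0,1,2,1,-1,1⟩, ⟨0,-1,0,1,0,-1,0,0⟩),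
  (⟨1,0,0,0,0,0,0,0⟩, ⟨1,-1,0,1,2,1,-1,1⟩, ⟨0,1,0,-1,0,1,0,0⟩), (⟨1,0,0,0,0,0,0,0⟩, ⟨1,-1,0,2,2,0,-1,1⟩, ⟨0,-1,0,0,0,0,0,0⟩), (⟨1,0,0,0,0,0,0,0⟩, ⟨1,-1,0,2,2,0,-1,1⟩, ⟨0,1,0,0,0,0,0,0⟩)],
[
  (⟨1,0,0,0,0,0,0,0⟩, ⟨1,-1,1,1,1,1,-1,1⟩, ⟨0,-1,1,1,1,-1,0,2⟩), (⟨1,0,0,0,0,0,0,0⟩, ⟨1,-1,1,1,1,1,-1,1⟩, ⟨0,1,-1,-1,-1,1,0,-2⟩), (⟨1,0,0,0,0,0,0,0⟩, ⟨1,0,-1,0,1,0,0,0⟩, ⟨0,0,-1,0,-1,0,1,-1⟩),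
  (⟨1,0,0,0,0,0,0,0⟩, ⟨1,0,-1,0,1,0,0,0⟩, ⟨0,0,1,0,1,0,-1,1⟩), (⟨1,0,0,0,0,0,0,0⟩, ⟨1,0,-1,1,1,1,-2,0⟩, ⟨-2,0,1,-1,-1,-1,1,-1⟩), (⟨1,0,0,0,0,0,0,0⟩, ⟨1,0,-1,1,1,1,-2,0⟩, ⟨0,-2,1,1,1,-1,1,1⟩),
  (⟨1,0,0,0,0,0,0,0⟩, ⟨1,0,-1,1,1,1,-2,0⟩, ⟨0,0,-1,-1,-1,-1,1,-1⟩), (⟨1,0,0,0,0,0,0,0⟩, ⟨1,0,-1,1,1,1,-2,0⟩, ⟨0,0,-1,1,-1,1,-1,-1⟩), (⟨1,0,0,0,0,0,0,0⟩, ⟨1,0,-1,1,1,1,-2,0⟩, ⟨0,0,1,-1,1,-1,1,1⟩),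
  (⟨1,0,0,0,0,0,0,0⟩, ⟨1,0,-1,1,1,1,-2,0⟩, ⟨0,0,1,1,1,1,-1,1⟩), (⟨1,0,0,0,0,0,0,0⟩, ⟨1,0,-1,1,1,1,-2,0⟩, ⟨0,2,-1,-1,-1,1,-1,-1⟩), (⟨1,0,0,0,0,0,0,0⟩, ⟨1,0,-1,1,1,1,-2,0⟩, ⟨2,0,-1,1,1,1,-1,1⟩),
  (⟨1,0,0,0,0,0,0,0⟩, ⟨1,0,0,0,0,0,0,0⟩, ⟨0,0,0,0,-2,0,1,-1⟩), (⟨1,0,0,0,0,0,0,0⟩, ⟨1,0,0,0,0,0,0,0⟩, ⟨0,0,0,0,0,-2,1,1⟩), (⟨1,0,0,0,0,0,0,0⟩, ⟨1,0,0,0,0,0,0,0⟩, ⟨0,0,0,0,0,0,-1,-1⟩),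
  (⟨1,0,0,0,0,0,0,0⟩, ⟨1,0,0,0,0,0,0,0⟩, ⟨0,0,0,0,0,0,-1,1⟩), (⟨1,0,0,0,0,0,0,0⟩, ⟨1,0,0,0,0,0,0,0⟩, ⟨0,0,0,0,0,0,1,-1⟩), (⟨1,0,0,0,0,0,0,0⟩, ⟨1,0,0,0,0,0,0,0⟩, ⟨0,0,0,0,0,0,1,1⟩),
  (⟨1,0,0,0,0,0,0,0⟩, ⟨1,0,0,0,0,0,0,0⟩, ⟨0,0,0,0,0,2,-1,-1⟩), (⟨1,0,0,0,0,0,0,0⟩, ⟨1,0,0,0,0,0,0,0⟩, ⟨0,0,0,0,2,0,-1,1⟩), (⟨1,0,0,0,0,0,0,0⟩, ⟨1,0,0,1,0,1,0,0⟩, ⟨0,0,0,-1,0,-1,1,1⟩)],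
[
  (⟨1,0,0,0,0,0,0,0⟩, ⟨1,0,0,1,0,1,0,0⟩, ⟨0,0,0,1,0,1,-1,-1⟩), (⟨1,0,0,0,0,0,0,0⟩, ⟨1,1,-2,0,0,2,-1,-1⟩, ⟨0,-1,0,0,0,0,0,0⟩), (⟨1,0,0,0,0,0,0,0⟩, ⟨1,1,-2,0,0,2,-1,-1⟩, ⟨0,1,0,0,0,0,0,0⟩),
  (⟨1,0,0,0,0,0,0,0⟩, ⟨1,1,-1,-1,-1,1,1,-1⟩, ⟨0,-1,1,1,1,-1,0,2⟩), (⟨1,0,0,0,0,0,0,0⟩, ⟨1,1,-1,-1,-1,1,1,-1⟩, ⟨0,1,-1,-1,-1,1,0,-2⟩), (⟨1,0,0,0,0,0,0,0⟩, ⟨1,1,-1,0,-1,2,-1,-1⟩, ⟨0,-1,1,0,1,0,0,0⟩),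
  (⟨1,0,0,0,0,0,0,0⟩, ⟨1,1,-1,0,-1,2,-1,-1⟩, ⟨0,1,-1,0,-1,0,0,0⟩), (⟨1,0,0,0,0,0,0,0⟩, ⟨1,1,-1,1,-1,1,-1,-1⟩, ⟨0,-1,1,1,1,-1,0,2⟩), (⟨1,0,0,0,0,0,0,0⟩, ⟨1,1,-1,1,-1,1,-1,-1⟩, ⟨0,1,-1,-1,-1,1,0,-2⟩),
  (⟨1,0,0,0,0,0,0,0⟩, ⟨1,1,0,0,0,2,-1,-1⟩, ⟨0,-1,0,0,0,0,0,0⟩), (⟨1,0,0,0,0,0,0,0⟩, ⟨1,1,0,0,0,2,-1,-1⟩, ⟨0,1,0,0,0,0,0,0⟩), (⟨1,0,0,0,0,0,0,0⟩, ⟨2,0,-1,1,1,1,-1,1⟩, ⟨-1,0,1,-1,-1,-1,2,0⟩),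
  (⟨1,0,0,0,0,0,0,0⟩, ⟨2,0,-1,1,1,1,-1,1⟩, ⟨1,0,-1,1,1,1,-2,0⟩), (⟨1,0,0,0,1,-1,0,1⟩, ⟨-1,-1,1,0,0,-1,1,0⟩, ⟨-1,0,1,0,0,-1,0,1⟩), (⟨1,0,0,0,1,-1,0,1⟩, ⟨-1,-1,1,0,0,-1,1,0⟩, ⟨1,0,-1,0,0,1,0,-1⟩),
  (⟨1,0,0,0,1,-1,0,1⟩, ⟨-1,0,1,0,0,-1,0,1⟩, ⟨-1,-1,1,0,0,-1,1,0⟩), (⟨1,0,0,0,1,-1,0,1⟩, ⟨-1,0,1,0,0,-1,0,1⟩, ⟨1,1,-1,0,0,1,-1,0⟩), (⟨1,0,0,0,1,-1,0,1⟩, ⟨0,-1,0,0,1,-1,0,1⟩, ⟨0,0,0,0,-1,-1,1,0⟩),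
  (⟨1,0,0,0,1,-1,0,1⟩, ⟨0,-1,0,0,1,-1,0,1⟩, ⟨0,0,0,0,1,1,-1,0⟩), (⟨1,0,0,0,1,-1,0,1⟩, ⟨0,0,0,0,-1,-1,1,0⟩, ⟨0,-1,0,0,1,-1,0,1⟩), (⟨1,0,0,0,1,-1,0,1⟩, ⟨0,0,0,0,-1,-1,1,0⟩, ⟨0,1,0,0,-1,1,0,-1⟩)],
[
  (⟨1,0,0,0,1,-1,0,1⟩, ⟨0,0,0,0,1,1,-1,0⟩, ⟨0,-1,0,0,1,-1,0,1⟩), (⟨1,0,0,0,1,-1,0,1⟩, ⟨0,0,0,0,1,1,-1,0⟩, ⟨0,1,0,0,-1,1,0,-1⟩), (⟨1,0,0,0,1,-1,0,1⟩, ⟨0,1,0,0,-1,1,0,-1⟩, ⟨0,0,0,0,-1,-1,1,0⟩),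
  (⟨1,0,0,0,1,-1,0,1⟩, ⟨0,1,0,0,-1,1,0,-1⟩, ⟨0,0,0,0,1,1,-1,0⟩), (⟨1,0,0,0,1,-1,0,1⟩, ⟨1,0,-1,0,0,1,0,-1⟩, ⟨-1,-1,1,0,0,-1,1,0⟩), (⟨1,0,0,0,1,-1,0,1⟩, ⟨1,0,-1,0,0,1,0,-1⟩, ⟨1,1,-1,0,0,1,-1,0⟩),
  (⟨1,0,0,0,1,-1,0,1⟩, ⟨1,1,-1,0,0,1,-1,0⟩, ⟨-1,0,1,0,0,-1,0,1⟩), (⟨1,0,0,0,1,-1,0,1⟩, ⟨1,1,-1,0,0,1,-1,0⟩, ⟨1,0,-1,0,0,1,0,-1⟩), (⟨1,0,0,0,1,0,0,0⟩, ⟨-1,-1,1,0,0,-2,1,1⟩, ⟨-1,0,0,-1,-1,-1,2,0⟩),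
  (⟨1,0,0,0,1,0,0,0⟩, ⟨-1,-1,1,0,0,-2,1,1⟩, ⟨1,0,0,1,1,1,-2,0⟩), (⟨1,0,0,0,1,0,0,0⟩, ⟨-1,0,0,-1,-1,-1,2,0⟩, ⟨-1,-1,1,0,0,-2,1,1⟩), (⟨1,0,0,0,1,0,0,0⟩, ⟨-1,0,0,-1,-1,-1,2,0⟩, ⟨1,1,-1,0,0,2,-1,-1⟩),
  (⟨1,0,0,0,1,0,0,0⟩, ⟨-1,0,1,0,0,0,0,0⟩, ⟨-1,1,0,-1,-1,-1,1,-1⟩), (⟨1,0,0,0,1,0,0,0⟩, ⟨-1,0,1,0,0,0,0,0⟩, ⟨1,-1,0,1,1,1,-1,1⟩), (⟨1,0,0,0,1,0,0,0⟩, ⟨-1,1,0,-1,-1,-1,1,-1⟩, ⟨-1,0,1,0,0,0,0,0⟩),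
  (⟨1,0,0,0,1,0,0,0⟩, ⟨-1,1,0,-1,-1,-1,1,-1⟩, ⟨1,0,-1,0,0,0,0,0⟩), (⟨1,0,0,0,1,0,0,0⟩, ⟨0,-1,0,0,1,0,0,0⟩, ⟨0,0,-1,1,0,1,-1,-1⟩), (⟨1,0,0,0,1,0,0,0⟩, ⟨0,-1,0,0,1,0,0,0⟩, ⟨0,0,1,-1,0,-1,1,1⟩),
  (⟨1,0,0,0,1,0,0,0⟩, ⟨0,-1,1,1,2,-1,0,2⟩, ⟨0,0,0,0,-1,0,1,-1⟩), (⟨1,0,0,0,1,0,0,0⟩, ⟨0,-1,1,1,2,-1,0,2⟩, ⟨0,0,0,0,1,0,-1,1⟩), (⟨1,0,0,0,1,0,0,0⟩, ⟨0,0,-1,1,0,1,-1,-1⟩, ⟨0,-1,0,0,1,0,0,0⟩)],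
[
  (⟨1,0,0,0,1,0,0,0⟩, ⟨0,0,-1,1,0,1,-1,-1⟩, ⟨0,1,0,0,-1,0,0,0⟩), (⟨1,0,0,0,1,0,0,0⟩, ⟨0,0,0,0,-1,0,1,-1⟩, ⟨0,-1,1,1,2,-1,0,2⟩), (⟨1,0,0,0,1,0,0,0⟩, ⟨0,0,0,0,-1,0,1,-1⟩, ⟨0,1,-1,-1,-2,1,0,-2⟩),
  (⟨1,0,0,0,1,0,0,0⟩, ⟨0,0,0,0,1,0,-1,1⟩, ⟨0,-1,1,1,2,-1,0,2⟩), (⟨1,0,0,0,1,0,0,0⟩, ⟨0,0,0,0,1,0,-1,1⟩, ⟨0,1,-1,-1,-2,1,0,-2⟩), (⟨1,0,0,0,1,0,0,0⟩, ⟨0,0,1,-1,0,-1,1,1⟩, ⟨0,-1,0,0,1,0,0,0⟩),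
  (⟨1,0,0,0,1,0,0,0⟩, ⟨0,0,1,-1,0,-1,1,1⟩, ⟨0,1,0,0,-1,0,0,0⟩), (⟨1,0,0,0,1,0,0,0⟩, ⟨0,1,-1,-1,-2,1,0,-2⟩, ⟨0,0,0,0,-1,0,1,-1⟩), (⟨1,0,0,0,1,0,0,0⟩, ⟨0,1,-1,-1,-2,1,0,-2⟩, ⟨0,0,0,0,1,0,-1,1⟩),
  (⟨1,0,0,0,1,0,0,0⟩, ⟨0,1,0,0,-1,0,0,0⟩, ⟨0,0,-1,1,0,1,-1,-1⟩), (⟨1,0,0,0,1,0,0,0⟩, ⟨0,1,0,0,-1,0,0,0⟩, ⟨0,0,1,-1,0,-1,1,1⟩), (⟨1,0,0,0,1,0,0,0⟩, ⟨1,-1,0,1,1,1,-1,1⟩, ⟨-1,0,1,0,0,0,0,0⟩),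
  (⟨1,0,0,0,1,0,0,0⟩, ⟨1,-1,0,1,1,1,-1,1⟩, ⟨1,0,-1,0,0,0,0,0⟩), (⟨1,0,0,0,1,0,0,0⟩, ⟨1,0,-1,0,0,0,0,0⟩, ⟨-1,1,0,-1,-1,-1,1,-1⟩), (⟨1,0,0,0,1,0,0,0⟩, ⟨1,0,-1,0,0,0,0,0⟩, ⟨1,-1,0,1,1,1,-1,1⟩),
  (⟨1,0,0,0,1,0,0,0⟩, ⟨1,0,0,1,1,1,-2,0⟩, ⟨-1,-1,1,0,0,-2,1,1⟩), (⟨1,0,0,0,1,0,0,0⟩, ⟨1,0,0,1,1,1,-2,0⟩, ⟨1,1,-1,0,0,2,-1,-1⟩), (⟨1,0,0,0,1,0,0,0⟩, ⟨1,1,-1,0,0,2,-1,-1⟩, ⟨-1,0,0,-1,-1,-1,2,0⟩),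
  (⟨1,0,0,0,1,0,0,0⟩, ⟨1,1,-1,0,0,2,-1,-1⟩, ⟨1,0,0,1,1,1,-2,0⟩), (⟨1,0,1,0,1,0,0,1⟩, ⟨0,-1,1,0,1,0,0,1⟩, ⟨0,0,0,0,0,0,-1,0⟩), (⟨1,0,1,0,1,0,0,1⟩, ⟨0,-1,1,0,1,0,0,1⟩, ⟨0,0,0,0,0,0,1,0⟩)],
[
  (⟨1,0,1,0,1,0,0,1⟩, ⟨0,-1,1,1,1,-1,0,1⟩, ⟨0,0,0,-1,0,-1,1,0⟩), (⟨1,0,1,0,1,0,0,1⟩, ⟨0,-1,1,1,1,-1,0,1⟩, ⟨0,0,0,1,0,1,-1,0⟩), (⟨1,0,1,0,1,0,0,1⟩, ⟨0,0,0,-1,0,-1,1,0⟩, ⟨0,-1,1,1,1,-1,0,1⟩),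
  (⟨1,0,1,0,1,0,0,1⟩, ⟨0,0,0,-1,0,-1,1,0⟩, ⟨0,1,-1,-1,-1,1,0,-1⟩), (⟨1,0,1,0,1,0,0,1⟩, ⟨0,0,0,0,0,0,-1,0⟩, ⟨0,-1,1,0,1,0,0,1⟩), (⟨1,0,1,0,1,0,0,1⟩, ⟨0,0,0,0,0,0,-1,0⟩, ⟨0,1,-1,0,-1,0,0,-1⟩),
  (⟨1,0,1,0,1,0,0,1⟩, ⟨0,0,0,0,0,0,1,0⟩, ⟨0,-1,1,0,1,0,0,1⟩), (⟨1,0,1,0,1,0,0,1⟩, ⟨0,0,0,0,0,0,1,0⟩, ⟨0,1,-1,0,-1,0,0,-1⟩), (⟨1,0,1,0,1,0,0,1⟩, ⟨0,0,0,1,0,1,-1,0⟩, ⟨0,-1,1,1,1,-1,0,1⟩),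
  (⟨1,0,1,0,1,0,0,1⟩, ⟨0,0,0,1,0,1,-1,0⟩, ⟨0,1,-1,-1,-1,1,0,-1⟩), (⟨1,0,1,0,1,0,0,1⟩, ⟨0,1,-1,-1,-1,1,0,-1⟩, ⟨0,0,0,-1,0,-1,1,0⟩), (⟨1,0,1,0,1,0,0,1⟩, ⟨0,1,-1,-1,-1,1,0,-1⟩, ⟨0,0,0,1,0,1,-1,0⟩),
  (⟨1,0,1,0,1,0,0,1⟩, ⟨0,1,-1,0,-1,0,0,-1⟩, ⟨0,0,0,0,0,0,-1,0⟩), (⟨1,0,1,0,1,0,0,1⟩, ⟨0,1,-1,0,-1,0,0,-1⟩, ⟨0,0,0,0,0,0,1,0⟩), (⟨1,1,-1,0,-1,0,0,-1⟩, ⟨-1,0,0,-1,0,-1,1,0⟩, ⟨-1,0,1,-1,-1,-1,1,0⟩),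
  (⟨1,1,-1,0,-1,0,0,-1⟩, ⟨-1,0,0,-1,0,-1,1,0⟩, ⟨1,0,-1,1,1,1,-1,0⟩), (⟨1,1,-1,0,-1,0,0,-1⟩, ⟨-1,0,1,-1,-1,-1,1,0⟩, ⟨-1,0,0,-1,0,-1,1,0⟩), (⟨1,1,-1,0,-1,0,0,-1⟩, ⟨-1,0,1,-1,-1,-1,1,0⟩, ⟨1,0,0,1,0,1,-1,0⟩),
  (⟨1,1,-1,0,-1,0,0,-1⟩, ⟨0,0,-1,0,-1,0,0,-1⟩, ⟨0,0,0,0,0,0,0,-1⟩), (⟨1,1,-1,0,-1,0,0,-1⟩, ⟨0,0,-1,0,-1,0,0,-1⟩, ⟨0,0,0,0,0,0,0,1⟩), (⟨1,1,-1,0,-1,0,0,-1⟩, ⟨0,0,0,0,0,0,0,-1⟩, ⟨0,0,-1,0,-1,0,0,-1⟩)],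
[
  (⟨1,1,-1,0,-1,0,0,-1⟩, ⟨0,0,0,0,0,0,0,-1⟩, ⟨0,0,1,0,1,0,0,1⟩), (⟨1,1,-1,0,-1,0,0,-1⟩, ⟨0,0,0,0,0,0,0,1⟩, ⟨0,0,-1,0,-1,0,0,-1⟩), (⟨1,1,-1,0,-1,0,0,-1⟩, ⟨0,0,0,0,0,0,0,1⟩, ⟨0,0,1,0,1,0,0,1⟩),
  (⟨1,1,-1,0,-1,0,0,-1⟩, ⟨0,0,1,0,1,0,0,1⟩, ⟨0,0,0,0,0,0,0,-1⟩), (⟨1,1,-1,0,-1,0,0,-1⟩, ⟨0,0,1,0,1,0,0,1⟩, ⟨0,0,0,0,0,0,0,1⟩), (⟨1,1,-1,0,-1,0,0,-1⟩, ⟨1,0,-1,1,1,1,-1,0⟩, ⟨-1,0,0,-1,0,-1,1,0⟩),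
  (⟨1,1,-1,0,-1,0,0,-1⟩, ⟨1,0,-1,1,1,1,-1,0⟩, ⟨1,0,0,1,0,1,-1,0⟩), (⟨1,1,-1,0,-1,0,0,-1⟩, ⟨1,0,0,1,0,1,-1,0⟩, ⟨-1,0,1,-1,-1,-1,1,0⟩), (⟨1,1,-1,0,-1,0,0,-1⟩, ⟨1,0,0,1,0,1,-1,0⟩, ⟨1,0,-1,1,1,1,-1,0⟩),
  (⟨1,1,0,0,-1,1,0,-1⟩, ⟨-1,0,0,0,-1,-1,1,0⟩, ⟨-1,0,0,0,-1,-1,1,0⟩), (⟨1,1,0,0,-1,1,0,-1⟩, ⟨-1,0,0,0,-1,-1,1,0⟩, ⟨1,0,0,0,1,1,-1,0⟩), (⟨1,1,0,0,-1,1,0,-1⟩, ⟨-1,1,0,-1,-1,0,0,-1⟩, ⟨-1,1,0,-1,-1,0,0,-1⟩),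
  (⟨1,1,0,0,-1,1,0,-1⟩, ⟨-1,1,0,-1,-1,0,0,-1⟩, ⟨1,-1,0,1,1,0,0,1⟩), (⟨1,1,0,0,-1,1,0,-1⟩, ⟨0,-1,0,1,1,0,-1,0⟩, ⟨0,-1,0,1,1,0,-1,0⟩), (⟨1,1,0,0,-1,1,0,-1⟩, ⟨0,-1,0,1,1,0,-1,0⟩, ⟨0,1,0,-1,-1,0,1,0⟩),
  (⟨1,1,0,0,-1,1,0,-1⟩, ⟨0,0,0,0,-1,1,0,-1⟩, ⟨0,0,0,0,-1,1,0,-1⟩), (⟨1,1,0,0,-1,1,0,-1⟩, ⟨0,0,0,0,-1,1,0,-1⟩, ⟨0,0,0,0,1,-1,0,1⟩), (⟨1,1,0,0,-1,1,0,-1⟩, ⟨0,0,0,0,1,-1,0,1⟩, ⟨0,0,0,0,-1,1,0,-1⟩),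
  (⟨1,1,0,0,-1,1,0,-1⟩, ⟨0,0,0,0,1,-1,0,1⟩, ⟨0,0,0,0,1,-1,0,1⟩), (⟨1,1,0,0,-1,1,0,-1⟩, ⟨0,1,0,-1,-1,0,1,0⟩, ⟨0,-1,0,1,1,0,-1,0⟩), (⟨1,1,0,0,-1,1,0,-1⟩, ⟨0,1,0,-1,-1,0,1,0⟩, ⟨0,1,0,-1,-1,0,1,0⟩)],
[
  (⟨1,1,0,0,-1,1,0,-1⟩, ⟨1,-1,0,1,1,0,0,1⟩, ⟨-1,1,0,-1,-1,0,0,-1⟩), (⟨1,1,0,0,-1,1,0,-1⟩, ⟨1,-1,0,1,1,0,0,1⟩, ⟨1,-1,0,1,1,0,0,1⟩), (⟨1,1,0,0,-1,1,0,-1⟩, ⟨1,0,0,0,1,1,-1,0⟩, ⟨-1,0,0,0,-1,-1,1,0⟩),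
  (⟨1,1,0,0,-1,1,0,-1⟩, ⟨1,0,0,0,1,1,-1,0⟩, ⟨1,0,0,0,1,1,-1,0⟩), (⟨1,1,0,0,0,0,0,0⟩, ⟨-1,-1,0,0,0,0,0,0⟩, ⟨0,0,0,0,0,0,0,0⟩), (⟨1,1,0,0,0,0,0,0⟩, ⟨-1,-1,2,0,0,-2,2,2⟩, ⟨0,0,0,0,0,0,0,0⟩),
  (⟨1,1,0,0,0,0,0,0⟩, ⟨-1,1,0,-2,-2,0,2,-2⟩, ⟨0,0,0,0,0,0,0,0⟩), (⟨1,1,0,0,0,0,0,0⟩, ⟨-1,1,0,0,0,0,0,0⟩, ⟨0,0,0,0,0,0,0,0⟩), (⟨1,1,0,0,0,0,0,0⟩, ⟨0,0,0,0,0,0,0,0⟩, ⟨-1,-1,0,0,0,0,0,0⟩),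
  (⟨1,1,0,0,0,0,0,0⟩, ⟨0,0,0,0,0,0,0,0⟩, ⟨-1,-1,2,0,0,-2,2,2⟩), (⟨1,1,0,0,0,0,0,0⟩, ⟨0,0,0,0,0,0,0,0⟩, ⟨-1,1,0,-2,-2,0,2,-2⟩), (⟨1,1,0,0,0,0,0,0⟩, ⟨0,0,0,0,0,0,0,0⟩, ⟨-1,1,0,0,0,0,0,0⟩),
  (⟨1,1,0,0,0,0,0,0⟩, ⟨0,0,0,0,0,0,0,0⟩, ⟨1,-1,0,0,0,0,0,0⟩), (⟨1,1,0,0,0,0,0,0⟩, ⟨0,0,0,0,0,0,0,0⟩, ⟨1,-1,0,2,2,0,-2,2⟩), (⟨1,1,0,0,0,0,0,0⟩, ⟨0,0,0,0,0,0,0,0⟩, ⟨1,1,-2,0,0,2,-2,-2⟩),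
  (⟨1,1,0,0,0,0,0,0⟩, ⟨0,0,0,0,0,0,0,0⟩, ⟨1,1,0,0,0,0,0,0⟩), (⟨1,1,0,0,0,0,0,0⟩, ⟨1,-1,0,0,0,0,0,0⟩, ⟨0,0,0,0,0,0,0,0⟩), (⟨1,1,0,0,0,0,0,0⟩, ⟨1,-1,0,2,2,0,-2,2⟩, ⟨0,0,0,0,0,0,0,0⟩),
  (⟨1,1,0,0,0,0,0,0⟩, ⟨1,1,-2,0,0,2,-2,-2⟩, ⟨0,0,0,0,0,0,0,0⟩), (⟨1,1,0,0,0,0,0,0⟩, ⟨1,1,0,0,0,0,0,0⟩, ⟨0,0,0,0,0,0,0,0⟩), (⟨2,0,0,0,0,0,0,0⟩, ⟨0,0,0,0,0,0,0,0⟩, ⟨0,0,0,0,0,0,0,0⟩)]]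

end CfsgHJ
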