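/-
The minimal vectors of the icosian lattice: unit multiples of 315 listed ones.
-/
import Cfsg.Agent.Lib.HallJanko.Lattice
import Cfsg.Agent.Lib.HallJanko.MinData

set_option autoImplicit false

namespace CfsgHJ

open Quaternion Cfsg.Spor Ico

/-- Four times the trace of the norm. -/
def qf (n : Ico) : ℤ :=
  (2 * n.d0 * n.d0 + 2 * n.d0 * n.d1 + 3 * n.d1 * n.d1) + (2 * n.d2 * n.d2 + 2 * n.d2 * n.d3 + 3 * n.d3 * n.d3) +
    (2 * n.d4 * n.d4 + 2 * n.d4 * n.d5 + 3 * n.d5 * n.d5) + (2 * n.d6 * n.d6 + 2 * n.d6 * n.d7 + 3 * n.d7 * n.d7)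

theorem qf_norm (n : Ico) : qf n = 2 * (2 * (mul n (conj n)).d0 + (mul n (conj n)).d1) := by
  simp only [qf, Ico.mul, conj, d0, d1, d2, d3, d4, d5, d6, d7]; ring

theorem qf_mul_hH (a : Ico) : qf (mul a hH) = 2 * qf a := by
  simp only [qf, Ico.mul, hH, d0, d1, d2, d3, d4, d5, d6, d7]; ring

theorem qf_mul_hB (a : Ico) : qf (mul a hB) = 2 * qf a := by
  simp only [qf, Ico.mul, hB, d0, d1, d2, d3, d4, d5, d6, d7]; ring

theorem qf_dbl (a : Ico) : qf (dbl a) = 4 * qf a := by
  simp only [qf, dbl, d0, d1, d2, d3, d4, d5, d6, d7]; ring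

theorem pair_nonneg (p r : ℤ) : 0 ≤ 2 * p * p + 2 * p * r + 3 * r * r := by
  nlinarith [sq_nonneg (2 * p + r), sq_nonneg r]

theorem qf_nonneg (n : Ico) : 0 ≤ qf n := by
  have := pair_nonneg n.d0 n.d1; have := pair_nonneg n.d2 n.d3
  have := pair_nonneg n.d4 n.d5; have := pair_nonneg n.d6 n.d7
  simp only [qf]; omega

theorem qf_sum {v : Vec} (h : ipV v v = four) : qf v.1 + qf v.2.1 + qf v.2.2 = 32 := by
  have e0 := congrArg Ico.d0 h
  have e1 := congrArg Ico.d1 h
  rw [qf_norm, qf_norm, qf_norm]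
  simp only [ipV, add, four, d0, d1] at e0 e1 ⊢
  omega

def pairsL : List (ℤ × ℤ × ℤ) :=
  ([-4, -3, -2, -1, 0, 1, 2, 3, 4].flatMap fun p : ℤ => [-2, -1, 0, 1, 2].map fun r : ℤ =>
    (2 * p * p + 2 * p * r + 3 * r * r, p, r)).filter fun t => decide (t.1 ≤ 16)

def pairsUpTo (b : ℤ) : List (ℤ × ℤ × ℤ) := pairsL.filter fun t => decide (t.1 ≤ b)

def candL : List (ℤ × ℤ × ℤ × ℤ × ℤ × ℤ × ℤ × ℤ) :=
  pairsL.flatMap fun a => (pairsUpTo (16 - a.1)).flatMap fun b =>
    (pairsUpTo (16 - a.1 - b.1)).flatMap fun c => (pairsUpTo (16 - a.1 - b.1 - c.1)).map fun d =>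
      (a.2.1, a.2.2, b.2.1, b.2.2, c.2.1, c.2.2, d.2.1, d.2.2)

def sameQ : ℤ × ℤ × ℤ × ℤ × ℤ × ℤ × ℤ × ℤ → ℤ × ℤ × ℤ × ℤ × ℤ × ℤ × ℤ × ℤ → Bool
  | (a, b, c, d, e, f, g, h), (a', b', c', d', e', f', g', h') =>
    decide (a = a') && decide (b = b') && decide (c = c') && decide (d = d') && decide (e = e') &&
      decide (f = f') && decide (g = g') && decide (h = h')

theorem sameQ_self (x : ℤ × ℤ × ℤ × ℤ × ℤ × ℤ × ℤ × ℤ) : sameQ x x = true := by
  obtain ⟨a, b, c, d, e, f, g, h⟩ := x; simp [sameQ]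

/-- The icosians of trace norm at most four. -/
def smallL : List Ico := (candL.filter fun x => sameQ (back x).dd x).map back

theorem pair_mem {p r b : ℤ} (hb : b ≤ 16) (h : 2 * p * p + 2 * p * r + 3 * r * r ≤ b) :
    (2 * p * p + 2 * p * r + 3 * r * r, p, r) ∈ pairsUpTo b := by
  have h16 := h.trans hb
  have hr : -2 ≤ r ∧ r ≤ 2 := by constructor <;> nlinarith [sq_nonneg (2 * p + r)]
  have hp : -4 ≤ p ∧ p ≤ 4 := by constructor <;> nlinarith [sq_nonneg (p + 3 * r), sq_nonneg p]
  simp only [pairsUpTo, pairsL, List.mem_filter, List.mem_flatMap, List.mem_map, decide_eq_true_eq]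
  refine ⟨⟨⟨p, ?_, r, ?_, rfl⟩, h16⟩, h⟩
  · simp only [List.mem_cons, List.not_mem_nil, or_false]; omega
  · simp only [List.mem_cons, List.not_mem_nil, or_false]; omega

theorem mem_smallL {n : Ico} (h : qf n ≤ 16) : n ∈ smallL := by
  have a0 := pair_nonneg n.d0 n.d1
  have b0 := pair_nonneg n.d2 n.d3
  have c0 := pair_nonneg n.d4 n.d5
  have d0' := pair_nonneg n.d6 n.d7
  unfold qf at h
  refine List.mem_map.mpr ⟨n.dd, List.mem_filter.mpr ⟨?_, by rw [back_dd]; exact sameQ_self _⟩, back_dd n⟩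
  unfold Ico.dd
  generalize n.d0 = a at *; generalize n.d1 = b at *; generalize n.d2 = c at *; generalize n.d3 = d at *
  generalize n.d4 = e at *; generalize n.d5 = f at *; generalize n.d6 = g at *; generalize n.d7 = k at *
  simp only [candL, List.mem_flatMap, List.mem_map]
  refine ⟨_, List.mem_of_mem_filter (pair_mem (p := a) (r := b) (b := 16) le_rfl ?_), _,
    pair_mem (p := c) (r := d) ?_ ?_, _, pair_mem (p := e) (r := f) ?_ ?_, _, pair_mem (p := g) (r := k) ?_ ?_, rfl⟩
  all_goals omega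

def uAt (i : ℕ) : Ico := unitL.getD i zero

def rAt (j : ℕ) : Ico := repL.getD j zero

def twoI : Ico := ⟨2, 0, 0, 0, 0, 0, 0, 0⟩

def bit01 (c : ℤ) : ℕ := (c % 2).toNat

def res (x : Ico) : ℕ :=
  bit01 x.c0 + 2 * bit01 x.c1 + 4 * bit01 x.c2 + 8 * bit01 x.c3 + 16 * bit01 x.c4 + 32 * bit01 x.c5 +
    64 * bit01 x.c6 + 128 * bit01 x.c7

def bucket (r : ℕ) : List Ico := (bucketL.getD (r / 16) []).getD (r % 16) []

def beqV (v w : Vec) : Bool := v.1.beq w.1 && v.2.1.beq w.2.1 && v.2.2.beq w.2.2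

theorem beqV_iff {v w : Vec} : beqV v w = true ↔ v = w := by
  simp only [beqV, Bool.and_eq_true, Ico.beq_iff, Prod.ext_iff, and_assoc]

def lines : List Vec := lineL.flatten

def shortItem (p : Ico × ℕ × ℕ) : Bool :=
  (p.1.beq zero || (decide (p.2.1 < 120) && decide (p.2.2 < 8) && p.1.beq (mul (uAt p.2.1) (rAt p.2.2)) &&
    decide (8 ≤ qf p.1) && (!decide (qf p.1 = 8) || (rAt p.2.2).beq one))) &&
    (bucket (res p.1)).any fun z => p.1.beq z

theorem short_check :
    Nat.beq smallL.length shortTab.flatten.length = true ∧ (smallL.zip shortTab.flatten).all shortItem = true := by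
  decide +kernel

theorem units_check :
    (unitL.all fun u => (mul (conj u) u).beq one && (mul u (conj u)).beq one) = true ∧ unitL.length = 120 ∧
      repL.length = 8 ∧ ((twoI :: repL).all fun r => !r.beq zero) = true := by
  decide +kernel

theorem free_check : (unitL.all fun u => u.beq one || ((twoI :: repL).all fun r =>
    (twoI :: repL).all fun s => !(mul u r).beq s)) = true := by
  decide +kernel

def icoKey (x : Ico) (t : ℕ) : ℕ :=
  ((((((((t * 32 + (x.c0 + 16).toNat) * 32 + (x.c1 + 16).toNat) * 32 + (x.c2 + 16).toNat) * 32 + (x.c3 + 16).toNat) * 32 +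
    (x.c4 + 16).toNat) * 32 + (x.c5 + 16).toNat) * 32 + (x.c6 + 16).toNat) * 32 + (x.c7 + 16).toNat)

/-- A sort key of a triple. -/
def vecKey (v : Vec) : ℕ := icoKey v.2.2 (icoKey v.2.1 (icoKey v.1 0))

def increasing : List ℕ → Bool
  | [] => true
  | [_] => true
  | a :: b :: l => Nat.blt a b && increasing (b :: l)

def hits (x y : Ico) : Bool :=
  (bucket (res (sub y (mul x eI)))).all fun z =>
    !decide (qf x + qf y + qf z = 32) || !(ipV (x, y, z) (x, y, z)).beq four || lines.any fun l => beqV (x, y, z) l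

def pairOK (x y : Ico) : Bool := !inH (sub x y) || hits x y

/-- The icosian with coordinates the bits of `r`. -/
def liftRes (r : ℕ) : Ico :=
  ⟨(r % 2 : ℕ), (r / 2 % 2 : ℕ), (r / 4 % 2 : ℕ), (r / 8 % 2 : ℕ), (r / 16 % 2 : ℕ), (r / 32 % 2 : ℕ),
    (r / 64 % 2 : ℕ), (r / 128 % 2 : ℕ)⟩

theorem search_full : (repL.all fun x => (List.range 256).all fun r =>
    !inH (sub x (liftRes r)) || (bucket r).all fun y => hits x y) = true := by decide +kernel

theorem search_zero : (repL.all fun y => pairOK zero y) = true := by decide +kernel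

/-- Normalised: the first nonzero component is a representative. -/
def normOK (l : Vec) : Bool :=
  let f := if l.1.beq zero then (if l.2.1.beq zero then l.2.2 else l.2.1) else l.1
  (twoI :: repL).any fun r => f.beq r

theorem lines_check : lines.length = 315 ∧
    (lines.all fun l => inLam l && (ipV l l).beq four && normOK l) = true ∧
      (lines.any (fun l => beqV (twoI, zero, zero) l) && lines.any (fun l => beqV (zero, twoI, zero) l) &&
        lines.any (fun l => beqV (zero, zero, twoI) l)) = true := by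
  decide +kernel

theorem lines_sorted : increasing (lines.map vecKey) = true := by decide +kernel

theorem eI_check : inH eI = true ∧ inB (sub eI one) = true := by decide +kernel


end CfsgHJ
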