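/-
The minimal vectors of the icosian lattice: unit multiples of 315 listed ones.
-/
import Cfsg.Agent.Lib.HallJanko.MinCheck

set_option autoImplicit false

namespace CfsgHJ

open Quaternion Cfsg.Spor Ico

attribute [local irreducible] smallL lines unitL repL bucketL shortTab

theorem bit01_sub {a b : ℤ} (h : (a - b) % 2 = 0) : bit01 a = bit01 b := by
  simp only [bit01]; omega

theorem res_of_even {d : Ico} {a b : Ico} (h : d = sub a b) (he : d.even = true) : res a = res b := by
  subst h
  simp only [Ico.even, Ico.sub, Bool.and_eq_true] at he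
  obtain ⟨⟨⟨⟨⟨⟨⟨e0, e1⟩, e2⟩, e3⟩, e4⟩, e5⟩, e6⟩, e7⟩ := he
  simp only [res, bit01_sub (of_decide_eq_true e0), bit01_sub (of_decide_eq_true e1), bit01_sub (of_decide_eq_true e2), bit01_sub (of_decide_eq_true e3), bit01_sub (of_decide_eq_true e4), bit01_sub (of_decide_eq_true e5),
    bit01_sub (of_decide_eq_true e6), bit01_sub (of_decide_eq_true e7)]

def bezX : Ico := conj (half (mul eI hB))

def bezY : Ico := conj (half (mul (sub eI one) hH))

theorem bezout : sub (mul hB bezX) (mul hH bezY) = one := by decide +kernel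

theorem inH_inter {d : Ico} (h1 : inH d = true) (h2 : inB d = true) : d.even = true := by
  have e1 := Ico.even_iff.mp h1
  have e2 := Ico.even_iff.mp h2
  have e : d = dbl (sub (mul (half (mul d hB)) bezX) (mul (half (mul d hH)) bezY)) := by
    apply phi_inj
    calc phi d = phi d * phi (sub (mul hB bezX) (mul hH bezY)) := by rw [bezout, phi_one, mul_one]
      _ = phi (mul d hB) * phi bezX - phi (mul d hH) * phi bezY := by
        simp only [phi_sub, phi_mul, mul_sub, mul_assoc]
      _ = _ := by
        conv_lhs => rw [← e1, ← e2]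
        simp only [phi_dbl, phi_sub, phi_mul, smul_mul_assoc, smul_sub]
  rw [e]
  simp [Ico.even, dbl]

theorem inH_add {a b : Ico} (ha : inH a = true) (hb : inH b = true) : inH (add a b) = true := by
  rw [inH_iff] at *
  obtain ⟨p, hp, e⟩ := ha; obtain ⟨q, hq, f⟩ := hb
  exact ⟨p + q, add_mem hp hq, by rw [phi_add, e, f, add_mul]⟩

theorem inB_add {a b : Ico} (ha : inB a = true) (hb : inB b = true) : inB (add a b) = true := by
  rw [inB_iff] at *
  obtain ⟨p, hp, e⟩ := ha; obtain ⟨q, hq, f⟩ := hb
  exact ⟨p + q, add_mem hp hq, by rw [phi_add, e, f, add_mul]⟩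

theorem inH_neg {a : Ico} (ha : inH a = true) : inH (neg a) = true := by
  rw [inH_iff] at *
  obtain ⟨p, hp, e⟩ := ha
  exact ⟨-p, neg_mem hp, by rw [phi_neg, e, neg_mul]⟩

theorem inB_neg {a : Ico} (ha : inB a = true) : inB (neg a) = true := by
  rw [inB_iff] at *
  obtain ⟨p, hp, e⟩ := ha
  exact ⟨-p, neg_mem hp, by rw [phi_neg, e, neg_mul]⟩

theorem inH_mul {a : Ico} (c : Ico) (ha : inH a = true) : inH (mul c a) = true := by
  rw [inH_iff] at *
  obtain ⟨p, hp, e⟩ := ha
  exact ⟨phi c * p, mul_mem (phi_mem c) hp, by rw [phi_mul, e, mul_assoc]⟩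

theorem inB_mul {a : Ico} (c : Ico) (ha : inB a = true) : inB (mul c a) = true := by
  rw [inB_iff] at *
  obtain ⟨p, hp, e⟩ := ha
  exact ⟨phi c * p, mul_mem (phi_mem c) hp, by rw [phi_mul, e, mul_assoc]⟩

theorem inB_two (c : Ico) : inB (dbl c) = true := by
  rw [inB_iff]
  exact ⟨phi c * icoH, mul_mem (phi_mem c) (phi_hH ▸ phi_mem hH), by rw [phi_dbl, mul_assoc, icoH_star, smul_two]⟩

theorem inLam_smulV {v : Vec} (a : Ico) (h : inLam v = true) : inLam (smulV a v) = true := by
  simp only [inLam, Bool.and_eq_true] at *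
  refine ⟨⟨?_, ?_⟩, ?_⟩
  · rw [show sub (smulV a v).1 (smulV a v).2.1 = mul a (sub v.1 v.2.1) from
      phi_inj (by simp only [smulV, phi_sub, phi_mul, mul_sub])]
    exact inH_mul a h.1.1
  · rw [show sub (smulV a v).2.1 (smulV a v).2.2 = mul a (sub v.2.1 v.2.2) from
      phi_inj (by simp only [smulV, phi_sub, phi_mul, mul_sub])]
    exact inH_mul a h.1.2
  · rw [show add (add (smulV a v).1 (smulV a v).2.1) (smulV a v).2.2 = mul a (add (add v.1 v.2.1) v.2.2) from
      phi_inj (by simp only [smulV, phi_add, phi_mul, mul_add])]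
    exact inB_mul a h.2

theorem unit_inv {u : Ico} (hu : u ∈ unitL) : mul (conj u) u = one ∧ mul u (conj u) = one := by
  have := List.all_eq_true.mp units_check.1 u hu
  simpa only [Bool.and_eq_true, Ico.beq_iff] using this

theorem ipV_smul_unit {u : Ico} {v : Vec} (hu : mul u (conj u) = one) (h : ipV v v = four) :
    ipV (smulV u v) (smulV u v) = four := by
  rw [ipV_smul, ipV_smul_right, h]
  apply phi_inj
  have e : phi u * star (phi u) = 1 := by rw [← phi_conj, ← phi_mul, hu, phi_one]
  rw [phi_mul, phi_mul, phi_conj, phi_four, ← mul_assoc, show phi u * 4 = 4 * phi u from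
    (Nat.cast_commute 4 (phi u)).symm.eq, mul_assoc, e, mul_one]

theorem short_info {x : Ico} (hq : qf x ≤ 16) (hx : x ≠ zero) :
    ∃ i j, i < 120 ∧ j < 8 ∧ x = mul (uAt i) (rAt j) ∧ 8 ≤ qf x ∧ (qf x = 8 → rAt j = one) := by
  obtain ⟨k, hk, rfl⟩ := List.getElem_of_mem (mem_smallL hq)
  have hlen := Nat.eq_of_beq_eq_true short_check.1
  have hm : (smallL[k], (shortTab.flatten)[k]'(hlen ▸ hk)) ∈ smallL.zip shortTab.flatten := by
    rw [List.mem_iff_getElem]
    exact ⟨k, by rw [List.length_zip]; omega, List.getElem_zip⟩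
  have := List.all_eq_true.mp short_check.2 _ hm
  simp only [shortItem, Bool.and_eq_true, Bool.or_eq_true, Ico.beq_iff, decide_eq_true_eq,
    Bool.not_eq_true', decide_eq_false_iff_not] at this
  rcases this.1 with e | ⟨⟨⟨⟨hi, hj⟩, he⟩, h8⟩, h1⟩
  · exact absurd e hx
  · exact ⟨_, _, hi, hj, he, h8, fun e => h1.resolve_left (fun h => h e)⟩

theorem bucket_mem {x : Ico} (hq : qf x ≤ 16) : x ∈ bucket (res x) := by
  obtain ⟨k, hk, rfl⟩ := List.getElem_of_mem (mem_smallL hq)
  have hlen := Nat.eq_of_beq_eq_true short_check.1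
  have hm : (smallL[k], (shortTab.flatten)[k]'(hlen ▸ hk)) ∈ smallL.zip shortTab.flatten := by
    rw [List.mem_iff_getElem]
    exact ⟨k, by rw [List.length_zip]; omega, List.getElem_zip⟩
  have := List.all_eq_true.mp short_check.2 _ hm
  simp only [shortItem, Bool.and_eq_true, List.any_eq_true, Ico.beq_iff] at this
  obtain ⟨z, hz, e⟩ := this.2
  exact e ▸ hz

theorem eight_le {x : Ico} (hx : x ≠ zero) : 8 ≤ qf x := by
  by_contra h
  obtain ⟨-, -, -, -, -, h8, -⟩ := short_info (x := x) (by omega) hx
  exact h h8

theorem sixteen_le_H {x : Ico} (hx : x ≠ zero) (h : inH x = true) : 16 ≤ qf x := by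
  rw [inH_iff] at h
  obtain ⟨q, hq, e⟩ := h
  obtain ⟨a, rfl⟩ := mem_icosians.mp hq
  have he : x = mul a hH := phi_inj (by rw [e, phi_mul, phi_hH])
  have ha : a ≠ zero := fun h0 => hx (phi_inj (by rw [he, h0, phi_mul, phi_zero, zero_mul]))
  have := eight_le ha
  rw [he, qf_mul_hH]; omega

theorem qf_zero : qf zero = 0 := by decide +kernel

theorem uAt_mem {i : ℕ} (hi : i < 120) : uAt i ∈ unitL := by
  have h : i < unitL.length := by rw [units_check.2.1]; exact hi
  rw [uAt, List.getD_eq_getElem _ _ h]; exact List.getElem_mem h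

theorem rAt_mem {j : ℕ} (hj : j < 8) : rAt j ∈ repL := by
  have h : j < repL.length := by rw [units_check.2.2.1]; exact hj
  rw [rAt, List.getD_eq_getElem _ _ h]; exact List.getElem_mem h

theorem pairOK_spec {x y z : Ico} (hz : qf z ≤ 16) (hL : inLam (x, y, z) = true)
    (h4 : ipV (x, y, z) (x, y, z) = four) (h : hits x y = true) : (x, y, z) ∈ lines := by
  simp only [inLam, Bool.and_eq_true] at hL
  simp only [hits, List.all_eq_true, Bool.or_eq_true, Bool.not_eq_true', List.any_eq_true,
    decide_eq_false_iff_not] at h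
  set z0 := sub y (mul x eI) with hz0
  have hd : (sub z z0).even = true := by
    apply inH_inter
    · rw [show sub z z0 = add (neg (sub y z)) (mul x eI) from
        phi_inj (by simp only [hz0, phi_sub, phi_add, phi_neg, phi_mul]; abel)]
      exact inH_add (inH_neg hL.1.2) (inH_mul x eI_check.1)
    · rw [show sub z z0 = add (add (add (add x y) z) (mul x (sub eI one))) (neg (dbl y)) from
        phi_inj (by simp only [hz0, phi_sub, phi_add, phi_neg, phi_mul, phi_dbl, phi_one, mul_sub, mul_one, two_smul]; abel)]
      exact inB_add (inB_add hL.2 (inB_mul x eI_check.2)) (inB_neg (inB_two y))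
  have hm : z ∈ bucket (res z0) := res_of_even rfl hd ▸ bucket_mem hz
  rcases h z hm with (e | e) | ⟨l, hl, e⟩
  · exact absurd (qf_sum h4) e
  · rw [h4, Ico.beq_self] at e; simp at e
  · rw [beqV_iff.mp e]; exact hl

theorem res_liftRes (a : Ico) : (sub (liftRes (res a)) a).even = true := by
  have key : ∀ x : Ico, (∀ c ∈ [x.c0, x.c1, x.c2, x.c3, x.c4, x.c5, x.c6, x.c7], c % 2 = 0) → x.even = true := by
    intro x hx
    simp only [List.mem_cons, List.not_mem_nil, or_false, forall_eq_or_imp, forall_eq] at hx
    simp [Ico.even, hx]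
  apply key
  intro c hc
  simp only [Ico.sub, liftRes, res, bit01, List.mem_cons, List.not_mem_nil, or_false] at hc
  omega

theorem inH_of_even {a : Ico} (h : a.even = true) : inH a = true := by
  rw [inH_iff]
  refine ⟨phi (half a) * star icoH, mul_mem (phi_mem _) (phi_hB ▸ phi_mem hB), ?_⟩
  rw [mul_assoc, star_icoH_mul, ← smul_two, ← phi_dbl, Ico.even_iff.mp h]

theorem search_mem {x y : Ico} (hx : x ∈ repL) (hy : qf y ≤ 16) (h : inH (sub x y) = true) : hits x y = true := by
  have h1 := List.all_eq_true.mp (List.all_eq_true.mp search_full x hx) (res y)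
    (List.mem_range.mpr (by simp only [res, bit01]; omega))
  have h2 : inH (sub x (liftRes (res y))) = true := by
    rw [show sub x (liftRes (res y)) = add (sub x y) (neg (sub (liftRes (res y)) y)) from
      phi_inj (by simp only [phi_sub, phi_add, phi_neg]; abel)]
    exact inH_add h (inH_neg (inH_of_even (res_liftRes y)))
  rw [h2, Bool.not_true, Bool.false_or] at h1
  exact List.all_eq_true.mp h1 y (bucket_mem hy)

theorem single_comp {v : Ico} (h1 : inH v = true) (h2 : inB v = true) (hq : qf v = 32) :
    ∃ u ∈ unitL, v = mul u twoI := by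
  have he : dbl (half v) = v := Ico.even_iff.mp (inH_inter h1 h2)
  have h8 : qf (half v) = 8 := by rw [← he, qf_dbl] at hq; omega
  have hne : half v ≠ zero := fun e => by rw [e, qf_zero] at h8; omega
  obtain ⟨i, j, hi, -, e, -, hr⟩ := short_info (x := half v) (by omega) hne
  refine ⟨uAt i, uAt_mem hi, ?_⟩
  rw [hr h8, mul_one'] at e
  rw [← he, e]
  apply phi_inj
  rw [show twoI = dbl one by rfl, phi_dbl, phi_mul, phi_dbl, phi_one, mul_smul_comm, mul_one]

/-- Every minimal vector is a unit times a listed line representative. -/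
theorem min_vec {v : Vec} (hL : inLam v = true) (h4 : ipV v v = four) :
    ∃ u ∈ unitL, ∃ l ∈ lines, v = smulV u l := by
  obtain ⟨x, y, z⟩ := v
  have hs := qf_sum h4
  have hx0 := qf_nonneg x; have hy0 := qf_nonneg y; have hz0 := qf_nonneg z
  have hL' := hL
  simp only [inLam, Bool.and_eq_true] at hL'
  simp only at hs
  obtain ⟨⟨h01, h12⟩, h012⟩ := hL'
  have normal : ∀ {u : Ico}, u ∈ unitL → smulV (conj u) (x, y, z) ∈ lines →
      ∃ u ∈ unitL, ∃ l ∈ lines, ((x, y, z) : Vec) = smulV u l := by
    intro u hu hl
    refine ⟨u, hu, _, hl, phi3_inj ?_⟩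
    funext t
    simp only [phi3_smulV]
    rw [← mul_assoc, ← phi_mul, (unit_inv hu).2, phi_one, one_mul]
  have hmulz : ∀ c, mul c zero = zero := fun c => phi_inj (by rw [phi_mul, phi_zero, mul_zero])
  have hsub0 : ∀ a, sub a zero = a := fun a => phi_inj (by rw [phi_sub, phi_zero, sub_zero])
  have h0sub : ∀ a, sub zero a = neg a := fun a => phi_inj (by rw [phi_sub, phi_neg, phi_zero, zero_sub])
  have hnn : ∀ {a}, inH (neg a) = true → inH a = true := fun {a} h => by
    have := inH_neg h
    rwa [show neg (neg a) = a from phi_inj (by rw [phi_neg, phi_neg, neg_neg])] at this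
  obtain ⟨hr, -⟩ := lines_check.2
  have hthree := lines_check.2.2
  simp only [Bool.and_eq_true, List.any_eq_true, beqV_iff] at hthree
  obtain ⟨⟨⟨l0, hl0, e0⟩, l1, hl1, e1⟩, l2, hl2, e2⟩ := hthree
  by_cases hx : x = zero
  · subst hx
    rw [h0sub] at h01
    have hyH := hnn h01
    have hzH : inH z = true := by
      have := inH_add (inH_neg h12) hyH
      rwa [show add (neg (sub y z)) y = z from phi_inj (by simp only [phi_add, phi_neg, phi_sub]; abel)] at this
    rw [qf_zero] at hs
    by_cases hy : y = zero
    · subst hy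
      rw [qf_zero] at hs
      have hzB : inB z = true := by
        rwa [show add (add zero zero) z = z from phi_inj (by simp [phi_add, phi_zero])] at h012
      obtain ⟨u, hu, e⟩ := single_comp hzH hzB (by omega)
      exact ⟨u, hu, l2, hl2, by rw [← e2, smulV, hmulz, ← e]⟩
    · by_cases hz : z = zero
      · subst hz
        rw [qf_zero] at hs
        have hyB : inB y = true := by
          rwa [show add (add zero y) zero = y from phi_inj (by simp [phi_add, phi_zero])] at h012
        obtain ⟨u, hu, e⟩ := single_comp hyH hyB (by omega)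
        exact ⟨u, hu, l1, hl1, by rw [← e1, smulV, hmulz, ← e]⟩
      · have := sixteen_le_H hy hyH; have := sixteen_le_H hz hzH
        obtain ⟨i, j, hi, hj, e, -, -⟩ := short_info (x := y) (by omega) hy
        have hu := uAt_mem hi
        refine normal hu ?_
        have hc : smulV (conj (uAt i)) (zero, y, z) = (zero, rAt j, mul (conj (uAt i)) z) := by
          simp only [smulV, hmulz]
          rw [e, ← mul_assoc', (unit_inv hu).1, one_mul']
        have hLc := hc ▸ inLam_smulV (conj (uAt i)) hL
        have h4c := hc ▸ ipV_smul_unit (u := conj (uAt i)) (by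
          rw [show conj (conj (uAt i)) = uAt i from phi_inj (by rw [phi_conj, phi_conj, star_star])]
          exact (unit_inv hu).1) h4
        have hzq : qf (mul (conj (uAt i)) z) ≤ 16 := by
          have h32 := qf_sum h4c
          simp only [qf_zero] at h32
          have : 16 ≤ qf (rAt j) := by
            apply sixteen_le_H
            · intro h0
              have := List.all_eq_true.mp units_check.2.2.2 (rAt j) (List.mem_cons_of_mem _ (rAt_mem hj))
              rw [h0, Ico.beq_self] at this; simp at this
            · have := inH_mul (conj (uAt i)) hyH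
              rwa [e, ← mul_assoc', (unit_inv hu).1, one_mul'] at this
          omega
        rw [hc]
        have hp := List.all_eq_true.mp search_zero _ (rAt_mem hj)
        have hin : inH (sub zero (rAt j)) = true := by
          simp only [inLam, Bool.and_eq_true] at hLc
          exact hLc.1.1
        simp only [pairOK, hin, Bool.not_true, Bool.false_or] at hp
        exact pairOK_spec hzq hLc h4c hp
  · have hbound : ∀ {a b c : Ico}, inLam (a, b, c) = true → ipV (a, b, c) (a, b, c) = four → a ≠ zero →
        ¬(b = zero ∧ c = zero) → qf a ≤ 16 ∧ qf b ≤ 16 ∧ qf c ≤ 16 := by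
      intro a b c hl h ha hbc
      have h32 := qf_sum h
      simp only at h32
      simp only [inLam, Bool.and_eq_true] at hl
      have := qf_nonneg b; have := qf_nonneg c
      by_cases hb : b = zero
      · subst hb
        have hc : c ≠ zero := fun e => hbc ⟨rfl, e⟩
        rw [hsub0] at hl
        have haH := hl.1.1
        have hcH : inH c = true := by
          have := hl.1.2; rw [h0sub] at this; exact hnn this
        have := sixteen_le_H ha haH; have := sixteen_le_H hc hcH
        rw [qf_zero] at h32 ⊢; omega
      · by_cases hc : c = zero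
        · subst hc
          rw [hsub0] at hl
          have haH : inH a = true := by
            have := inH_add hl.1.1 hl.1.2
            rwa [show add (sub a b) b = a from phi_inj (by simp only [phi_add, phi_sub]; abel)] at this
          have := sixteen_le_H ha haH; have := sixteen_le_H hb hl.1.2
          rw [qf_zero] at h32 ⊢; omega
        · have := eight_le ha; have := eight_le hb; have := eight_le hc
          omega
    by_cases hyz : y = zero ∧ z = zero
    · obtain ⟨rfl, rfl⟩ := hyz
      rw [qf_zero] at hs
      rw [hsub0] at h01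
      have hxB : inB x = true := by
        rwa [show add (add x zero) zero = x from phi_inj (by simp [phi_add, phi_zero])] at h012
      obtain ⟨u, hu, e⟩ := single_comp h01 hxB (by omega)
      exact ⟨u, hu, l0, hl0, by rw [← e0, smulV, hmulz, ← e]⟩
    · obtain ⟨hx16, -, -⟩ := hbound hL h4 hx hyz
      obtain ⟨i, j, hi, hj, e, -, -⟩ := short_info hx16 hx
      have hu := uAt_mem hi
      refine normal hu ?_
      have hc : smulV (conj (uAt i)) (x, y, z) = (rAt j, mul (conj (uAt i)) y, mul (conj (uAt i)) z) := by
        simp only [smulV]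
        rw [e, ← mul_assoc', (unit_inv hu).1, one_mul']
      have hLc := hc ▸ inLam_smulV (conj (uAt i)) hL
      have h4c := hc ▸ ipV_smul_unit (u := conj (uAt i)) (by
        rw [show conj (conj (uAt i)) = uAt i from phi_inj (by rw [phi_conj, phi_conj, star_star])]
        exact (unit_inv hu).1) h4
      have hr0 : rAt j ≠ zero := by
        intro h0
        have := List.all_eq_true.mp units_check.2.2.2 (rAt j) (List.mem_cons_of_mem _ (rAt_mem hj))
        rw [h0, Ico.beq_self] at this; simp at this
      have hcancel : ∀ {a}, mul (conj (uAt i)) a = zero → a = zero := fun {a} h => by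
        have := congrArg (mul (uAt i)) h
        rwa [← mul_assoc', (unit_inv hu).2, one_mul', hmulz] at this
      obtain ⟨-, hy16, hz16⟩ := hbound hLc h4c hr0 (fun h => hyz ⟨hcancel h.1, hcancel h.2⟩)
      rw [hc]
      refine pairOK_spec hz16 hLc h4c (search_mem (rAt_mem hj) hy16 ?_)
      simp only [inLam, Bool.and_eq_true] at hLc
      exact hLc.1.1

theorem increasing_nodup : ∀ {l : List ℕ}, increasing l = true → l.Pairwise (· < ·)
  | [], _ => List.Pairwise.nil
  | [a], _ => List.pairwise_singleton _ a
  | a :: b :: l, h => by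
    simp only [increasing, Bool.and_eq_true, Nat.blt_eq] at h
    have ih := increasing_nodup h.2
    refine List.pairwise_cons.mpr ⟨fun c hc => ?_, ih⟩
    rcases List.mem_cons.mp hc with rfl | hc
    · exact h.1
    · exact h.1.trans ((List.pairwise_cons.mp ih).1 c hc)

theorem lines_nodup : lines.Nodup :=
  List.Nodup.of_map vecKey ((increasing_nodup lines_sorted).imp fun h => ne_of_lt h)

end CfsgHJ
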