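/-
Checks of the tables for the action on lines and blocks.
-/
import Cfsg.Agent.Lib.HallJanko.MinVec
import Cfsg.Agent.Lib.HallJanko.ActData

set_option autoImplicit false

namespace CfsgHJ

open Ico

/-- The line representative number `i`. -/
def lineAt (i : ℕ) : Vec := (lineL.getD (i / 21) []).getD (i % 21) (zero, zero, zero)

/-- Image line and unit of the line `i` under the generator `a`. -/
def imgAt (a i : ℕ) : ℕ × ℕ := ((imgTab.getD a []).getD (i / 45) []).getD (i % 45) (0, 0)

def genLine (a : ℕ) : ℕ := genLines.getD a 0

def rCode (i : ℕ) : ℕ := (reflCodes.getD (i / 15) []).getD (i % 15) 0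

def gCode (a : ℕ) : ℕ := genCodes.getD a 0

def treeAt (t : ℕ) : ℕ × ℕ × ℕ := (lineTree.getD (t / 45) []).getD (t % 45) (0, 0, 0)

def blockAt (k : ℕ) : List ℕ := blockPts.getD k []

def maskOf : List ℕ → ℕ
  | [] => 0
  | i :: l => (1 <<< i) ||| maskOf l

theorem testBit_maskOf (l : List ℕ) (j : ℕ) : (maskOf l).testBit j = true ↔ j ∈ l := by
  induction l with
  | nil => simp [maskOf]
  | cons i l ih =>
    rw [maskOf, Nat.testBit_or, Bool.or_eq_true, ih, Nat.one_shiftLeft, Nat.testBit_two_pow, List.mem_cons, decide_eq_true_iff]
    exact or_congr_left eq_comm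

def imgOK (a i : ℕ) : Bool :=
  Nat.blt (imgAt a i).1 315 && Nat.blt (imgAt a i).2 120 &&
    beqV (addV' (lineAt i) (genLine a)) (smulV (uAt (imgAt a i).2) (lineAt (imgAt a i).1))
where
  addV' (v : Vec) (g : ℕ) : Vec :=
    let r := lineAt g
    let c := neg (half (ipV v r))
    (add v.1 (mul c r.1), add v.2.1 (mul c r.2.1), add v.2.2 (mul c r.2.2))

def blockOK (a k : ℕ) : Bool :=
  Nat.blt (ap (gCode a) k) 100 &&
    Nat.beq (maskOf ((blockAt k).map fun i => (imgAt a i).1)) (maskOf (blockAt (ap (gCode a) k)))

def treeStep (t : ℕ) : Bool :=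
  Nat.beq t 0 || (Nat.blt (treeAt t).2.1 t && Nat.blt (treeAt t).2.2 5 &&
    Nat.beq (imgAt (treeAt t).2.2 (treeAt (treeAt t).2.1).1).1 (treeAt t).1 &&
    Nat.beq (rCode (treeAt t).1) (cp 100 (gCode (treeAt t).2.2) (cp 100 (rCode (treeAt (treeAt t).2.1).1) (gCode (treeAt t).2.2))))

def distinctKeys : List ℕ → Bool
  | [] => true
  | a :: l => (l.all fun b => !Nat.beq a b) && distinctKeys l

theorem lineAt_check : ((List.range 315).zip lines).all (fun p => beqV (lineAt p.1) p.2) = true := by
  decide +kernel

theorem img_check0 : ((List.range 315).all fun i => imgOK 0 i) = true := by decide +kernel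

theorem img_check1 : ((List.range 315).all fun i => imgOK 1 i) = true := by decide +kernel

theorem img_check2 : ((List.range 315).all fun i => imgOK 2 i) = true := by decide +kernel

theorem img_check3 : ((List.range 315).all fun i => imgOK 3 i) = true := by decide +kernel

theorem img_check4 : ((List.range 315).all fun i => imgOK 4 i) = true := by decide +kernel

theorem block_check : ((List.range 5).all fun a => (List.range 100).all fun k => blockOK a k) = true ∧
    ((List.range 100).all fun k => (blockAt k).all fun i => Nat.blt i 315) = true ∧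
    distinctKeys ((List.range 100).map fun k => maskOf (blockAt k)) = true := by
  decide +kernel

theorem tree_check : ((List.range 315).all treeStep) = true ∧
    ((List.range 315).all fun i => (List.range 315).any fun t => Nat.beq (treeAt t).1 i) = true ∧
    Nat.beq (treeAt 0).1 (genLine 0) = true ∧
    ((List.range 5).all fun a => Nat.blt (genLine a) 315 && isPerm 100 (gCode a) (gCode a) &&
      Nat.beq (rCode (genLine a)) (gCode a)) = true := by
  decide +kernel

theorem refl_distinct : distinctKeys ((List.range 315).map rCode) = true := by decide +kernel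

theorem chain_check : chainOK 100 chainData genCodes = true := by decide +kernel

theorem genCodes_length : genCodes.length = 5 := by decide +kernel

theorem chain_size : sizeOfChain chainData = 604800 := by decide +kernel

end CfsgHJ
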