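/-
The reflections as permutations of the lattice; linearity and isometry of the group they generate.
-/
import Cfsg.Agent.Lib.HallJanko.MinVec

set_option autoImplicit false

namespace CfsgHJ

open Quaternion Cfsg.Spor Ico

attribute [local irreducible] smallL lines unitL repL bucketL shortTab

def addV (v w : Vec) : Vec := (add v.1 w.1, add v.2.1 w.2.1, add v.2.2 w.2.2)

def negV (v : Vec) : Vec := (neg v.1, neg v.2.1, neg v.2.2)

def dblV (v : Vec) : Vec := (dbl v.1, dbl v.2.1, dbl v.2.2)

theorem phi3_addV (v w : Vec) : phi3 (addV v w) = phi3 v + phi3 w := by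
  funext t; fin_cases t <;> simp [phi3, addV, phi_add]

theorem phi3_negV (v : Vec) : phi3 (negV v) = -phi3 v := by
  funext t; fin_cases t <;> simp [phi3, negV, phi_neg]

theorem phi3_dblV (v : Vec) : phi3 (dblV v) = (2 : ℝ) • phi3 v := by
  funext t; fin_cases t <;> simp [phi3, dblV, phi_dbl]

theorem inLam_addV {v w : Vec} (hv : inLam v = true) (hw : inLam w = true) : inLam (addV v w) = true := by
  simp only [inLam, Bool.and_eq_true] at *
  refine ⟨⟨?_, ?_⟩, ?_⟩
  · rw [show sub (addV v w).1 (addV v w).2.1 = add (sub v.1 v.2.1) (sub w.1 w.2.1) from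
      phi_inj (by simp only [addV, phi_sub, phi_add]; abel)]
    exact inH_add hv.1.1 hw.1.1
  · rw [show sub (addV v w).2.1 (addV v w).2.2 = add (sub v.2.1 v.2.2) (sub w.2.1 w.2.2) from
      phi_inj (by simp only [addV, phi_sub, phi_add]; abel)]
    exact inH_add hv.1.2 hw.1.2
  · rw [show add (add (addV v w).1 (addV v w).2.1) (addV v w).2.2 =
        add (add (add v.1 v.2.1) v.2.2) (add (add w.1 w.2.1) w.2.2) from
      phi_inj (by simp only [addV, phi_add]; abel)]
    exact inB_add hv.2 hw.2

theorem inLam_negV {v : Vec} (hv : inLam v = true) : inLam (negV v) = true := by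
  rw [show negV v = smulV (neg one) v from phi3_inj (by funext t; simp [phi3_negV, phi3_smulV, phi_neg, phi_one])]
  exact inLam_smulV _ hv

def baseA : Vec := (zero, neg hH, neg hH)

def baseB : Vec := (hH, hH, zero)

def baseC : Vec := (hB, hB, hB)

def combo (a b c : Ico) : Vec := addV (addV (smulV a baseA) (smulV b baseB)) (smulV c baseC)

/-- Left coordinates with respect to the three basic vectors. -/
theorem exists_combo {v : Vec} (h : inLam v = true) : ∃ a b c, v = combo a b c := by
  simp only [inLam, Bool.and_eq_true] at h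
  obtain ⟨⟨h1, h2⟩, h3⟩ := h
  rw [inH_iff] at h1 h2
  rw [inB_iff] at h3
  obtain ⟨p, hp, e1⟩ := h1; obtain ⟨q, hq, e2⟩ := h2; obtain ⟨r, hr, e3⟩ := h3
  obtain ⟨a, rfl⟩ := mem_icosians.mp hp
  obtain ⟨b, rfl⟩ := mem_icosians.mp hq
  obtain ⟨d, rfl⟩ := mem_icosians.mp hr
  rw [phi_sub] at e1 e2
  rw [phi_add, phi_add] at e3
  refine ⟨a, b, sub d (mul v.2.1 hH), phi3_inj ?_⟩
  have e : (phi d - phi v.2.1 * icoH) * star icoH = phi v.1 + phi v.2.2 - phi v.2.1 := by
    rw [sub_mul, ← e3, mul_assoc, icoH_star, mul_two]; abel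
  funext t
  fin_cases t <;> simp only [combo, baseA, baseB, baseC, addV, smulV, phi3, phi_add, phi_mul, phi_neg, phi_zero,
    phi_sub, phi_hH, phi_hB, mul_neg, mul_zero, e, ← e1, ← e2, Matrix.cons_val_zero, Matrix.cons_val_one,
    Matrix.cons_val_two, Fin.zero_eta, Fin.mk_one, Fin.reduceFinMk, Matrix.cons_val] <;> abel

theorem base_check : inLam baseA = true ∧ inLam baseB = true ∧ inLam baseC = true := by decide +kernel

theorem ip_check : (lines.all fun l => (ipV baseA l).even && (ipV baseB l).even && (ipV baseC l).even) = true := by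
  decide +kernel

theorem ipV_addV (v w r : Vec) : ipV (addV v w) r = add (ipV v r) (ipV w r) := by
  apply phi_inj
  simp only [ipV, addV, phi_add, phi_mul, add_mul]; abel

theorem even_add {a b : Ico} (ha : a.even = true) (hb : b.even = true) : (add a b).even = true := by
  simp only [Ico.even_iff, dbl, add, half, Ico.ext_iff] at *
  omega

theorem even_mul {a : Ico} (c : Ico) (ha : a.even = true) : (mul c a).even = true := by
  have e : mul c a = dbl (mul c (half a)) := by
    apply phi_inj
    conv_lhs => rw [← Ico.even_iff.mp ha]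
    rw [phi_mul, phi_dbl, phi_dbl, phi_mul, mul_smul_comm]
  rw [e]; simp [Ico.even, dbl]

/-- Minimal vectors. -/
def IsMin (r : Vec) : Prop := inLam r = true ∧ ipV r r = four

theorem isMin_line {l : Vec} (hl : l ∈ lines) : IsMin l := by
  have := List.all_eq_true.mp lines_check.2.1 l hl
  simp only [Bool.and_eq_true, Ico.beq_iff] at this
  exact ⟨this.1.1, this.1.2⟩

theorem ip_even {r v : Vec} (hr : IsMin r) (hv : inLam v = true) : (ipV v r).even = true := by
  obtain ⟨u, -, l, hl, rfl⟩ := min_vec hr.1 hr.2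
  obtain ⟨a, b, c, rfl⟩ := exists_combo hv
  have hc := List.all_eq_true.mp ip_check l hl
  simp only [Bool.and_eq_true] at hc
  have he : (ipV (combo a b c) l).even = true := by
    rw [combo, ipV_addV, ipV_addV, ipV_smul, ipV_smul, ipV_smul]
    exact even_add (even_add (even_mul _ hc.1.1) (even_mul _ hc.1.2)) (even_mul _ hc.2)
  have e : mul (ipV (combo a b c) l) (conj u) = dbl (mul (half (ipV (combo a b c) l)) (conj u)) := by
    apply phi_inj
    conv_lhs => rw [← Ico.even_iff.mp he]
    rw [phi_mul, phi_dbl, phi_dbl, phi_mul, smul_mul_assoc]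
  rw [ipV_smul_right, e]; simp [Ico.even, dbl]

/-- The reflection in coordinates. -/
def reflV (r v : Vec) : Vec := addV v (negV (smulV (half (ipV v r)) r))

theorem phi3_reflV {r v : Vec} (hr : IsMin r) (hv : inLam v = true) :
    phi3 (reflV r v) = qrefl (phi3 r) (phi3 v) := by
  have e := congrArg phi (Ico.even_iff.mp (ip_even hr hv))
  rw [phi_dbl, phi_ipV] at e
  funext t
  rw [reflV, phi3_addV, phi3_negV, Pi.add_apply, Pi.neg_apply, phi3_smulV, qrefl, ← sub_eq_add_neg, ← e, smul_smul]
  norm_num

theorem inLam_reflV {r v : Vec} (hr : IsMin r) (hv : inLam v = true) : inLam (reflV r v) = true :=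
  inLam_addV hv (inLam_negV (inLam_smulV _ hr.1))

/-- Coordinates of a lattice point. -/
noncomputable def toV (x : icoLeech) : Vec := (exists_vec x.2).choose

theorem inLam_toV (x : icoLeech) : inLam (toV x) = true := (exists_vec x.2).choose_spec.1

theorem phi3_toV (x : icoLeech) : phi3 (toV x) = (x : Fin 3 → ℍ[ℝ]) := (exists_vec x.2).choose_spec.2

/-- The lattice point of coordinates. -/
noncomputable def ofV (v : Vec) (h : inLam v = true) : icoLeech := ⟨phi3 v, phi3_mem.mpr h⟩

theorem toV_ofV {v : Vec} (h : inLam v = true) : toV (ofV v h) = v := phi3_inj (phi3_toV _)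

theorem ofV_toV (x : icoLeech) : ofV (toV x) (inLam_toV x) = x := Subtype.ext (phi3_toV x)

theorem toV_inj {x y : icoLeech} (h : toV x = toV y) : x = y :=
  Subtype.ext (by rw [← phi3_toV x, h, phi3_toV])

/-! Reflections -/

theorem qip_expand (r x y : Fin 3 → ℍ[ℝ]) (c d : ℍ[ℝ]) :
    qip (fun t => x t - c * r t) (fun t => y t - d * r t) =
      qip x y - qip x r * star d - c * qip r y + c * qip r r * star d := by
  simp only [qip, Fin.sum_univ_three, star_sub, star_mul, sub_mul, mul_sub, mul_add, add_mul, mul_assoc]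
  abel

theorem qip_refl {r x y : Fin 3 → ℍ[ℝ]} (hr : qip r r = 4) : qip (qrefl r x) (qrefl r y) = qip x y := by
  set c := (1 / 2 : ℝ) • qip x r with hc
  set d := (1 / 2 : ℝ) • qip y r with hd
  have h1 : qip (qrefl r x) (qrefl r y) =
      qip x y - qip x r * star d - c * qip r y + c * qip r r * star d := qip_expand r x y c d
  have hs : star d = (1 / 2 : ℝ) • qip r y := by
    rw [hd, Quaternion.star_smul]
    congr 1
    simp only [qip, Fin.sum_univ_three, star_add, star_mul, star_star]
  rw [h1, hr, hs, hc, show (4 : ℍ[ℝ]) = (4 : ℝ) • (1 : ℍ[ℝ]) by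
    rw [show (4 : ℝ) = 2 * 2 by norm_num, ← smul_smul, smul_two, smul_two, one_mul]; norm_num]
  simp only [mul_smul_comm, smul_mul_assoc, mul_one, smul_smul]
  norm_num
  module

theorem reflV_reflV {r v : Vec} (hr : IsMin r) (hv : inLam v = true) : reflV r (reflV r v) = v := by
  apply phi3_inj
  rw [phi3_reflV hr (inLam_reflV hr hv), phi3_reflV hr hv]
  have h4 : qip (phi3 r) (phi3 r) = 4 := qip_four_iff.mpr hr.2
  set x := phi3 v; set s := phi3 r
  have hneg : qip (qrefl s x) s = -qip x s := by
    have hexp : qip (qrefl s x) s = qip x s - ((1 / 2 : ℝ) • qip x s) * qip s s := by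
      simp only [qip, qrefl, Fin.sum_univ_three, sub_mul, mul_add, mul_assoc]; abel
    rw [hexp, h4, show (4 : ℍ[ℝ]) = 2 * 2 by norm_num, ← mul_assoc, ← smul_two, ← smul_two, smul_smul, smul_smul]
    norm_num
    module
  funext t
  simp only [qrefl] at hneg ⊢
  rw [hneg, smul_neg, neg_mul]
  abel

/-- The reflection in a minimal vector. -/
noncomputable def sigma (r : Vec) (hr : IsMin r) : Equiv.Perm icoLeech where
  toFun x := ofV (reflV r (toV x)) (inLam_reflV hr (inLam_toV x))
  invFun x := ofV (reflV r (toV x)) (inLam_reflV hr (inLam_toV x))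
  left_inv x := by
    apply toV_inj; rw [toV_ofV, toV_ofV, reflV_reflV hr (inLam_toV x)]
  right_inv x := by
    apply toV_inj; rw [toV_ofV, toV_ofV, reflV_reflV hr (inLam_toV x)]

theorem sigma_coe (r : Vec) (hr : IsMin r) (x : icoLeech) :
    ((sigma r hr x : icoLeech) : Fin 3 → ℍ[ℝ]) = qrefl (phi3 r) (x : Fin 3 → ℍ[ℝ]) := by
  show phi3 (reflV r (toV x)) = _
  rw [phi3_reflV hr (inLam_toV x), phi3_toV]

theorem isRefl_iff {f : Equiv.Perm icoLeech} : IsIcoReflection f ↔ ∃ r, ∃ hr : IsMin r, f = sigma r hr := by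
  constructor
  · rintro ⟨r, h4, hf⟩
    have hr : IsMin (toV r) := ⟨inLam_toV r, qip_four_iff.mp (by rw [phi3_toV]; exact h4)⟩
    refine ⟨toV r, hr, Equiv.ext fun x => Subtype.ext ?_⟩
    rw [hf x, sigma_coe, phi3_toV]
  · rintro ⟨r, hr, rfl⟩
    exact ⟨ofV r hr.1, qip_four_iff.mpr hr.2, fun x => sigma_coe r hr x⟩

/-- The action on coordinates. -/
noncomputable def act (g : Equiv.Perm icoLeech) (v : Vec) : Vec :=
  if h : inLam v = true then toV (g (ofV v h)) else v

theorem act_mem (g : Equiv.Perm icoLeech) {v : Vec} (hv : inLam v = true) : inLam (act g v) = true := by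
  rw [act, dif_pos hv]; exact inLam_toV _

theorem act_one (v : Vec) : act 1 v = v := by
  unfold act; split
  · rename_i h; exact toV_ofV h
  · rfl

theorem act_mul (g h : Equiv.Perm icoLeech) {v : Vec} (hv : inLam v = true) : act (g * h) v = act g (act h v) := by
  simp only [act, dif_pos hv, dif_pos (inLam_toV _), ofV_toV, Equiv.Perm.mul_apply]

theorem act_toV (g : Equiv.Perm icoLeech) (x : icoLeech) : act g (toV x) = toV (g x) := by
  rw [act, dif_pos (inLam_toV x), ofV_toV]

theorem act_sigma {r : Vec} (hr : IsMin r) {v : Vec} (hv : inLam v = true) : act (sigma r hr) v = reflV r v := by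
  rw [act, dif_pos hv]
  have e : sigma r hr (ofV v hv) = ofV (reflV r v) (inLam_reflV hr hv) := Subtype.ext (by
    rw [sigma_coe]; exact (phi3_reflV hr hv).symm)
  rw [e, toV_ofV]

/-- Left linearity and isometry on coordinates. -/
structure IsLin (g : Equiv.Perm icoLeech) : Prop where
  lin : ∀ a v w, inLam v = true → inLam w = true → act g (addV (smulV a v) w) = addV (smulV a (act g v)) (act g w)
  isom : ∀ v w, inLam v = true → inLam w = true → ipV (act g v) (act g w) = ipV v w

theorem isLin_sigma {r : Vec} (hr : IsMin r) : IsLin (sigma r hr) where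
  lin a v w hv hw := by
    have hvw := inLam_addV (inLam_smulV a hv) hw
    rw [act_sigma hr hvw, act_sigma hr hv, act_sigma hr hw]
    apply phi3_inj
    rw [phi3_reflV hr hvw, phi3_addV, phi3_addV, phi3_smulV, phi3_smulV, phi3_reflV hr hv, phi3_reflV hr hw]
    funext t
    simp only [qrefl, qip, Fin.sum_univ_three, Pi.add_apply, mul_sub, smul_add, add_mul, smul_mul_assoc, mul_smul_comm,
      mul_add, mul_assoc]
    abel
  isom v w hv hw := by
    rw [act_sigma hr hv, act_sigma hr hw]
    apply phi_inj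
    rw [phi_ipV, phi_ipV, phi3_reflV hr hv, phi3_reflV hr hw, qip_refl (qip_four_iff.mpr hr.2)]

theorem isLin_of_mem {g : Equiv.Perm icoLeech} (hg : g ∈ twoJ2) : IsLin g := by
  induction hg using Subgroup.closure_induction with
  | mem g hg => obtain ⟨r, hr, rfl⟩ := isRefl_iff.mp hg; exact isLin_sigma hr
  | one => exact ⟨fun a v w _ _ => by simp only [act_one], fun v w _ _ => by simp only [act_one]⟩
  | mul g h _ _ hg hh =>
    refine ⟨fun a v w hv hw => ?_, fun v w hv hw => ?_⟩
    · rw [act_mul g h (inLam_addV (inLam_smulV a hv) hw), hh.lin a v w hv hw,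
        hg.lin a _ _ (act_mem h hv) (act_mem h hw), act_mul g h hv, act_mul g h hw]
    · rw [act_mul g h hv, act_mul g h hw, hg.isom _ _ (act_mem h hv) (act_mem h hw), hh.isom v w hv hw]
  | inv g _ hg =>
    have hi : ∀ v, inLam v = true → act g (act g⁻¹ v) = v := fun v hv => by
      rw [← act_mul g g⁻¹ hv, mul_inv_cancel, act_one]
    have hj : ∀ v, inLam v = true → act g⁻¹ (act g v) = v := fun v hv => by
      rw [← act_mul g⁻¹ g hv, inv_mul_cancel, act_one]
    refine ⟨fun a v w hv hw => ?_, fun v w hv hw => ?_⟩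
    · conv_lhs => rw [← hi v hv, ← hi w hw, ← hg.lin a _ _ (act_mem g⁻¹ hv) (act_mem g⁻¹ hw)]
      exact hj _ (inLam_addV (inLam_smulV a (act_mem _ hv)) (act_mem _ hw))
    · conv_rhs => rw [← hi v hv, ← hi w hw, hg.isom _ _ (act_mem g⁻¹ hv) (act_mem g⁻¹ hw)]

def zeroV : Vec := (zero, zero, zero)

theorem inLam_zeroV : inLam zeroV = true := by decide +kernel

theorem addV_zeroV (v : Vec) : addV v zeroV = v :=
  phi3_inj (by rw [phi3_addV]; funext t; fin_cases t <;> simp [phi3, zeroV, phi_zero])

theorem IsLin.map_zero {g : Equiv.Perm icoLeech} (hg : IsLin g) : act g zeroV = zeroV := by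
  have e : addV (smulV one zeroV) zeroV = zeroV := by decide +kernel
  have h := hg.lin one _ _ inLam_zeroV inLam_zeroV
  rw [e] at h
  have h' := congrArg phi3 h
  rw [phi3_addV, phi3_smulV] at h'
  simp only [phi_one, one_mul, left_eq_add] at h'
  apply phi3_inj
  rw [h']
  funext t; fin_cases t <;> simp [phi3, zeroV, phi_zero]

theorem IsLin.map_smul {g : Equiv.Perm icoLeech} (hg : IsLin g) (a : Ico) {v : Vec} (hv : inLam v = true) :
    act g (smulV a v) = smulV a (act g v) := by
  have h := hg.lin a v zeroV hv inLam_zeroV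
  rwa [hg.map_zero, addV_zeroV, addV_zeroV] at h

theorem IsLin.map_addV {g : Equiv.Perm icoLeech} (hg : IsLin g) {v w : Vec} (hv : inLam v = true)
    (hw : inLam w = true) : act g (addV v w) = addV (act g v) (act g w) := by
  have e : ∀ x, smulV one x = x := fun x => phi3_inj (by rw [phi3_smulV]; simp [phi_one])
  have h := hg.lin one v w hv hw
  rwa [e, e] at h

theorem IsLin.isMin {g : Equiv.Perm icoLeech} (hg : IsLin g) {r : Vec} (hr : IsMin r) : IsMin (act g r) :=
  ⟨act_mem g hr.1, (hg.isom r r hr.1 hr.1).trans hr.2⟩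

theorem sigma_congr {r s : Vec} (hr : IsMin r) (hs : IsMin s) (h : r = s) : sigma r hr = sigma s hs := by
  subst h; rfl

/-- Conjugation moves the reflecting vector. -/
theorem conj_sigma {g : Equiv.Perm icoLeech} (hg : IsLin g) {r : Vec} (hr : IsMin r) :
    g * sigma r hr * g⁻¹ = sigma (act g r) (hg.isMin hr) := by
  refine Equiv.ext fun x => toV_inj ?_
  rw [← act_toV, ← act_toV]
  set y := act g⁻¹ (toV x) with hy
  have hym : inLam y = true := act_mem _ (inLam_toV x)
  have hx : toV x = act g y := by rw [hy, ← act_mul g g⁻¹ (inLam_toV x), mul_inv_cancel, act_one]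
  rw [act_mul _ _ (inLam_toV x), act_mul _ _ hym, act_sigma hr hym, act_sigma _ (inLam_toV x), hx, reflV, reflV,
    hg.isom y r hym hr.1, hg.map_addV hym (inLam_negV (inLam_smulV _ hr.1))]
  have hneg : ∀ v, negV v = smulV (neg one) v := fun v =>
    phi3_inj (by funext t; simp [phi3_negV, phi3_smulV, phi_neg, phi_one])
  rw [hneg, hneg, hg.map_smul _ (inLam_smulV _ hr.1), hg.map_smul _ hr.1]

theorem sigma_smul {r : Vec} (hr : IsMin r) {u : Ico} (hu : mul u (conj u) = one) (hu' : mul (conj u) u = one) :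
    sigma (smulV u r) ⟨inLam_smulV u hr.1, ipV_smul_unit hu hr.2⟩ = sigma r hr := by
  refine Equiv.ext fun x => Subtype.ext ?_
  refine (sigma_coe _ _ x).trans (Eq.trans ?_ (sigma_coe r hr x).symm)
  funext t
  have e : star (phi u) * phi u = 1 := by rw [← phi_conj, ← phi_mul, hu', phi_one]
  simp only [qrefl, qip, Fin.sum_univ_three, phi3_smulV, star_mul, ← mul_assoc, ← add_mul, ← smul_mul_assoc]
  rw [mul_assoc _ (star (phi u)) (phi u), e, mul_one]

end CfsgHJ
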