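/-
The reflection group acting on the 315 lines and on the 100 blocks of lines.
-/
import Cfsg.Agent.Lib.HallJanko.Refl
import Cfsg.Agent.Lib.HallJanko.ActCheck

set_option autoImplicit false

namespace CfsgHJ

open Quaternion Cfsg.Spor Ico

attribute [local irreducible] smallL lines unitL repL bucketL shortTab lineAt imgAt rCode gCode treeAt blockAt genLine

theorem lineAt_eq {i : ℕ} (hi : i < 315) : lineAt i = lines[i]'(by rw [lines_check.1]; exact hi) := by
  have h := List.all_eq_true.mp lineAt_check (i, lines[i]'(by rw [lines_check.1]; exact hi))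
    (List.mem_iff_getElem.mpr ⟨i, by simp [lines_check.1, hi], by simp⟩)
  exact beqV_iff.mp h

theorem lineAt_mem {i : ℕ} (hi : i < 315) : lineAt i ∈ lines := by
  rw [lineAt_eq hi]; exact List.getElem_mem _

theorem lineAt_inj {i j : ℕ} (hi : i < 315) (hj : j < 315) (h : lineAt i = lineAt j) : i = j := by
  rw [lineAt_eq hi, lineAt_eq hj] at h
  exact (lines_nodup.getElem_inj_iff).mp h

theorem exists_lineAt {l : Vec} (hl : l ∈ lines) : ∃ i, i < 315 ∧ lineAt i = l := by
  obtain ⟨i, hi, rfl⟩ := List.getElem_of_mem hl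
  have hi' : i < 315 := by rwa [lines_check.1] at hi
  exact ⟨i, hi', lineAt_eq hi'⟩

theorem unit_of_norm {v : Ico} (h : mul v (conj v) = one) : v ∈ unitL := by
  have hq : qf v = 8 := by rw [qf_norm, h]; decide +kernel
  have hne : v ≠ zero := fun e => by rw [e, qf_zero] at hq; omega
  obtain ⟨i, j, hi, -, e, -, h1⟩ := short_info (x := v) (by omega) hne
  rw [h1 hq, mul_one'] at e
  exact e ▸ uAt_mem hi

theorem line_unique {u u' : Ico} (hu : u ∈ unitL) (hu' : u' ∈ unitL) {l l' : Vec} (hl : l ∈ lines) (hl' : l' ∈ lines)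
    (h : smulV u l = smulV u' l') : l = l' := by
  set w := mul (conj u') u
  have hw : w ∈ unitL := unit_of_norm (phi_inj (by
    have a := congrArg phi (unit_inv hu).2
    have b := congrArg phi (unit_inv hu').1
    rw [phi_mul, phi_conj, phi_one] at a b
    simp only [w, phi_mul, phi_conj, star_mul, star_star, phi_one]
    rw [mul_assoc, ← mul_assoc (phi u), a, one_mul, b]))
  have hwl : smulV w l = l' := by
    have e1 : smulV w l = smulV (conj u') (smulV u l) :=
      phi3_inj (by funext t; simp only [w, phi3_smulV, phi_mul, mul_assoc])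
    rw [e1, h]
    apply phi3_inj; funext t
    simp only [phi3_smulV]
    rw [← mul_assoc, ← phi_mul, (unit_inv hu').1, phi_one, one_mul]
  suffices hw1 : w = one by
    rw [← hwl, hw1]; exact phi3_inj (by funext t; simp [phi3_smulV, phi_one])
  by_contra hne
  have hfr := List.all_eq_true.mp free_check w hw
  simp only [Bool.or_eq_true, Ico.beq_iff, List.all_eq_true, Bool.not_eq_true'] at hfr
  have hnot : ∀ r ∈ twoI :: repL, ∀ s ∈ twoI :: repL, mul w r ≠ s := fun r hr s hs e => by
    have := hfr.resolve_left hne r hr s hs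
    rw [e, Ico.beq_self] at this; simp at this
  have hz : ∀ a, mul w a = zero ↔ a = zero := fun a => by
    refine ⟨fun h0 => ?_, fun h0 => phi_inj (by rw [h0, phi_mul, phi_zero, mul_zero])⟩
    have := congrArg (mul (conj w)) h0
    rw [← mul_assoc', (unit_inv hw).1, one_mul'] at this
    exact this.trans (phi_inj (by rw [phi_mul, phi_zero, mul_zero]))
  have n1 := List.all_eq_true.mp lines_check.2.1 l hl
  have n2 := List.all_eq_true.mp lines_check.2.1 l' hl'
  subst hwl
  simp only [normOK, smulV, Bool.and_eq_true, List.any_eq_true, Ico.beq_iff, hz] at n1 n2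
  obtain ⟨r, hr, er⟩ := n1.2
  obtain ⟨s, hs, es⟩ := n2.2
  refine hnot r hr s hs ?_
  rw [← er, ← es]
  split_ifs <;> rfl

theorem isMin_lineAt (i : Fin 315) : IsMin (lineAt i) := isMin_line (lineAt_mem i.2)

/-- The line of a minimal vector. -/
theorem exists_line {r : Vec} (hr : IsMin r) : ∃ i : Fin 315, ∃ u ∈ unitL, r = smulV u (lineAt i) := by
  obtain ⟨u, hu, l, hl, e⟩ := min_vec hr.1 hr.2
  obtain ⟨i, hi, rfl⟩ := exists_lineAt hl
  exact ⟨⟨i, hi⟩, u, hu, e⟩

theorem line_eq {r : Vec} {i j : Fin 315} {u u' : Ico} (hu : u ∈ unitL) (hu' : u' ∈ unitL)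
    (h : r = smulV u (lineAt i)) (h' : r = smulV u' (lineAt j)) : i = j :=
  Fin.ext (lineAt_inj i.2 j.2 (line_unique hu hu' (lineAt_mem i.2) (lineAt_mem j.2) (h.symm.trans h')))

/-- The reflection of line `i`. -/
noncomputable def lineRefl (i : Fin 315) : Equiv.Perm icoLeech := sigma (lineAt i) (isMin_lineAt i)

theorem lineRefl_mem (i : Fin 315) : lineRefl i ∈ twoJ2 :=
  Subgroup.subset_closure (isRefl_iff.mpr ⟨_, _, rfl⟩)

theorem sigma_eq_lineRefl {r : Vec} (hr : IsMin r) {i : Fin 315} {u : Ico} (hu : u ∈ unitL)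
    (h : r = smulV u (lineAt i)) : sigma r hr = lineRefl i := by
  subst h
  exact sigma_smul (isMin_lineAt i) (unit_inv hu).2 (unit_inv hu).1

theorem isRefl_iff_line {f : Equiv.Perm icoLeech} : IsIcoReflection f ↔ ∃ i, f = lineRefl i := by
  constructor
  · intro h
    obtain ⟨r, hr, rfl⟩ := isRefl_iff.mp h
    obtain ⟨i, u, hu, e⟩ := exists_line hr
    exact ⟨i, sigma_eq_lineRefl hr hu e⟩
  · rintro ⟨i, rfl⟩; exact isRefl_iff.mpr ⟨_, _, rfl⟩

theorem exists_lineIm (g : twoJ2) (i : Fin 315) :
    ∃ j : Fin 315, ∃ u ∈ unitL, act (g : Equiv.Perm icoLeech) (lineAt i) = smulV u (lineAt j) :=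
  exists_line ((isLin_of_mem g.2).isMin (isMin_lineAt i))

/-- The image of a line. -/
noncomputable def lineIm (g : twoJ2) (i : Fin 315) : Fin 315 := (exists_lineIm g i).choose

theorem lineIm_spec (g : twoJ2) (i : Fin 315) :
    ∃ u ∈ unitL, act (g : Equiv.Perm icoLeech) (lineAt i) = smulV u (lineAt (lineIm g i)) :=
  (exists_lineIm g i).choose_spec

theorem lineIm_eq {g : twoJ2} {i j : Fin 315} {u : Ico} (hu : u ∈ unitL)
    (h : act (g : Equiv.Perm icoLeech) (lineAt i) = smulV u (lineAt j)) : lineIm g i = j := by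
  obtain ⟨u', hu', e⟩ := lineIm_spec g i
  exact line_eq hu' hu e h

theorem unitL_mul {u v : Ico} (hu : u ∈ unitL) (hv : v ∈ unitL) : mul u v ∈ unitL :=
  unit_of_norm (phi_inj (by
    have a := congrArg phi (unit_inv hu).2
    have b := congrArg phi (unit_inv hv).2
    rw [phi_mul, phi_conj, phi_one] at a b
    simp only [phi_mul, phi_conj, star_mul, phi_one]
    rw [mul_assoc, ← mul_assoc (phi v), b, one_mul, a]))

theorem lineIm_mul (g h : twoJ2) (i : Fin 315) : lineIm (g * h) i = lineIm g (lineIm h i) := by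
  obtain ⟨u, hu, e⟩ := lineIm_spec h i
  obtain ⟨v, hv, e'⟩ := lineIm_spec g (lineIm h i)
  refine lineIm_eq (unitL_mul hu hv) ?_
  rw [Subgroup.coe_mul, act_mul _ _ (isMin_lineAt i).1, e, (isLin_of_mem g.2).map_smul u (isMin_lineAt _).1, e']
  exact phi3_inj (by funext t; simp only [phi3_smulV, phi_mul, mul_assoc])

theorem one_mem_unitL : one ∈ unitL := unit_of_norm (by decide +kernel)

theorem lineIm_one (i : Fin 315) : lineIm 1 i = i :=
  lineIm_eq one_mem_unitL (by
    rw [Subgroup.coe_one, act_one]; exact phi3_inj (by funext t; simp [phi3_smulV, phi_one]))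

/-- The action on lines. -/
noncomputable def lineHom : twoJ2 →* Equiv.Perm (Fin 315) where
  toFun g :=
    { toFun := lineIm g
      invFun := lineIm g⁻¹
      left_inv := fun i => by rw [← lineIm_mul, inv_mul_cancel, lineIm_one]
      right_inv := fun i => by rw [← lineIm_mul, mul_inv_cancel, lineIm_one] }
  map_one' := Equiv.ext lineIm_one
  map_mul' g h := Equiv.ext (lineIm_mul g h)

theorem conj_lineRefl (g : twoJ2) (i : Fin 315) :
    (g : Equiv.Perm icoLeech) * lineRefl i * (g : Equiv.Perm icoLeech)⁻¹ = lineRefl (lineHom g i) := by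
  obtain ⟨u, hu, e⟩ := lineIm_spec g i
  exact (conj_sigma (isLin_of_mem g.2) (isMin_lineAt i)).trans (sigma_eq_lineRefl _ hu e)

/-- The reflection of line `i` as a group element. -/
noncomputable def reflEl (i : Fin 315) : twoJ2 := ⟨lineRefl i, lineRefl_mem i⟩

theorem conj_reflEl (g : twoJ2) (i : Fin 315) : g * reflEl i * g⁻¹ = reflEl (lineHom g i) :=
  Subtype.ext (conj_lineRefl g i)

theorem tree_facts {t : ℕ} (ht : t < 315) : treeStep t = true :=
  List.all_eq_true.mp tree_check.1 t (List.mem_range.mpr ht)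

theorem gen_facts {a : ℕ} (ha : a < 5) :
    genLine a < 315 ∧ isPerm 100 (gCode a) (gCode a) = true ∧ rCode (genLine a) = gCode a := by
  have h := List.all_eq_true.mp tree_check.2.2.2 a (List.mem_range.mpr ha)
  simp only [Bool.and_eq_true, Nat.blt_eq] at h
  exact ⟨h.1.1, h.1.2, Nat.eq_of_beq_eq_true h.2⟩

/-- A generating reflection. -/
noncomputable def genEl (a : Fin 5) : twoJ2 := reflEl ⟨genLine a, (gen_facts a.2).1⟩

theorem img_facts {a i : ℕ} (ha : a < 5) (hi : i < 315) : imgOK a i = true := by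
  have key : ((List.range 315).all fun j => imgOK a j) = true := by
    match a, ha with
    | 0, _ => exact img_check0
    | 1, _ => exact img_check1
    | 2, _ => exact img_check2
    | 3, _ => exact img_check3
    | 4, _ => exact img_check4
  exact List.all_eq_true.mp key i (List.mem_range.mpr hi)

theorem img_lt {a i : ℕ} (ha : a < 5) (hi : i < 315) : (imgAt a i).1 < 315 := by
  have h := img_facts ha hi
  simp only [imgOK, Bool.and_eq_true, Nat.blt_eq] at h
  exact h.1.1

theorem lineHom_gen (a : Fin 5) (i : Fin 315) : (lineHom (genEl a) i : ℕ) = (imgAt a i).1 := by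
  have h := img_facts a.2 i.2
  simp only [imgOK, Bool.and_eq_true, Nat.blt_eq, beqV_iff] at h
  obtain ⟨⟨hk, hu⟩, e⟩ := h
  refine congrArg Fin.val (lineIm_eq (j := ⟨_, hk⟩) (uAt_mem hu) ?_)
  refine (act_sigma (isMin_lineAt _) (isMin_lineAt i).1).trans (Eq.trans ?_ e)
  apply phi3_inj
  rw [reflV, phi3_addV, phi3_negV, phi3_smulV]
  funext t
  fin_cases t <;> simp [imgOK.addV', phi3, phi_add, phi_mul, phi_neg]

theorem tree_lt : ∀ {t : ℕ}, t < 315 → (treeAt t).1 < 315 := by
  intro t
  induction t using Nat.strong_induction_on with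
  | _ t ih =>
    intro ht
    have hs := tree_facts ht
    simp only [treeStep, Bool.or_eq_true, Bool.and_eq_true, Nat.blt_eq] at hs
    rcases hs with h0 | ⟨⟨⟨hp, ha⟩, he⟩, -⟩
    · rw [Nat.eq_of_beq_eq_true h0, Nat.eq_of_beq_eq_true tree_check.2.2.1]
      exact (gen_facts (by norm_num : 0 < 5)).1
    · rw [← Nat.eq_of_beq_eq_true he]
      exact img_lt ha (ih _ hp (lt_trans hp ht))

theorem closure_gens : twoJ2 = Subgroup.closure (Set.range fun a => ((genEl a : twoJ2) : Equiv.Perm icoLeech)) := by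
  refine le_antisymm ?_ (Subgroup.closure_le _ |>.mpr (by rintro _ ⟨a, rfl⟩; exact SetLike.coe_mem _))
  show Subgroup.closure {f | IsIcoReflection f} ≤ _
  rw [Subgroup.closure_le]
  intro f hf
  obtain ⟨i, rfl⟩ := isRefl_iff_line.mp hf
  set H := Subgroup.closure (Set.range fun a => ((genEl a : twoJ2) : Equiv.Perm icoLeech))
  have hgen : ∀ a, ((genEl a : twoJ2) : Equiv.Perm icoLeech) ∈ H := fun a => Subgroup.subset_closure ⟨a, rfl⟩
  have key : ∀ t, t < 315 → ∀ j : Fin 315, (j : ℕ) = (treeAt t).1 → lineRefl j ∈ H := by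
    intro t
    induction t using Nat.strong_induction_on with
    | _ t ih =>
      intro ht j hj
      have hs := tree_facts ht
      simp only [treeStep, Bool.or_eq_true, Bool.and_eq_true, Nat.blt_eq] at hs
      rcases hs with h0 | ⟨⟨⟨hp, ha⟩, he⟩, -⟩
      · obtain rfl := Nat.eq_of_beq_eq_true h0
        have : j = ⟨genLine 0, (gen_facts (by norm_num : 0 < 5)).1⟩ :=
          Fin.ext (hj.trans (Nat.eq_of_beq_eq_true tree_check.2.2.1))
        rw [this]; exact hgen 0
      · have hp' : (treeAt (treeAt t).2.1).1 < 315 := tree_lt (lt_trans hp ht)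
        let a : Fin 5 := ⟨_, ha⟩
        let p : Fin 315 := ⟨_, hp'⟩
        have hjp : lineHom (genEl a) p = j :=
          Fin.ext (by rw [lineHom_gen, hj]; exact Nat.eq_of_beq_eq_true he)
        rw [← hjp, ← conj_lineRefl]
        exact mul_mem (mul_mem (hgen a) (ih _ hp (lt_trans hp ht) p rfl)) (inv_mem (hgen a))
  obtain ⟨t, ht, he⟩ := List.any_eq_true.mp (List.all_eq_true.mp tree_check.2.1 i (List.mem_range.mpr i.2))
  exact key t (List.mem_range.mp ht) i (Nat.eq_of_beq_eq_true he).symm

end CfsgHJ
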