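/-
The permutation representation on 100 blocks, its kernel, and the order of the reflection group.
-/
import Cfsg.Agent.Lib.HallJanko.Action

set_option autoImplicit false

namespace CfsgHJ

open Quaternion Cfsg.Spor Ico
open scoped Pointwise

attribute [local irreducible] smallL lines unitL repL bucketL shortTab lineAt imgAt rCode gCode treeAt blockAt genLine

theorem canon_check : ((List.range 315).all fun i => Nat.beq (cp 100 (rCode i) (idk 100)) (rCode i)) = true := by
  decide +kernel

def negOne : Ico := neg one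

def special : List ℕ := [42, 43, 44]

def fixA (u0 u1 : Ico) : Bool :=
  special.all fun i => (mul (lineAt i).2.1 u1).beq (mul u0 (lineAt i).2.1)

theorem special_check : (special.all fun i => (lineAt i).1.beq one) = true ∧
    (unitL.all fun u0 => unitL.all fun u1 => !fixA u0 u1 || ((u0.beq one || u0.beq negOne) && u1.beq u0)) = true ∧
    (unitL.all fun u2 => (!(mul (lineAt 42).2.2 u2).beq (mul one (lineAt 42).2.2) || u2.beq one) &&
      (!(mul (lineAt 42).2.2 u2).beq (mul negOne (lineAt 42).2.2) || u2.beq negOne)) = true := by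
  decide +kernel

theorem axis_mem : (lines.any fun l => beqV (twoI, zero, zero) l) = true ∧
    (lines.any fun l => beqV (zero, twoI, zero) l) = true ∧ (lines.any fun l => beqV (zero, zero, twoI) l) = true := by
  have h := lines_check.2.2
  simp only [Bool.and_eq_true] at h
  exact ⟨h.1.1, h.1.2, h.2⟩

/-- The lines of a block. -/
def InBlock (k : Fin 100) (i : Fin 315) : Prop := (i : ℕ) ∈ blockAt k

theorem distinctKeys_sound : ∀ {l : List ℕ}, distinctKeys l = true → l.Nodup
  | [], _ => List.nodup_nil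
  | a :: l, h => by
    simp only [distinctKeys, Bool.and_eq_true, List.all_eq_true, Bool.not_eq_true'] at h
    refine List.nodup_cons.mpr ⟨fun hm => ?_, distinctKeys_sound h.2⟩
    have := h.1 a hm
    rw [Nat.beq_refl] at this
    exact Bool.false_ne_true this.symm

theorem block_lt {k : ℕ} (hk : k < 100) {i : ℕ} (hi : i ∈ blockAt k) : i < 315 := by
  have := List.all_eq_true.mp (List.all_eq_true.mp block_check.2.1 k (List.mem_range.mpr hk)) i hi
  simpa using this

theorem block_inj {k k' : Fin 100} (h : ∀ i, InBlock k i ↔ InBlock k' i) : k = k' := by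
  have hm : maskOf (blockAt k) = maskOf (blockAt k') := Nat.eq_of_testBit_eq fun j => by
    rw [Bool.eq_iff_iff, testBit_maskOf, testBit_maskOf]
    exact ⟨fun hj => (h ⟨j, block_lt k.2 hj⟩).mp hj, fun hj => (h ⟨j, block_lt k'.2 hj⟩).mpr hj⟩
  have hn := distinctKeys_sound block_check.2.2
  exact Fin.ext (List.inj_on_of_nodup_map hn (List.mem_range.mpr k.2) (List.mem_range.mpr k'.2) hm)

/-- `p` is the action of `g` on blocks. -/
def Moves (g : twoJ2) (p : Equiv.Perm (Fin 100)) : Prop := ∀ k i, InBlock (p k) (lineHom g i) ↔ InBlock k i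

theorem moves_unique {g : twoJ2} {p q : Equiv.Perm (Fin 100)} (hp : Moves g p) (hq : Moves g q) : p = q :=
  Equiv.ext fun k => block_inj fun i => by
    obtain ⟨j, rfl⟩ := (lineHom g).surjective i
    rw [hp k j, hq k j]

theorem gen_rep (a : Fin 5) : Rep 100 (gCode a) (decP 100 (gCode a)) := decP_rep (gen_facts a.2).2.1

theorem moves_gen (a : Fin 5) : Moves (genEl a) (decP 100 (gCode a)) := by
  intro k i
  have h := List.all_eq_true.mp (List.all_eq_true.mp block_check.1 a (List.mem_range.mpr a.2)) k (List.mem_range.mpr k.2)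
  simp only [blockOK, Bool.and_eq_true] at h
  have hm := Nat.eq_of_beq_eq_true h.2
  rw [gen_rep a k] at hm
  have e : ∀ j : ℕ, (j ∈ blockAt (decP 100 (gCode a) k : ℕ)) ↔ ∃ x ∈ blockAt k, (imgAt a x).1 = j := fun j => by
    rw [← testBit_maskOf, ← hm, testBit_maskOf, List.mem_map]
  unfold InBlock
  rw [e, lineHom_gen]
  constructor
  · rintro ⟨x, hx, he⟩
    have hx' := block_lt k.2 hx
    rw [← lineHom_gen a ⟨x, hx'⟩, ← lineHom_gen a i] at he
    have := (lineHom (genEl a)).injective (Fin.ext he)
    rw [← this]; exact hx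
  · exact fun hi => ⟨i, hi, rfl⟩

theorem exists_moves (g : twoJ2) : ∃ p, Moves g p := by
  obtain ⟨g, hg⟩ := g
  have hg' : g ∈ Subgroup.closure (Set.range fun a => ((genEl a : twoJ2) : Equiv.Perm icoLeech)) :=
    closure_gens ▸ hg
  revert hg
  induction hg' using Subgroup.closure_induction with
  | mem x hx => obtain ⟨a, rfl⟩ := hx; exact fun _ => ⟨_, moves_gen a⟩
  | one => exact fun h => ⟨1, fun k i => by
      rw [show (⟨1, h⟩ : twoJ2) = 1 from rfl, map_one]; exact Iff.rfl⟩
  | mul x y hx hy ihx ihy =>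
    intro h
    obtain ⟨p, hp⟩ := ihx (closure_gens.symm ▸ hx)
    obtain ⟨q, hq⟩ := ihy (closure_gens.symm ▸ hy)
    refine ⟨p * q, fun k i => ?_⟩
    rw [show (⟨x * y, h⟩ : twoJ2) = ⟨x, closure_gens.symm ▸ hx⟩ * ⟨y, closure_gens.symm ▸ hy⟩ from rfl, map_mul,
      Equiv.Perm.mul_apply, Equiv.Perm.mul_apply, hp, hq]
  | inv x hx ihx =>
    intro h
    obtain ⟨p, hp⟩ := ihx (closure_gens.symm ▸ hx)
    refine ⟨p⁻¹, fun k i => ?_⟩
    rw [show (⟨x⁻¹, h⟩ : twoJ2) = (⟨x, closure_gens.symm ▸ hx⟩ : twoJ2)⁻¹ from rfl, map_inv, ← hp,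
      Equiv.Perm.inv_def, Equiv.Perm.inv_def, Equiv.apply_symm_apply, Equiv.apply_symm_apply]

noncomputable def blockIm (g : twoJ2) : Equiv.Perm (Fin 100) := (exists_moves g).choose

theorem blockIm_spec (g : twoJ2) : Moves g (blockIm g) := (exists_moves g).choose_spec

/-- The representation on the 100 blocks. -/
noncomputable def rho : twoJ2 →* Equiv.Perm (Fin 100) where
  toFun := blockIm
  map_one' := moves_unique (blockIm_spec 1) fun k i => by rw [map_one]; exact Iff.rfl
  map_mul' g h := moves_unique (blockIm_spec _) fun k i => by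
    rw [map_mul, Equiv.Perm.mul_apply, Equiv.Perm.mul_apply, blockIm_spec g, blockIm_spec h]

theorem rho_gen (a : Fin 5) : rho (genEl a) = decP 100 (gCode a) := moves_unique (blockIm_spec _) (moves_gen a)

theorem rep_gen (a : Fin 5) : Rep 100 (gCode a) (rho (genEl a)) := rho_gen a ▸ gen_rep a

theorem rep_refl (i : Fin 315) : Rep 100 (rCode i) (rho (reflEl i)) := by
  obtain ⟨t, ht, he⟩ := List.any_eq_true.mp (List.all_eq_true.mp tree_check.2.1 i (List.mem_range.mpr i.2))
  rw [List.mem_range] at ht
  have key : ∀ t, t < 315 → ∀ j : Fin 315, (j : ℕ) = (treeAt t).1 → Rep 100 (rCode j) (rho (reflEl j)) := by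
    intro t
    induction t using Nat.strong_induction_on with
    | _ t ih =>
      intro ht j hj
      have hs := tree_facts ht
      simp only [treeStep, Bool.or_eq_true, Bool.and_eq_true, Nat.blt_eq] at hs
      rcases hs with h0 | ⟨⟨⟨hp, ha⟩, he⟩, hr⟩
      · obtain rfl := Nat.eq_of_beq_eq_true h0
        have hj0 : j = ⟨genLine 0, (gen_facts (by norm_num : 0 < 5)).1⟩ :=
          Fin.ext (hj.trans (Nat.eq_of_beq_eq_true tree_check.2.2.1))
        subst hj0
        exact (congrArg (fun c => Rep 100 c _) (gen_facts (by norm_num : 0 < 5)).2.2).mpr (rep_gen 0)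
      · let a : Fin 5 := ⟨_, ha⟩
        let p : Fin 315 := ⟨_, tree_lt (lt_trans hp ht)⟩
        have hjp : lineHom (genEl a) p = j :=
          Fin.ext (by rw [lineHom_gen, hj]; exact Nat.eq_of_beq_eq_true he)
        have e : reflEl j = genEl a * reflEl p * (genEl a)⁻¹ := by rw [conj_reflEl, hjp]
        rw [hj, Nat.eq_of_beq_eq_true hr, e, map_mul, map_mul, map_inv, mul_assoc]
        exact (rep_gen a).comp ((ih _ hp (lt_trans hp ht) p rfl).comp
          (rep_inv (by norm_num) (rep_gen a) (gen_facts a.2).2.1))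
  exact key t ht i (Nat.eq_of_beq_eq_true he).symm

theorem Rep.cp_id_eq {n c d : ℕ} {g : Equiv.Perm (Fin n)} (hc : Rep n c g) (hd : Rep n d g) (hn : n ≤ 128) :
    cp n c (idk n) = cp n d (idk n) := by
  have key : ∀ k, k ≤ n → pk (fun i => ap c (ap (idk n) i)) k = pk (fun i => ap d (ap (idk n) i)) k := by
    intro k
    induction k with
    | zero => intro _; rfl
    | succ k ih =>
      intro hk
      simp only [pk]
      rw [ih (by omega)]
      have e := (rep_id hn) ⟨k, hk⟩
      simp only [Equiv.Perm.one_apply] at e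
      rw [e, hc ⟨k, hk⟩, hd ⟨k, hk⟩]
  exact key n le_rfl

theorem rho_refl_inj {i j : Fin 315} (h : rho (reflEl i) = rho (reflEl j)) : i = j := by
  have e := (h ▸ rep_refl i : Rep 100 (rCode i) (rho (reflEl j))).cp_id_eq (rep_refl j) (by norm_num)
  rw [Nat.eq_of_beq_eq_true (List.all_eq_true.mp canon_check i (List.mem_range.mpr i.2)),
    Nat.eq_of_beq_eq_true (List.all_eq_true.mp canon_check j (List.mem_range.mpr j.2))] at e
  exact Fin.ext (List.inj_on_of_nodup_map (distinctKeys_sound refl_distinct) (List.mem_range.mpr i.2)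
    (List.mem_range.mpr j.2) e)

/-- Negation of the lattice. -/
noncomputable def negP : Equiv.Perm icoLeech where
  toFun x := ofV (negV (toV x)) (inLam_negV (inLam_toV x))
  invFun x := ofV (negV (toV x)) (inLam_negV (inLam_toV x))
  left_inv x := toV_inj (by
    rw [toV_ofV, toV_ofV]; exact phi3_inj (by rw [phi3_negV, phi3_negV, neg_neg]))
  right_inv x := toV_inj (by
    rw [toV_ofV, toV_ofV]; exact phi3_inj (by rw [phi3_negV, phi3_negV, neg_neg]))

theorem negP_coe (x : icoLeech) : ((negP x : icoLeech) : Fin 3 → ℍ[ℝ]) = -(x : Fin 3 → ℍ[ℝ]) := by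
  show phi3 (negV (toV x)) = _
  rw [phi3_negV, phi3_toV]

theorem act_negP {v : Vec} (hv : inLam v = true) : act negP v = negV v := by
  rw [act, dif_pos hv]
  exact phi3_inj (by rw [phi3_toV, negP_coe, phi3_negV]; rfl)

theorem phi_negOne : phi negOne = -1 := by rw [negOne, phi_neg, phi_one]

theorem fix_lines {g : twoJ2} (h : lineHom g = 1) :
    (g : Equiv.Perm icoLeech) = 1 ∨ (g : Equiv.Perm icoLeech) = negP := by
  set G := (g : Equiv.Perm icoLeech)
  have hG : IsLin G := isLin_of_mem g.2
  have hfix : ∀ l ∈ lines, ∃ u ∈ unitL, act G l = smulV u l := by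
    intro l hl
    obtain ⟨i, hi, rfl⟩ := exists_lineAt hl
    obtain ⟨u, hu, e⟩ := lineIm_spec g ⟨i, hi⟩
    refine ⟨u, hu, e.trans ?_⟩
    rw [show lineIm g ⟨i, hi⟩ = ⟨i, hi⟩ from Equiv.ext_iff.mp h ⟨i, hi⟩]
  obtain ⟨l0, m0, e0⟩ := List.any_eq_true.mp axis_mem.1
  obtain ⟨l1, m1, e1⟩ := List.any_eq_true.mp axis_mem.2.1
  obtain ⟨l2, m2, e2⟩ := List.any_eq_true.mp axis_mem.2.2
  rw [beqV_iff] at e0 e1 e2; subst e0 e1 e2
  obtain ⟨u0, hu0, a0⟩ := hfix _ m0
  obtain ⟨u1, hu1, a1⟩ := hfix _ m1
  obtain ⟨u2, hu2, a2⟩ := hfix _ m2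
  have hdiag : ∀ v, inLam v = true → act G v = (mul v.1 u0, mul v.2.1 u1, mul v.2.2 u2) := by
    intro v hv
    have hd : dblV v = addV (smulV v.1 (twoI, zero, zero))
        (addV (smulV v.2.1 (zero, twoI, zero)) (smulV v.2.2 (zero, zero, twoI))) := by
      apply phi3_inj; funext t
      fin_cases t <;> simp [phi3, dblV, addV, smulV, phi_dbl, phi_add, phi_mul, phi_zero, show twoI = dbl one from rfl,
        phi_one]
    have k0 := (isMin_line m0).1
    have k1 := (isMin_line m1).1
    have k2 := (isMin_line m2).1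
    have e := congrArg (act G) hd
    rw [hG.lin v.1 _ _ k0 (inLam_addV (inLam_smulV _ k1) (inLam_smulV _ k2)),
      hG.lin v.2.1 _ _ k1 (inLam_smulV _ k2), hG.map_smul _ k2, a0, a1, a2,
      show dblV v = addV v v from phi3_inj (by rw [phi3_dblV, phi3_addV, two_smul]), hG.map_addV hv hv] at e
    apply phi3_inj
    apply smul_right_injective (Fin 3 → ℍ[ℝ]) (two_ne_zero (α := ℝ))
    simp only
    rw [two_smul, ← phi3_addV, e]
    funext t
    fin_cases t <;> simp [phi3, addV, smulV, phi_add, phi_mul, phi_zero, show twoI = dbl one from rfl, phi_dbl,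
      phi_one]
  have hu : ∀ i ∈ special, mul (lineAt i).2.1 u1 = mul u0 (lineAt i).2.1 ∧
      mul (lineAt i).2.2 u2 = mul u0 (lineAt i).2.2 := by
    intro i hi
    have hi' : i < 315 := by revert i; decide
    obtain ⟨u, -, e⟩ := hfix _ (lineAt_mem hi')
    rw [hdiag _ (isMin_line (lineAt_mem hi')).1, smulV, Prod.mk.injEq, Prod.mk.injEq,
      Ico.eq_of_beq (List.all_eq_true.mp special_check.1 i hi), one_mul', mul_one'] at e
    obtain ⟨rfl, f1, f2⟩ := e
    exact ⟨f1, f2⟩
  have hA : fixA u0 u1 = true := by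
    rw [fixA, List.all_eq_true]
    exact fun i hi => Ico.beq_iff.mpr (hu i hi).1
  have h01 := List.all_eq_true.mp (List.all_eq_true.mp special_check.2.1 u0 hu0) u1 hu1
  simp only [hA, Bool.not_true, Bool.false_or, Bool.and_eq_true, Bool.or_eq_true, Ico.beq_iff] at h01
  have h2 := List.all_eq_true.mp special_check.2.2 u2 hu2
  have h42 := (hu 42 (by simp [special])).2
  simp only [Bool.and_eq_true, Bool.or_eq_true, Bool.not_eq_true', Ico.beq_iff] at h2
  obtain ⟨h0 | h0, h1⟩ := h01
  · subst h0; subst h1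
    have := h2.1.resolve_left (by rw [h42, Ico.beq_self]; simp)
    subst this
    refine Or.inl (Equiv.ext fun x => toV_inj ?_)
    rw [← act_toV, hdiag _ (inLam_toV x), mul_one', mul_one', mul_one']
    rfl
  · subst h0; subst h1
    have := h2.2.resolve_left (by rw [h42, Ico.beq_self]; simp)
    subst this
    refine Or.inr (Equiv.ext fun x => Subtype.ext ?_)
    rw [negP_coe, ← phi3_toV, ← act_toV, hdiag _ (inLam_toV x), ← phi3_toV x]
    funext t
    fin_cases t <;> simp [phi3, phi_mul, phi_negOne]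

theorem exists_axis (v : Vec) (hv : v ∈ [((twoI, zero, zero) : Vec), (zero, twoI, zero), (zero, zero, twoI)]) :
    IsMin v := by
  have : ∀ v ∈ [((twoI, zero, zero) : Vec), (zero, twoI, zero), (zero, zero, twoI)],
      ∃ l ∈ lines, beqV v l = true := by
    intro v hv
    simp only [List.mem_cons, List.not_mem_nil, or_false] at hv
    rcases hv with rfl | rfl | rfl
    · exact List.any_eq_true.mp axis_mem.1
    · exact List.any_eq_true.mp axis_mem.2.1
    · exact List.any_eq_true.mp axis_mem.2.2
  obtain ⟨l, hl, e⟩ := this v hv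
  rw [beqV_iff.mp e]; exact isMin_line hl

theorem negP_mem : negP ∈ twoJ2 := by
  have k0 := exists_axis (twoI, zero, zero) (by simp)
  have k1 := exists_axis (zero, twoI, zero) (by simp)
  have k2 := exists_axis (zero, zero, twoI) (by simp)
  have hm : ∀ r (hr : IsMin r), sigma r hr ∈ twoJ2 := fun r hr =>
    Subgroup.subset_closure (isRefl_iff.mpr ⟨r, hr, rfl⟩)
  have : negP = sigma _ k0 * sigma _ k1 * sigma _ k2 := by
    refine Equiv.ext fun x => Subtype.ext ?_
    rw [negP_coe, Equiv.Perm.mul_apply, Equiv.Perm.mul_apply, sigma_coe, sigma_coe, sigma_coe]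
    have h2 : phi twoI = (2 : ℝ) • (1 : ℍ[ℝ]) := by rw [show twoI = dbl one from rfl, phi_dbl, phi_one]
    funext t
    fin_cases t <;> simp [qrefl, qip, phi3, Fin.sum_univ_three, h2, phi_zero, Quaternion.star_smul, smul_smul] <;>
      module
  rw [this]
  exact mul_mem (mul_mem (hm _ k0) (hm _ k1)) (hm _ k2)

/-- Minus one. -/
noncomputable def negEl : twoJ2 := ⟨negP, negP_mem⟩

theorem negEl_ne_one : negEl ≠ 1 := by
  intro h
  have h' : negP = 1 := congrArg Subtype.val h
  have e := act_negP (isMin_lineAt 0).1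
  rw [h', act_one] at e
  have e' := congrArg phi3 e
  rw [phi3_negV] at e'
  have hz : lineAt (0 : Fin 315) = zeroV := by
    apply phi3_inj
    have h2 : (2 : ℝ) • phi3 (lineAt (0 : Fin 315)) = 0 := by rw [two_smul]; nth_rewrite 2 [e']; exact add_neg_cancel _
    rw [(smul_eq_zero.mp h2).resolve_left (by norm_num)]
    funext t; fin_cases t <;> simp [phi3, zeroV, phi_zero]
  have h4 := (isMin_lineAt 0).2
  rw [hz] at h4
  exact absurd (Ico.beq_iff.mpr h4) (by decide +kernel)

theorem lineHom_negEl : lineHom negEl = 1 := Equiv.ext fun i => lineIm_eq (u := negOne)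
  (unit_of_norm (by decide +kernel)) (by
    show act negP (lineAt i) = _
    rw [act_negP (isMin_lineAt i).1]
    exact phi3_inj (by funext t; simp [phi3_negV, phi3_smulV, phi_negOne]))

theorem rho_ker {g : twoJ2} : rho g = 1 ↔ g = 1 ∨ g = negEl := by
  constructor
  · intro h
    have hl : lineHom g = 1 := Equiv.ext fun i => rho_refl_inj (by
      rw [← conj_reflEl, map_mul, map_mul, h, one_mul, map_inv, h, inv_one, mul_one]; rfl)
    exact (fix_lines hl).imp Subtype.ext Subtype.ext
  · rintro (rfl | rfl)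
    · exact map_one rho
    · exact moves_unique (blockIm_spec _) fun k i => by rw [lineHom_negEl]; exact Iff.rfl

theorem center_iff {g : twoJ2} : g ∈ Subgroup.center twoJ2 ↔ g = 1 ∨ g = negEl := by
  constructor
  · intro h
    have hl : lineHom g = 1 := Equiv.ext fun i => rho_refl_inj (by
      rw [← conj_reflEl, ← Subgroup.mem_center_iff.mp h (reflEl i), mul_inv_cancel_right]; rfl)
    exact (fix_lines hl).imp Subtype.ext Subtype.ext
  · rintro (rfl | rfl)
    · exact one_mem _
    · rw [Subgroup.mem_center_iff]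
      intro h
      apply Subtype.ext
      refine Equiv.ext fun x => toV_inj ?_
      show toV ((h : Equiv.Perm icoLeech) (negP x)) = toV (negP ((h : Equiv.Perm icoLeech) x))
      have hneg : ∀ v, negV v = smulV negOne v := fun v =>
        phi3_inj (by funext t; simp [phi3_negV, phi3_smulV, phi_negOne])
      rw [← act_toV, ← act_toV negP, act_negP (inLam_toV _), ← act_toV negP, act_negP (inLam_toV _), hneg, hneg,
        (isLin_of_mem h.2).map_smul _ (inLam_toV x), act_toV]

/-- The group on 100 points. -/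
noncomputable def hjGroup : Subgroup (Equiv.Perm (Fin 100)) := genG 100 genCodes

theorem valid_gens : Valid 100 genCodes := by
  intro c hc
  obtain ⟨a, ha, rfl⟩ := List.getElem_of_mem hc
  have ha' : a < 5 := by rwa [genCodes_length] at ha
  have e : gCode a = genCodes[a] := by unfold gCode; exact List.getD_eq_getElem _ _ ha
  exact ⟨_, e ▸ rep_gen ⟨a, ha'⟩⟩

theorem rho_range : rho.range = hjGroup := by
  apply le_antisymm
  · rintro _ ⟨⟨g, hg⟩, rfl⟩
    have hg' : g ∈ Subgroup.closure (Set.range fun a => ((genEl a : twoJ2) : Equiv.Perm icoLeech)) :=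
      closure_gens ▸ hg
    revert hg
    induction hg' using Subgroup.closure_induction with
    | mem x hx =>
      obtain ⟨a, rfl⟩ := hx
      intro _
      refine Subgroup.subset_closure ⟨gCode a, ?_, rep_gen a⟩
      have ha : (a : ℕ) < genCodes.length := by rw [genCodes_length]; exact a.2
      unfold gCode; rw [List.getD_eq_getElem _ _ ha]; exact List.getElem_mem ha
    | one => intro h; rw [show (⟨1, h⟩ : twoJ2) = 1 from rfl, map_one]; exact one_mem _
    | mul x y hx hy ihx ihy =>
      intro h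
      rw [show (⟨x * y, h⟩ : twoJ2) = ⟨x, closure_gens.symm ▸ hx⟩ * ⟨y, closure_gens.symm ▸ hy⟩ from rfl, map_mul]
      exact mul_mem (ihx _) (ihy _)
    | inv x hx ihx =>
      intro h
      rw [show (⟨x⁻¹, h⟩ : twoJ2) = (⟨x, closure_gens.symm ▸ hx⟩ : twoJ2)⁻¹ from rfl, map_inv]
      exact inv_mem (ihx _)
  · rw [hjGroup, genG, Subgroup.closure_le]
    rintro g ⟨c, hc, hg⟩
    obtain ⟨a, ha, rfl⟩ := List.getElem_of_mem hc
    have ha' : a < 5 := by rwa [genCodes_length] at ha
    have e : gCode a = genCodes[a] := by unfold gCode; exact List.getD_eq_getElem _ _ ha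
    exact ⟨genEl ⟨a, ha'⟩, (e ▸ rep_gen ⟨a, ha'⟩ : Rep 100 genCodes[a] _).unique hg⟩

theorem card_hjGroup : Nat.card hjGroup = 604800 :=
  ((chain_sound (by norm_num) chain_check valid_gens).card).trans chain_size

theorem ker_eq_center : rho.ker = Subgroup.center twoJ2 :=
  Subgroup.ext fun _ => by rw [MonoidHom.mem_ker, rho_ker, center_iff]

/-- The Hall–Janko group as a permutation group on 100 points. -/
noncomputable def hjEquiv : J2 ≃* hjGroup :=
  ((QuotientGroup.quotientMulEquivOfEq ker_eq_center.symm).trans (QuotientGroup.quotientKerEquivRange rho)).trans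
    (MulEquiv.subgroupCongr rho_range)

theorem hjEquiv_mk (g : twoJ2) : ((hjEquiv (QuotientGroup.mk g) : hjGroup) : Equiv.Perm (Fin 100)) = rho g := rfl

theorem card_center : Nat.card (Subgroup.center twoJ2) = 2 := by
  rw [show Nat.card (Subgroup.center twoJ2) = Nat.card ((Subgroup.center twoJ2 : Subgroup twoJ2) : Set twoJ2) from rfl,
    show ((Subgroup.center twoJ2 : Subgroup twoJ2) : Set twoJ2) = {1, negEl} from Set.ext fun g => by
      simp [center_iff], Nat.card_coe_set_eq, Set.ncard_pair (Ne.symm negEl_ne_one)]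

theorem card_J2 : Nat.card J2 = 604800 := (Nat.card_congr hjEquiv.toEquiv).trans card_hjGroup

theorem card_twoJ2 : Nat.card twoJ2 = 1209600 := by
  have : Nat.card twoJ2 = Nat.card J2 * Nat.card (Subgroup.center twoJ2) :=
    Subgroup.card_eq_card_quotient_mul_card_subgroup _
  rw [this, card_J2, card_center]

end CfsgHJ
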