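/-
Checks for primitivity on the reflections.
-/
import Cfsg.Agent.Lib.HallJanko.ActCheck
import Cfsg.Agent.Lib.HallJanko.SimpleData

set_option autoImplicit false

namespace CfsgHJ

def stCode (a : ℕ) : ℕ × ℕ := ((stabData.getD a (0, 0, [])).1, (stabData.getD a (0, 0, [])).2.1)

def stImg (a i : ℕ) : ℕ := ((stabData.getD a (0, 0, [])).2.2.getD (i / 45) []).getD (i % 45) 0



def orbEntry (o k : ℕ) : ℕ × ℕ × ℕ := ((orbitData.getD o []).getD (k / 45) []).getD (k % 45) (0, 0, 0)

def orbSize : List ℕ := [32, 160, 80, 32, 10]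

def edgeAt (o k : ℕ) : ℕ × ℕ × ℕ × ℕ :=
  ((joinData.getD o ([], [])).1.getD (k / 45) []).getD (k % 45) (0, 0, 0, 0)

def spanAt (o k : ℕ) : ℕ × ℕ × ℕ :=
  ((joinData.getD o ([], [])).2.getD (k / 45) []).getD (k % 45) (0, 0, 0)

def edgeOK (o k : ℕ) : Bool :=
  if k = 0 then Nat.beq (edgeAt o 0).1 baseLine && Nat.beq (edgeAt o 0).2.1 (orbEntry o 0).1
  else Nat.blt (edgeAt o k).2.2.1 k && Nat.blt (edgeAt o k).2.2.2 5 &&
    Nat.beq (imgAt (edgeAt o k).2.2.2 (edgeAt o (edgeAt o k).2.2.1).1).1 (edgeAt o k).1 &&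
    Nat.beq (imgAt (edgeAt o k).2.2.2 (edgeAt o (edgeAt o k).2.2.1).2.1).1 (edgeAt o k).2.1

def spanOK (o k : ℕ) : Bool :=
  if k = 0 then Nat.beq (spanAt o 0).1 baseLine
  else Nat.blt (spanAt o k).2.1 k && Nat.blt (spanAt o k).2.2 314 &&
    ((Nat.beq (edgeAt o (spanAt o k).2.2).1 (spanAt o (spanAt o k).2.1).1 &&
        Nat.beq (edgeAt o (spanAt o k).2.2).2.1 (spanAt o k).1) ||
      (Nat.beq (edgeAt o (spanAt o k).2.2).2.1 (spanAt o (spanAt o k).2.1).1 &&
        Nat.beq (edgeAt o (spanAt o k).2.2).1 (spanAt o k).1))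

def orbStep (o k : ℕ) : Bool :=
  Nat.blt (orbEntry o k).1 315 &&
    (Nat.beq k 0 || (Nat.blt (orbEntry o k).2.1 k && Nat.blt (orbEntry o k).2.2 2 &&
      Nat.beq (stImg (orbEntry o k).2.2 (orbEntry o (orbEntry o k).2.1).1) (orbEntry o k).1))

def stabOK (a : ℕ) : Bool :=
  isPerm 100 (stCode a).1 (stCode a).2 && sift 100 chainData (stCode a).1 && Nat.beq (stImg a baseLine) baseLine &&
    (List.range 315).all fun i => Nat.blt (stImg a i) 315 &&
      Nat.beq (cp 100 (stCode a).1 (cp 100 (rCode i) (stCode a).2)) (rCode (stImg a i))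

theorem stab_check : ((List.range 2).all stabOK) = true ∧ Nat.blt baseLine 315 = true := by decide +kernel

theorem orbit_check : ((List.range 5).all fun o => (List.range (orbSize.getD o 0)).all (orbStep o)) = true ∧
    ((List.range 315).all fun i => Nat.beq i baseLine || (List.range 5).any fun o =>
      (List.range (orbSize.getD o 0)).any fun k => Nat.beq (orbEntry o k).1 i) = true := by
  decide +kernel

theorem edge_check : ((List.range 5).all fun o => (List.range 314).all (edgeOK o)) = true := by decide +kernel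

theorem span_check : ((List.range 5).all fun o => (List.range 315).all (spanOK o)) = true ∧
    ((List.range 5).all fun o => (List.range 315).all fun i => (List.range 315).any fun k =>
      Nat.beq (spanAt o k).1 i) = true := by
  decide +kernel

end CfsgHJ
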