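/-
Simplicity of the Hall–Janko group.
-/
import Cfsg.Agent.Lib.HallJanko.Blocks
import Cfsg.Agent.Lib.HallJanko.SimpleCheck

set_option autoImplicit false

namespace CfsgHJ

open Quaternion Cfsg.Spor Ico

attribute [local irreducible] smallL lines unitL repL bucketL shortTab lineAt imgAt rCode gCode treeAt blockAt genLine
  stImg stCode orbEntry edgeAt spanAt

theorem rho_mem (g : twoJ2) : rho g ∈ hjGroup := rho_range ▸ ⟨g, rfl⟩

theorem exists_rho {x : Equiv.Perm (Fin 100)} (hx : x ∈ hjGroup) : ∃ g, rho g = x := by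
  rw [← rho_range] at hx; exact hx

/-- The base reflection line. -/
def base0 : Fin 315 := ⟨baseLine, by simpa using stab_check.2⟩

theorem stab_facts {a : ℕ} (ha : a < 2) : ∃ g : twoJ2, Rep 100 (stCode a).1 (rho g) ∧
    (∀ i : Fin 315, (lineHom g i : ℕ) = stImg a i) ∧ lineHom g base0 = base0 := by
  have h := List.all_eq_true.mp stab_check.1 a (List.mem_range.mpr ha)
  simp only [stabOK, Bool.and_eq_true, List.all_eq_true, List.mem_range, Nat.blt_eq] at h
  obtain ⟨⟨⟨hp, hs⟩, hb⟩, hall⟩ := h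
  have hm := ((chain_sound (by norm_num) chain_check valid_gens).mem_iff _ _ (decP_rep hp)).mp hs
  obtain ⟨g, hg⟩ := exists_rho hm
  have hrep : Rep 100 (stCode a).1 (rho g) := hg ▸ decP_rep hp
  have himg : ∀ i : Fin 315, (lineHom g i : ℕ) = stImg a i := by
    intro i
    obtain ⟨hlt, he⟩ := hall i i.2
    have e : rho (reflEl (lineHom g i)) = rho (reflEl ⟨_, hlt⟩) := by
      rw [← conj_reflEl, map_mul, map_mul, map_inv, mul_assoc]
      exact (hrep.comp ((rep_refl i).comp (rep_inv (by norm_num) hrep hp))).eq_beq (rep_refl _) he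
    rw [rho_refl_inj e]
  exact ⟨g, hrep, himg, Fin.ext ((himg base0).trans (Nat.eq_of_beq_eq_true hb))⟩

theorem reflEl_sq (i : Fin 315) : reflEl i * reflEl i = 1 := by
  apply Subtype.ext
  refine Equiv.ext fun x => toV_inj ?_
  show toV (lineRefl i (lineRefl i x)) = toV x
  rw [lineRefl, ← act_toV, ← act_toV, act_sigma _ (inLam_toV x),
    act_sigma _ (inLam_reflV (isMin_lineAt i) (inLam_toV x)), reflV_reflV (isMin_lineAt i) (inLam_toV x)]

theorem axis_product : ∃ i j k : Fin 315, reflEl i * reflEl j * reflEl k = negEl := by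
  have k0 := exists_axis (twoI, zero, zero) (by simp)
  have k1 := exists_axis (zero, twoI, zero) (by simp)
  have k2 := exists_axis (zero, zero, twoI) (by simp)
  obtain ⟨i, u, hu, e0⟩ := exists_line k0
  obtain ⟨j, v, hv, e1⟩ := exists_line k1
  obtain ⟨k, w, hw, e2⟩ := exists_line k2
  refine ⟨i, j, k, Subtype.ext ?_⟩
  show lineRefl i * lineRefl j * lineRefl k = negP
  rw [← sigma_eq_lineRefl k0 hu e0, ← sigma_eq_lineRefl k1 hv e1, ← sigma_eq_lineRefl k2 hw e2]
  refine Equiv.ext fun x => Subtype.ext ?_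
  rw [negP_coe, Equiv.Perm.mul_apply, Equiv.Perm.mul_apply, sigma_coe, sigma_coe, sigma_coe]
  have h2 : phi twoI = (2 : ℝ) • (1 : ℍ[ℝ]) := by rw [show twoI = dbl one from rfl, phi_dbl, phi_one]
  funext t
  fin_cases t <;> simp [qrefl, qip, phi3, Fin.sum_univ_three, h2, phi_zero, Quaternion.star_smul, smul_smul] <;>
    module

theorem exists_lineHom_eq (i : Fin 315) : ∃ g : twoJ2, lineHom g base0 = i := by
  have key : ∀ t, (ht : t < 315) → ∃ g : twoJ2, lineHom g ⟨genLine 0, (gen_facts (by norm_num : 0 < 5)).1⟩ =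
      ⟨(treeAt t).1, tree_lt ht⟩ := by
    intro t
    induction t using Nat.strong_induction_on with
    | _ t ih =>
      intro ht
      have hs := tree_facts ht
      simp only [treeStep, Bool.or_eq_true, Bool.and_eq_true, Nat.blt_eq] at hs
      rcases hs with h0 | ⟨⟨⟨hp, ha⟩, he⟩, -⟩
      · obtain rfl := Nat.eq_of_beq_eq_true h0
        refine ⟨1, Fin.ext ?_⟩
        rw [map_one]; exact (Nat.eq_of_beq_eq_true tree_check.2.2.1).symm
      · obtain ⟨g, hg⟩ := ih _ hp (lt_trans hp ht)
        refine ⟨genEl ⟨_, ha⟩ * g, Fin.ext ?_⟩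
        rw [map_mul, Equiv.Perm.mul_apply, hg, lineHom_gen]
        exact Nat.eq_of_beq_eq_true he
  have all : ∀ j : Fin 315, ∃ g : twoJ2, lineHom g ⟨genLine 0, (gen_facts (by norm_num : 0 < 5)).1⟩ = j := by
    intro j
    obtain ⟨t, ht, he⟩ := List.any_eq_true.mp (List.all_eq_true.mp tree_check.2.1 j (List.mem_range.mpr j.2))
    obtain ⟨g, hg⟩ := key t (List.mem_range.mp ht)
    exact ⟨g, hg.trans (Fin.ext (Nat.eq_of_beq_eq_true he))⟩
  obtain ⟨g, hg⟩ := all base0
  obtain ⟨k, hk⟩ := all i
  exact ⟨k * g⁻¹, by rw [map_mul, Equiv.Perm.mul_apply, map_inv, ← hg, Equiv.Perm.inv_def, Equiv.symm_apply_apply, hk]⟩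

/-- A relation on the lines respected by the group, joining the base line to another one, joins all. -/
theorem all_related (r : Setoid (Fin 315)) (hinv : ∀ (g : twoJ2) i j, r.r i j → r.r (lineHom g i) (lineHom g j))
    {i j : Fin 315} (hne : i ≠ j) (hij : r.r i j) : ∀ a b, r.r a b := by
  obtain ⟨g, hg⟩ := exists_lineHom_eq i
  set j' := lineHom g⁻¹ j with hj'
  have hbj : r.r base0 j' := by
    have := hinv g⁻¹ i j hij
    rwa [← hj', ← hg, map_inv, Equiv.Perm.inv_def, Equiv.symm_apply_apply] at this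
  have hne' : j' ≠ base0 := fun e => hne (by
    rw [← hg, ← e, hj', map_inv, Equiv.Perm.inv_def, Equiv.apply_symm_apply])
  obtain ⟨o, ho, k, hk, he⟩ : ∃ o, o < 5 ∧ ∃ k, k < orbSize.getD o 0 ∧ (orbEntry o k).1 = (j' : ℕ) := by
    have := List.all_eq_true.mp orbit_check.2 j' (List.mem_range.mpr j'.2)
    simp only [Bool.or_eq_true, List.any_eq_true, List.mem_range] at this
    rcases this with e | ⟨o, ho, k, hk, e⟩
    · exact absurd (Fin.ext (Nat.eq_of_beq_eq_true e)) hne'
    · exact ⟨o, ho, k, hk, Nat.eq_of_beq_eq_true e⟩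
  have hor : ∀ k, k < orbSize.getD o 0 → ∀ x : Fin 315, (x : ℕ) = (orbEntry o k).1 → r.r base0 x →
      ∀ y : Fin 315, (y : ℕ) = (orbEntry o 0).1 → r.r base0 y := by
    intro k
    induction k using Nat.strong_induction_on with
    | _ k ih =>
      intro hk x hx hr y hy
      have h := List.all_eq_true.mp (List.all_eq_true.mp orbit_check.1 o (List.mem_range.mpr ho)) k (List.mem_range.mpr hk)
      simp only [orbStep, Bool.and_eq_true, Bool.or_eq_true, Nat.blt_eq] at h
      rcases h.2 with h0 | ⟨⟨hp, ha⟩, hstep⟩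
      · obtain rfl := Nat.eq_of_beq_eq_true h0
        rwa [show y = x from Fin.ext (hy.trans hx.symm)]
      · obtain ⟨s, -, himg, hfix⟩ := stab_facts ha
        have hplt : (orbEntry o (orbEntry o k).2.1).1 < 315 := by
          have h' := List.all_eq_true.mp (List.all_eq_true.mp orbit_check.1 o (List.mem_range.mpr ho))
            (orbEntry o k).2.1 (List.mem_range.mpr (lt_trans hp hk))
          simp only [orbStep, Bool.and_eq_true, Nat.blt_eq] at h'
          exact h'.1
        let p : Fin 315 := ⟨_, hplt⟩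
        have hsp : lineHom s p = x := Fin.ext ((himg p).trans ((Nat.eq_of_beq_eq_true hstep).trans hx.symm))
        refine ih _ hp (lt_trans hp hk) p rfl ?_ y hy
        have := hinv s⁻¹ _ _ hr
        rwa [map_inv, ← hsp, Equiv.Perm.inv_def, Equiv.symm_apply_apply, show (lineHom s).symm base0 = base0 from
          (lineHom s).injective (by rw [Equiv.apply_symm_apply, hfix])] at this
  have hedge : ∀ m, m < 314 → ∃ a b : Fin 315, (a : ℕ) = (edgeAt o m).1 ∧ (b : ℕ) = (edgeAt o m).2.1 ∧ r.r a b := by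
    intro m
    induction m using Nat.strong_induction_on with
    | _ m ih =>
      intro hm
      have h := List.all_eq_true.mp (List.all_eq_true.mp edge_check o (List.mem_range.mpr ho)) m (List.mem_range.mpr hm)
      by_cases hm0 : m = 0
      · subst hm0
        simp only [edgeOK, ↓reduceIte, Bool.and_eq_true] at h
        have hlt : (orbEntry o 0).1 < 315 := by
          have hs : 0 < orbSize.getD o 0 := by omega
          have h' := List.all_eq_true.mp (List.all_eq_true.mp orbit_check.1 o (List.mem_range.mpr ho)) 0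
            (List.mem_range.mpr hs)
          simp only [orbStep, Bool.and_eq_true, Nat.blt_eq] at h'
          exact h'.1
        refine ⟨base0, ⟨_, hlt⟩, (Nat.eq_of_beq_eq_true h.1).symm, (Nat.eq_of_beq_eq_true h.2).symm, ?_⟩
        exact hor k hk j' he.symm hbj _ rfl
      · simp only [edgeOK, if_neg hm0, Bool.and_eq_true, Nat.blt_eq] at h
        obtain ⟨⟨⟨hp, ha⟩, h1⟩, h2⟩ := h
        obtain ⟨a, b, ea, eb, hr⟩ := ih _ hp (lt_trans hp hm)
        refine ⟨lineHom (genEl ⟨_, ha⟩) a, lineHom (genEl ⟨_, ha⟩) b, ?_, ?_, hinv _ _ _ hr⟩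
        · rw [lineHom_gen, ea]; exact Nat.eq_of_beq_eq_true h1
        · rw [lineHom_gen, eb]; exact Nat.eq_of_beq_eq_true h2
  have hspan : ∀ m, m < 315 → ∀ x : Fin 315, (x : ℕ) = (spanAt o m).1 → r.r base0 x := by
    intro m
    induction m using Nat.strong_induction_on with
    | _ m ih =>
      intro hm x hx
      have h := List.all_eq_true.mp (List.all_eq_true.mp span_check.1 o (List.mem_range.mpr ho)) m (List.mem_range.mpr hm)
      by_cases hm0 : m = 0
      · subst hm0
        simp only [spanOK, ↓reduceIte] at h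
        rw [show x = base0 from Fin.ext (hx.trans (Nat.eq_of_beq_eq_true h))]
      · simp only [spanOK, if_neg hm0, Bool.and_eq_true, Bool.or_eq_true, Nat.blt_eq] at h
        obtain ⟨⟨hp, he'⟩, hc⟩ := h
        obtain ⟨a, b, ea, eb, hr⟩ := hedge _ he'
        rcases hc with ⟨c1, c2⟩ | ⟨c1, c2⟩
        · have hpa := ih _ hp (lt_trans hp hm) a (ea.trans (Nat.eq_of_beq_eq_true c1))
          rw [show x = b from Fin.ext (hx.trans ((Nat.eq_of_beq_eq_true c2).symm.trans eb.symm))]
          exact r.trans hpa hr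
        · have hpb := ih _ hp (lt_trans hp hm) b (eb.trans (Nat.eq_of_beq_eq_true c1))
          rw [show x = a from Fin.ext (hx.trans ((Nat.eq_of_beq_eq_true c2).symm.trans ea.symm))]
          exact r.trans hpb (r.symm hr)
  intro a b
  have hall : ∀ x : Fin 315, r.r base0 x := fun x => by
    obtain ⟨m, hm, e⟩ := List.any_eq_true.mp (List.all_eq_true.mp
      (List.all_eq_true.mp span_check.2 o (List.mem_range.mpr ho)) x (List.mem_range.mpr x.2))
    exact hspan m (List.mem_range.mp hm) x (Nat.eq_of_beq_eq_true e).symm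
  exact r.trans (r.symm (hall a)) (hall b)

theorem normal_twoJ2 (M : Subgroup twoJ2) [M.Normal] (hneg : negEl ∈ M) (hne : ¬ M ≤ Subgroup.center twoJ2) :
    M = ⊤ := by
  let π := QuotientGroup.mk' M
  let r : Setoid (Fin 315) := Setoid.ker fun i => π (reflEl i)
  obtain ⟨n, hn, hnc⟩ := SetLike.not_le_iff_exists.mp hne
  obtain ⟨i, hi⟩ : ∃ i, lineHom n i ≠ i := by
    by_contra h
    refine hnc (center_iff.mpr ?_)
    exact (fix_lines (Equiv.ext fun i => not_not.mp (fun h' => h ⟨i, h'⟩))).imp Subtype.ext Subtype.ext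
  have hπn : π n = 1 := (QuotientGroup.eq_one_iff n).mpr hn
  have hall := all_related r (fun g a b hab => by
      show π (reflEl (lineHom g a)) = π (reflEl (lineHom g b))
      rw [← conj_reflEl, ← conj_reflEl, map_mul, map_mul π (g * _), map_mul π g, map_mul π g,
        show π (reflEl a) = π (reflEl b) from hab]) hi (by
      show π (reflEl (lineHom n i)) = π (reflEl i)
      rw [← conj_reflEl, map_mul, map_mul, map_inv, hπn, one_mul, inv_one, mul_one])
  obtain ⟨a, b, c, habc⟩ := axis_product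
  have hone : ∀ x, π (reflEl x) = 1 := by
    intro x
    have h3 : π (reflEl x) * π (reflEl x) * π (reflEl x) = 1 := by
      have e := congrArg π habc
      rw [map_mul, map_mul, show π (reflEl a) = π (reflEl x) from hall a x, show π (reflEl b) = π (reflEl x) from hall b x,
        show π (reflEl c) = π (reflEl x) from hall c x, show π negEl = 1 from (QuotientGroup.eq_one_iff negEl).mpr hneg] at e
      exact e
    rwa [← map_mul, reflEl_sq, map_one, one_mul] at h3
  rw [eq_top_iff]
  rintro ⟨g, hg⟩ -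
  have hg' : g ∈ Subgroup.closure (Set.range fun a => ((genEl a : twoJ2) : Equiv.Perm icoLeech)) := closure_gens ▸ hg
  have hle : Subgroup.closure (Set.range fun a => ((genEl a : twoJ2) : Equiv.Perm icoLeech)) ≤ M.map twoJ2.subtype := by
    rw [Subgroup.closure_le]
    rintro _ ⟨a, rfl⟩
    exact ⟨genEl a, (QuotientGroup.eq_one_iff _).mp (hone _), rfl⟩
  obtain ⟨y, hy, e⟩ := hle hg'
  rw [show (⟨g, hg⟩ : twoJ2) = y from Subtype.ext e.symm]
  exact hy

theorem gens_noncomm :
    Nat.beq (cp 100 (gCode 0) (gCode 4)) (cp 100 (gCode 4) (gCode 0)) = false ∧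
      ((List.range 100).any fun i => !Nat.beq (ap (gCode 0) (ap (gCode 4) i)) (ap (gCode 4) (ap (gCode 0) i))) = true := by
  decide +kernel

theorem exists_noncomm : ∃ a b : J2, a * b ≠ b * a := by
  refine ⟨QuotientGroup.mk (genEl 0), QuotientGroup.mk (genEl 4), fun h => ?_⟩
  have e := congrArg (fun x => ((hjEquiv x : hjGroup) : Equiv.Perm (Fin 100))) h
  simp only [← QuotientGroup.mk_mul, hjEquiv_mk, map_mul] at e
  obtain ⟨i, hi, hne⟩ := List.any_eq_true.mp gens_noncomm.2
  rw [List.mem_range] at hi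
  have e' := congrArg Fin.val (Equiv.ext_iff.mp e ⟨i, hi⟩)
  rw [← (rep_gen 0).comp (rep_gen 4) ⟨i, hi⟩, ← (rep_gen 4).comp (rep_gen 0) ⟨i, hi⟩, cp, cp,
    (pk_spec (fun j => ap (gCode (0 : Fin 5)) (ap (gCode (4 : Fin 5)) j)) (fun _ => Nat.mod_lt _ (by norm_num)) 100).2 i hi,
    (pk_spec (fun j => ap (gCode (4 : Fin 5)) (ap (gCode (0 : Fin 5)) j)) (fun _ => Nat.mod_lt _ (by norm_num)) 100).2 i hi] at e'
  simp only [Bool.not_eq_true'] at hne
  rw [show ap (gCode 0) (ap (gCode 4) i) = ap (gCode 4) (ap (gCode 0) i) from e', Nat.beq_refl] at hne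
  exact Bool.false_ne_true hne.symm

theorem isSimple_J2 : IsSimpleGroup J2 := by
  haveI : Nontrivial J2 := by
    obtain ⟨a, b, h⟩ := exists_noncomm
    exact ⟨a * b, b * a, h⟩
  refine ⟨fun N hN => ?_⟩
  by_cases hb : N = ⊥
  · exact Or.inl hb
  right
  haveI := hN
  have hsurj : Function.Surjective (QuotientGroup.mk' (Subgroup.center twoJ2)) := QuotientGroup.mk'_surjective _
  have hc : Subgroup.center twoJ2 ≤ N.comap (QuotientGroup.mk' (Subgroup.center twoJ2)) := fun x hx => by
    rw [Subgroup.mem_comap, show QuotientGroup.mk' (Subgroup.center twoJ2) x = 1 from (QuotientGroup.eq_one_iff x).mpr hx]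
    exact one_mem N
  have hM := normal_twoJ2 (N.comap (QuotientGroup.mk' (Subgroup.center twoJ2)))
    (hc (center_iff.mpr (Or.inr rfl))) (fun hle => hb (by
      rw [eq_bot_iff]
      intro x hx
      obtain ⟨y, rfl⟩ := hsurj x
      exact Subgroup.mem_bot.mpr ((QuotientGroup.eq_one_iff y).mpr (hle hx))))
  rw [eq_top_iff]
  intro x _
  obtain ⟨y, rfl⟩ := hsurj x
  have : y ∈ N.comap (QuotientGroup.mk' (Subgroup.center twoJ2)) := hM ▸ Subgroup.mem_top y
  exact this

theorem hjGroup_simple : IsSimpleGroup hjGroup :=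
  haveI := isSimple_J2
  haveI : Nontrivial hjGroup := hjEquiv.symm.toEquiv.nontrivial
  IsSimpleGroup.isSimpleGroup_of_surjective hjEquiv.toMonoidHom hjEquiv.surjective

end CfsgHJ
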