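/-
Tables for the element orders (checked in SpectrumCheck).
-/
import Mathlib

set_option autoImplicit false
set_option maxRecDepth 20000

namespace CfsgHJ

/-- Orbits of the point stabiliser: (point, parent position, generator). -/
def subOrbits : List (List (ℕ × ℕ × ℕ)) := [
  [(0, 0, 0)],
  [(1, 0, 0), (2, 0, 0), (3, 0, 1), (4, 0, 2), (5, 0, 3), (6, 1, 1), (7, 1, 2), (8, 1, 3), (10, 2, 2), (11, 2, 3), (12, 3, 1), (13, 3, 3), (9, 4, 1), (14, 4, 2), (15, 5, 2), (16, 6, 1), (17, 6, 3), (19, 7, 2), (22, 8, 1), (23, 8, 3), (21, 9, 1), (25, 9, 2), (26, 10, 0), (27, 10, 3), (29, 11, 0), (30, 11, 1), (31, 11, 2), (20, 12, 2), (33, 13, 1), (35, 14, 1), (36, 14, 3), (38, 15, 0), (18, 16, 0), (40, 16, 2), (46, 18, 0), (47, 19, 0), (48, 19, 1), (49, 19, 2), (55, 23, 0), (56, 23, 1), (50, 24, 2), (60, 25, 0), (45, 27, 1), (61, 28, 0), (42, 28, 3), (63, 29, 0), (64, 29, 3), (43, 32, 2), (74,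 35, 2), (78, 36, 2), (65, 37, 1), (75, 42, 0), (76, 42, 3), (72, 44, 2), (83, 45, 3), (84, 46, 0), (73, 47, 1), (94, 48, 1), (86, 49, 1), (85, 50, 0), (95, 51, 3), (98, 54, 0), (93, 55, 1)],
  [(24, 0, 0), (51, 0, 0), (52, 0, 1), (44, 0, 2), (53, 0, 3), (59, 1, 1), (68, 1, 2), (28, 2, 0), (57, 5, 0), (79, 5, 2), (41, 5, 3), (91, 6, 1), (37, 6, 3), (58, 7, 3), (66, 8, 2), (90, 9, 1), (92, 11, 3), (67, 12, 1), (54, 13, 2), (87, 14, 3), (82, 15, 3), (70, 16, 0), (89, 16, 1), (69, 16, 2), (88, 17, 0), (80, 18, 1), (77, 19, 1), (97, 20, 0), (62, 20, 2), (39, 21, 2), (71, 25, 0), (81, 25, 3), (96, 26, 0), (99, 27, 1), (34, 28, 1), (32, 29, 1)]]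

/-- Transversal positions of the orbit representatives. -/
def subReps : List ℕ := [0, 1, 24]

/-- An element of each order: (order, positions in the four transversals). -/
def orderWitness : List (ℕ × ℕ × ℕ × ℕ × ℕ) := [(1, 0, 0, 0, 0), (2, 0, 0, 2, 2), (3, 0, 0, 0, 1), (4, 0, 0, 1, 0), (5, 1, 1, 0, 0), (6, 0, 0, 2, 0), (7, 0, 1, 1, 2), (8, 0, 0, 1, 2), (10, 1, 1, 4, 0), (12, 0, 0, 3, 1), (15, 1, 1, 0, 1)]

end CfsgHJ
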