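/-
Cycle lengths of the four base points for every element up to conjugation by the point stabiliser.
-/
import Cfsg.Agent.Lib.HallJanko.ActCheck
import Cfsg.Agent.Lib.HallJanko.SpectrumData

set_option autoImplicit false

namespace CfsgHJ

def levAt (j : ℕ) : Level := chainData.getD j ⟨0, [], [], []⟩

def basePts : List ℕ := [0, 1, 2, 4]

/-- A point under the element with the given transversal positions. -/
def ev4 (a b c d i : ℕ) : ℕ := ap a (ap b (ap c (ap d i)))

/-- The first return time of `b`, at most the fuel. -/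
def retTime (f : ℕ → ℕ) (b : ℕ) : ℕ → ℕ → ℕ
  | 0, _ => 0
  | fuel + 1, x => if Nat.beq (f x) b then 1 else (retTime f b fuel (f x)).succ

def baseLcm (f : ℕ → ℕ) : ℕ :=
  Nat.lcm (Nat.lcm (retTime f 0 15 0) (retTime f 1 15 1)) (Nat.lcm (retTime f 2 15 2) (retTime f 4 15 4))

def allowed : List ℕ := [1, 2, 3, 4, 5, 6, 7, 8, 10, 12, 15]

/-- The returns are genuine and the resulting exponent is allowed. -/
def elemOK (f : ℕ → ℕ) : Bool :=
  allowed.any (fun n => Nat.beq n (baseLcm f)) &&
    basePts.all fun b => Nat.beq (Nat.repeat f (baseLcm f) b) b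

def cosetsOK (k0 : ℕ) (ks : List ℕ) : Bool :=
  ks.all fun k1 => (List.range 32).all fun k2 => (List.range 3).all fun k3 =>
    elemOK (ev4 ((levAt 0).tc k0) ((levAt 1).tc k1) ((levAt 2).tc k2) ((levAt 3).tc k3))

end CfsgHJ
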