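/-
Cycle lengths in the coset representative 1.
-/
import Cfsg.Agent.Lib.HallJanko.SpectrumCheck

set_option autoImplicit false

namespace CfsgHJ

theorem coset_check1 : cosetsOK (subReps.getD 1 0) (List.range 63) = true := by decide +kernel

end CfsgHJ
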