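/-
Numbers of minimal vectors and of reflections.
-/
import Cfsg.Agent.Lib.HallJanko.Simple

set_option autoImplicit false

namespace CfsgHJ

open Quaternion Cfsg.Spor Ico

theorem units_distinct : ((List.range 120).zip unitL).all (fun p => ((List.range 120).zip unitL).all fun q =>
    Nat.beq p.1 q.1 || !p.2.beq q.2) = true := by
  decide +kernel

attribute [local irreducible] smallL lines unitL repL bucketL shortTab lineAt

theorem unitL_nodup : unitL.Nodup := by
  rw [List.nodup_iff_injective_get]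
  rintro ⟨i, hi⟩ ⟨j, hj⟩ e
  simp only [List.get_eq_getElem] at e
  have hi' : i < 120 := by rwa [units_check.2.1] at hi
  have hj' : j < 120 := by rwa [units_check.2.1] at hj
  have mem : ∀ k (hk : k < unitL.length), (k, unitL[k]) ∈ (List.range 120).zip unitL := fun k hk =>
    List.mem_iff_getElem.mpr ⟨k, by simp [units_check.2.1] at hk ⊢; omega, by simp⟩
  have h := List.all_eq_true.mp (List.all_eq_true.mp units_distinct _ (mem i hi)) _ (mem j hj)
  simp only [Bool.or_eq_true, Bool.not_eq_true'] at h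
  rcases h with h | h
  · exact Fin.ext (Nat.eq_of_beq_eq_true h)
  · rw [e, Ico.beq_self] at h; simp at h

theorem minVectors_ncard :
    {r : Fin 3 → ℍ[ℝ] | r ∈ icoLeech ∧ qip r r = 4}.ncard = 37800 := by
  have hS : {r : Fin 3 → ℍ[ℝ] | r ∈ icoLeech ∧ qip r r = 4} =
      (fun p : {u // u ∈ unitL} × Fin 315 => phi3 (smulV p.1 (lineAt p.2))) '' Set.univ := by
    ext r
    simp only [Set.mem_setOf_eq, Set.image_univ, Set.mem_range]
    constructor
    · rintro ⟨hr, h4⟩
      obtain ⟨v, hv, rfl⟩ := exists_vec hr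
      obtain ⟨i, u, hu, e⟩ := exists_line (r := v) ⟨hv, qip_four_iff.mp h4⟩
      exact ⟨(⟨u, hu⟩, i), by rw [e]⟩
    · rintro ⟨⟨⟨u, hu⟩, i⟩, rfl⟩
      exact ⟨phi3_mem.mpr (inLam_smulV u (isMin_lineAt i).1),
        qip_four_iff.mpr (ipV_smul_unit (unit_inv hu).2 (isMin_lineAt i).2)⟩
  rw [hS, Set.ncard_image_of_injective, Set.ncard_univ, Nat.card_prod, Nat.card_fin,
    Nat.card_eq_fintype_card, Fintype.card_of_subtype unitL.toFinset (fun x => List.mem_toFinset),
    List.toFinset_card_of_nodup unitL_nodup, units_check.2.1]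
  rintro ⟨⟨u, hu⟩, i⟩ ⟨⟨v, hv⟩, j⟩ h
  have h' := phi3_inj h
  simp only at h'
  obtain rfl := line_eq hu hv rfl h'
  have huv : u = v := by
    have hl := isMin_lineAt i
    obtain ⟨t, ht⟩ : ∃ t, phi3 (lineAt i) t ≠ 0 := by
      by_contra h0
      push_neg at h0
      have h4 := qip_four_iff.mpr hl.2
      simp [qip, h0] at h4
      exact absurd (Ico.beq_iff.mpr (phi_inj ((phi_zero.trans h4).trans phi_four.symm))) (by decide +kernel)
    have e := congrFun (congrArg phi3 h') t
    simp only [phi3_smulV] at e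
    exact phi_inj (mul_right_cancel₀ ht e)
  subst huv; rfl

theorem lineRefl_inj : Function.Injective lineRefl := fun i j h =>
  rho_refl_inj (congrArg rho (Subtype.ext h : reflEl i = reflEl j))

theorem reflections_ncard : {f : Equiv.Perm ↥icoLeech | IsIcoReflection f}.ncard = 315 := by
  have hS : {f : Equiv.Perm ↥icoLeech | IsIcoReflection f} = lineRefl '' Set.univ := by
    ext f; simp [isRefl_iff_line, eq_comm]
  rw [hS, Set.ncard_image_of_injective _ lineRefl_inj, Set.ncard_univ, Nat.card_fin]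

theorem refl_conj {f f' : Equiv.Perm ↥icoLeech} (hf : IsIcoReflection f) (hf' : IsIcoReflection f') :
    ∃ g ∈ twoJ2, g * f * g⁻¹ = f' := by
  obtain ⟨i, rfl⟩ := isRefl_iff_line.mp hf
  obtain ⟨j, rfl⟩ := isRefl_iff_line.mp hf'
  obtain ⟨g, hg⟩ := exists_lineHom_eq i
  obtain ⟨k, hk⟩ := exists_lineHom_eq j
  refine ⟨(k * g⁻¹ : twoJ2), SetLike.coe_mem _, (conj_lineRefl _ i).trans ?_⟩
  rw [map_mul, Equiv.Perm.mul_apply, map_inv, ← hg, Equiv.Perm.inv_def, Equiv.symm_apply_apply, hk]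

theorem center_facts : ∃ z ∈ Subgroup.center ↥twoJ2, ∀ x : ↥icoLeech,
    (((z : Equiv.Perm ↥icoLeech) x : ↥icoLeech) : Fin 3 → ℍ[ℝ]) = -(x : Fin 3 → ℍ[ℝ]) :=
  ⟨negEl, center_iff.mpr (Or.inr rfl), negP_coe⟩

end CfsgHJ
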