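/-
Element orders in the symmetric group of degree 8, and extensions of 2-modules by the alternating group of
degree 8 with the same element orders.
-/
import Mathlib

set_option autoImplicit false

namespace CfsgHJ

open Equiv

def eightOrders : List ℕ := [1, 2, 3, 4, 5, 6, 7, 8, 10, 12, 15]

/-- Nonincreasing lists of positive numbers with sum `n` and entries at most `k`. -/
def descLists : ℕ → ℕ → ℕ → List (List ℕ)
  | 0, n, _ => if n = 0 then [[]] else []
  | fuel + 1, n, k => if n = 0 then [[]] else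
      (List.range (min n k)).flatMap fun a => (descLists fuel (n - (a + 1)) (a + 1)).map ((a + 1) :: ·)

theorem mem_descLists : ∀ (fuel : ℕ) (l : List ℕ) (k : ℕ), l.Pairwise (· ≥ ·) → (∀ a ∈ l, 0 < a ∧ a ≤ k) →
    l.sum ≤ fuel → l ∈ descLists fuel l.sum k := by
  intro fuel
  induction fuel with
  | zero =>
    intro l k _ hpos hs
    match l, hpos, hs with
    | [], _, _ => simp [descLists]
    | a :: l, hpos, hs => have := (hpos a (List.mem_cons_self ..)).1; simp only [List.sum_cons] at hs; omega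
  | succ n ih =>
    intro l k hp hpos hs
    match l, hp, hpos, hs with
    | [], _, _, _ => simp [descLists]
    | a :: l, hp, hpos, hs =>
      have ha := hpos a (List.mem_cons_self ..)
      rw [List.pairwise_cons] at hp
      simp only [List.sum_cons] at hs ⊢
      rw [descLists, if_neg (by omega), List.mem_flatMap]
      refine ⟨a - 1, List.mem_range.mpr (by omega), List.mem_map.mpr ⟨l, ?_, by rw [Nat.sub_add_cancel ha.1]⟩⟩
      rw [show a + l.sum - (a - 1 + 1) = l.sum by omega, Nat.sub_add_cancel ha.1]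
      exact ih l a hp.2 (fun b hb => ⟨(hpos b (List.mem_cons_of_mem _ hb)).1, hp.1 b hb⟩) (by omega)

def sortedOK (l : List ℕ) : Bool :=
  let m := l.foldr Nat.lcm 1
  eightOrders.contains m && (!Nat.beq (l.length % 2) 0 || ([1, 2, 3, 4, 5, 6, 7, 15].contains m &&
    (!Nat.beq m 7 || l == [7, 1]) && (!Nat.beq m 15 || l == [5, 3])))

theorem sorted_check : (descLists 8 8 8).all sortedOK = true := by decide +kernel

theorem partition_eight (m : Multiset ℕ) (hsum : m.sum = 8) (hpos : ∀ a ∈ m, 0 < a) :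
    m.lcm ∈ eightOrders ∧ (2 ∣ Multiset.card m → m.lcm ∈ [1, 2, 3, 4, 5, 6, 7, 15] ∧
      (m.lcm = 7 → m = ({7, 1} : Multiset ℕ)) ∧ (m.lcm = 15 → m = ({5, 3} : Multiset ℕ))) := by
  set l := m.sort (· ≥ ·)
  have hl : (↑l : Multiset ℕ) = m := Multiset.sort_eq m _
  have hls : l.sum = 8 := by rw [← Multiset.sum_coe, hl, hsum]
  have hmem : l ∈ descLists 8 8 8 := by
    have := mem_descLists 8 l 8 (Multiset.pairwise_sort m _) (fun a ha => by
      have ha' : a ∈ m := hl ▸ Multiset.mem_coe.mpr ha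
      exact ⟨hpos a ha', hsum ▸ Multiset.le_sum_of_mem ha'⟩) hls.le
    rwa [hls] at this
  have h := List.all_eq_true.mp sorted_check l hmem
  have hlcm : l.foldr Nat.lcm 1 = m.lcm := by rw [← hl]; rfl
  simp only [sortedOK, hlcm, Bool.and_eq_true, Bool.or_eq_true, Bool.not_eq_true', List.contains_iff_mem,
    beq_iff_eq] at h
  refine ⟨h.1, fun he => ?_⟩
  have hlen : l.length % 2 = 0 := by
    have : l.length = Multiset.card m := by rw [← hl]; rfl
    omega
  have h2 := h.2.resolve_left (by rw [hlen]; decide)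
  refine ⟨h2.1.1, fun e => ?_, fun e => ?_⟩
  · rw [← hl, h2.1.2.resolve_left (by rw [e]; decide)]; rfl
  · rw [← hl, h2.2.resolve_left (by rw [e]; decide)]; rfl

theorem perm_parts_spec (g : Perm (Fin 8)) :
    g.partition.parts.sum = 8 ∧ ∀ a ∈ g.partition.parts, 0 < a :=
  ⟨g.partition.parts_sum.trans (Fintype.card_fin 8), fun _ h => g.partition.parts_pos h⟩

theorem orderOf_eq_parts (g : Perm (Fin 8)) : orderOf g = g.partition.parts.lcm := by
  rw [Perm.parts_partition, Multiset.lcm_add, Perm.lcm_cycleType]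
  have h : ∀ k, (Multiset.replicate k 1).lcm = 1 := by
    intro k
    induction k with
    | zero => rfl
    | succ k ih => simp [Multiset.replicate_succ, ih]
  rw [h, lcm_one_right, normalize_eq]

def witEight : List (Perm (Fin 8)) :=
  [1, c[0, 1], c[0, 1, 2], c[0, 1, 2, 3], c[0, 1, 2, 3, 4], c[0, 1, 2, 3, 4, 5], c[0, 1, 2, 3, 4, 5, 6],
    c[0, 1, 2, 3, 4, 5, 6, 7], c[0, 1, 2, 3, 4] * c[5, 6], c[0, 1, 2, 3] * c[4, 5, 6], c[0, 1, 2, 3, 4] * c[5, 6, 7]]

theorem witEight_spec : ∀ n ∈ eightOrders, ∃ g ∈ witEight, g ^ n = 1 ∧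
    ∀ m < n, m = 0 ∨ ∃ i, (g ^ m) i ≠ i := by
  decide +kernel

theorem orderOf_witness {G : Type*} [Monoid G] {g : G} {n : ℕ} (hn : 0 < n) (h : g ^ n = 1)
    (hm : ∀ m < n, m = 0 ∨ g ^ m ≠ 1) : orderOf g = n :=
  (orderOf_eq_iff hn).mpr ⟨h, fun m h1 h2 => (hm m h1).resolve_left (by omega)⟩

theorem range_orderOf_eight : Set.range (orderOf : Perm (Fin 8) → ℕ) = {n | n ∈ eightOrders} := by
  ext n
  simp only [Set.mem_range, Set.mem_ofPred_eq]
  constructor
  · rintro ⟨g, rfl⟩
    rw [orderOf_eq_parts]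
    exact (partition_eight _ (perm_parts_spec g).1 (perm_parts_spec g).2).1
  · intro hn
    obtain ⟨g, -, h1, h2⟩ := witEight_spec n hn
    have hpos : 0 < n := (show ∀ k ∈ eightOrders, 0 < k by decide) n hn
    exact ⟨g, orderOf_witness hpos h1 fun m hm => (h2 m hm).imp id fun ⟨i, hi⟩ e => hi (by rw [e]; rfl)⟩

/-- The six-dimensional module: differences of even functions on 8 points. -/
def diff6 (f : Fin 8 → ZMod 2) : Fin 8 × Fin 8 → ZMod 2 := fun p => f p.1 + f p.2

def V6 : AddSubgroup (Fin 8 × Fin 8 → ZMod 2) where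
  carrier := {w | ∃ f : Fin 8 → ZMod 2, (∑ i, f i) = 0 ∧ diff6 f = w}
  zero_mem' := ⟨0, by simp, by funext p; simp [diff6]⟩
  add_mem' := by
    rintro _ _ ⟨f, hf, rfl⟩ ⟨g, hg, rfl⟩
    exact ⟨f + g, by simp [Finset.sum_add_distrib, hf, hg], by funext p; simp [diff6]; abel⟩
  neg_mem' := by
    rintro _ ⟨f, hf, rfl⟩
    exact ⟨-f, by simp [Finset.sum_neg_distrib, hf], by funext p; simp [diff6]; abel⟩

/-- The twisting of pairs by a permutation. -/
def movePair (g : Perm (Fin 8)) (w : Fin 8 × Fin 8 → ZMod 2) : Fin 8 × Fin 8 → ZMod 2 :=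
  fun p => w (g⁻¹ p.1, g⁻¹ p.2)

theorem movePair_diff6 (g : Perm (Fin 8)) (f : Fin 8 → ZMod 2) :
    movePair g (diff6 f) = diff6 fun i => f (g⁻¹ i) := rfl

theorem movePair_mem (g : Perm (Fin 8)) {w : Fin 8 × Fin 8 → ZMod 2} (hw : w ∈ V6) : movePair g w ∈ V6 := by
  obtain ⟨f, hf, rfl⟩ := hw
  exact ⟨fun i => f (g⁻¹ i), by rw [Equiv.sum_comp g⁻¹ f]; exact hf, rfl⟩

abbrev VN (N : ℕ) : Type := Multiplicative (Fin N → V6)

noncomputable def moveVN (N : ℕ) : alternatingGroup (Fin 8) →* MulAut (VN N) where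
  toFun g := AddEquiv.toMultiplicative
    { toFun := fun v k => ⟨movePair g (v k), movePair_mem g (v k).2⟩
      invFun := fun v k => ⟨movePair (g⁻¹ : alternatingGroup (Fin 8)) (v k), movePair_mem _ (v k).2⟩
      left_inv := fun v => funext fun k => Subtype.ext (funext fun p => by simp [movePair])
      right_inv := fun v => funext fun k => Subtype.ext (funext fun p => by simp [movePair])
      map_add' := fun v w => funext fun k => Subtype.ext (funext fun p => by simp [movePair]) }
  map_one' := MulEquiv.ext fun v => funext fun k => Subtype.ext (funext fun p => by simp [movePair]; rfl)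
  map_mul' g h := MulEquiv.ext fun v => funext fun k => Subtype.ext (funext fun p => by simp [movePair]; rfl)

abbrev Ext8 (N : ℕ) : Type := VN N ⋊[moveVN N] alternatingGroup (Fin 8)

theorem fixed_seven : ∀ f : Fin 8 → ZMod 2,
    (∀ i, f ((c[0, 1, 2, 3, 4, 5, 6] : Perm (Fin 8)) i) = f i) → (∑ i, f i) = 0 → ∀ i j, f i = f j := by
  decide +kernel

theorem fixed_fifteen : ∀ f : Fin 8 → ZMod 2,
    (∀ i, f ((c[0, 1, 2, 3, 4] * c[5, 6, 7] : Perm (Fin 8)) i) = f i) → (∑ i, f i) = 0 → ∀ i j, f i = f j := by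
  decide +kernel

theorem rep_parts : (c[0, 1, 2, 3, 4, 5, 6] : Perm (Fin 8)).partition.parts = ({7, 1} : Multiset ℕ) ∧
    (c[0, 1, 2, 3, 4] * c[5, 6, 7] : Perm (Fin 8)).partition.parts = ({5, 3} : Multiset ℕ) := by
  decide +kernel

theorem alt_order (g : alternatingGroup (Fin 8)) :
    orderOf g ∈ [1, 2, 3, 4, 5, 6, 7, 15] ∧ (orderOf g = 7 ∨ orderOf g = 15 →
      ∀ f : Fin 8 → ZMod 2, (∀ i, f ((g : Perm (Fin 8)) i) = f i) → (∑ i, f i) = 0 → ∀ i j, f i = f j) := by
  set x := (g : Perm (Fin 8))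
  have hp := (partition_eight _ (perm_parts_spec x).1 (perm_parts_spec x).2).2
  rw [← orderOf_eq_parts] at hp
  have hsum : x.cycleType.sum ≤ 8 := by
    rw [Perm.sum_cycleType]; exact (Finset.card_le_univ _).trans (by simp)
  have heven : 2 ∣ Multiset.card x.partition.parts := by
    have hs : Perm.sign x = 1 := g.2
    rw [Perm.sign_of_cycleType, Units.ext_iff] at hs
    simp only [Units.val_pow_eq_pow_val, Units.val_neg, Units.val_one, neg_one_pow_eq_one_iff_even (R := ℤ) (by norm_num)] at hs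
    have hs' : 2 ∣ x.cycleType.sum + Multiset.card x.cycleType := even_iff_two_dvd.mp hs
    rw [Perm.parts_partition, Multiset.card_add, Multiset.card_replicate, Fintype.card_fin, ← Perm.sum_cycleType]
    omega
  obtain ⟨h1, h7, h15⟩ := hp heven
  rw [← Subgroup.orderOf_coe]
  refine ⟨h1, fun ho f hf hs i j => ?_⟩
  obtain ⟨r, hr, hfix⟩ : ∃ r : Perm (Fin 8), r.partition.parts = x.partition.parts ∧
      ∀ f : Fin 8 → ZMod 2, (∀ i, f (r i) = f i) → (∑ i, f i) = 0 → ∀ i j, f i = f j := by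
    rcases ho with h | h
    · exact ⟨_, rep_parts.1.trans (h7 h).symm, fixed_seven⟩
    · exact ⟨_, rep_parts.2.trans (h15 h).symm, fixed_fifteen⟩
  obtain ⟨t, ht⟩ := isConj_iff.mp (Perm.partition_eq_of_isConj.mpr (Nat.Partition.ext hr))
  have h' := hfix (fun k => f (t k)) (fun k => by
    have e : x (t k) = t (r k) := by rw [← ht]; simp
    show f (t (r k)) = f (t k)
    rw [← e, hf]) (by rw [Equiv.sum_comp t f]; exact hs) (t⁻¹ i) (t⁻¹ j)
  simpa using h'

theorem diff6_const {f : Fin 8 → ZMod 2} (h : ∀ i j, f i = f j) : diff6 f = 0 :=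
  funext fun p => by
    simp only [diff6, Pi.zero_apply, h p.1 p.2]
    exact CharTwo.add_self_eq_zero _

theorem two_torsion {N : ℕ} (v : VN N) : v ^ 2 = 1 :=
  funext fun _ => Subtype.ext (funext fun _ => by
    show 2 • _ = (0 : ZMod 2)
    rw [two_nsmul]; exact CharTwo.add_self_eq_zero _)

theorem order_split {N : ℕ} (x : Ext8 N) : orderOf x = orderOf x.right ∨ orderOf x = 2 * orderOf x.right := by
  obtain ⟨e, he⟩ : orderOf x.right ∣ orderOf x := orderOf_map_dvd SemidirectProduct.rightHom x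
  have h2 : x ^ (orderOf x.right * 2) = 1 := by
    have hr : (x ^ orderOf x.right).right = 1 := by
      rw [← SemidirectProduct.rightHom_eq_right, map_pow]; exact pow_orderOf_eq_one _
    have hx : x ^ orderOf x.right = SemidirectProduct.inl (x ^ orderOf x.right).left := by
      ext <;> simp [hr]
    rw [pow_mul, hx, ← map_pow, two_torsion, map_one]
  have hd := orderOf_dvd_of_pow_eq_one h2
  rw [he] at hd
  have he2 : e ∣ 2 := Nat.dvd_of_mul_dvd_mul_left (orderOf_pos x.right) hd
  rcases (Nat.dvd_prime Nat.prime_two).mp he2 with rfl | rfl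
  · left; rw [he, mul_one]
  · right; rw [he, mul_comm]

theorem order_not_doubled {N : ℕ} (x : Ext8 N) (h : orderOf x.right = 7 ∨ orderOf x.right = 15) :
    orderOf x = orderOf x.right := by
  refine Nat.dvd_antisymm (orderOf_dvd_of_pow_eq_one ?_) (orderOf_map_dvd SemidirectProduct.rightHom x)
  set n := orderOf x.right
  have hodd : n % 2 = 1 := by omega
  set y := x ^ n
  have hy : y.right = 1 := by
    show (x ^ n).right = 1
    rw [← SemidirectProduct.rightHom_eq_right, map_pow]; exact pow_orderOf_eq_one _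
  have hfixv : moveVN N x.right y.left = y.left := by
    have e : x * y = y * x := (Commute.self_pow x n).eq
    have e' := congrArg SemidirectProduct.left e
    rw [SemidirectProduct.mul_left, SemidirectProduct.mul_left, hy, map_one, MulAut.one_apply, mul_comm] at e'
    exact mul_right_cancel e'
  have hz : y.left = 1 := by
    funext k
    obtain ⟨f, hf, hfe⟩ := (y.left k).2
    have e := congrArg (fun v : VN N => ((v k : V6) : Fin 8 × Fin 8 → ZMod 2)) hfixv
    change movePair x.right (y.left k : Fin 8 × Fin 8 → ZMod 2) = (y.left k : Fin 8 × Fin 8 → ZMod 2) at e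
    rw [← hfe, movePair_diff6] at e
    set g := ((x.right : alternatingGroup (Fin 8)) : Perm (Fin 8))
    set c := f (g⁻¹ 0) + f 0
    have hc : ∀ i, f (g⁻¹ i) = f i + c := fun i => by
      have := congrFun e (i, 0)
      simp only [diff6] at this
      have h2 : ∀ a b p q : ZMod 2, a + b = p + q → a = p + (b + q) := by decide
      exact h2 _ _ _ _ this
    have hit : ∀ (m : ℕ) (i : Fin 8), f ((g⁻¹ ^ m) i) = f i + (m : ZMod 2) * c := by
      intro m
      induction m with
      | zero => simp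
      | succ m ih => intro i; rw [pow_succ, Perm.mul_apply, ih, hc]; push_cast; ring
    have hc0 : c = 0 := by
      have := hit n 0
      rw [inv_pow, show g ^ n = 1 from by
        rw [← Subgroup.coe_pow, pow_orderOf_eq_one]; rfl, inv_one, Perm.one_apply,
        show (n : ZMod 2) = 1 from by rw [← ZMod.natCast_mod, hodd, Nat.cast_one], one_mul] at this
      simpa using this
    have hinv : ∀ i, f (g i) = f i := fun i => by
      have := hc (g i)
      rw [hc0, add_zero, Perm.inv_def, Equiv.symm_apply_apply] at this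
      exact this.symm
    exact Subtype.ext (hfe.symm.trans ((diff6_const ((alt_order x.right).2 h f hinv hf)).trans rfl))
  show y = 1
  ext <;> simp [hy, hz]

def altWit : List (Perm (Fin 8) × List (ZMod 2) × ℕ) :=
  [(1, [], 1), (c[0, 1] * c[2, 3], [], 2), (c[0, 1, 2], [], 3), (c[0, 1, 2, 3] * c[4, 5], [], 4),
    (c[0, 1, 2, 3, 4], [], 5), (c[0, 1, 2] * c[3, 4] * c[5, 6], [], 6), (c[0, 1, 2, 3, 4, 5, 6], [], 7),
    (c[0, 1, 2, 3, 4] * c[5, 6, 7], [], 15), (c[0, 1, 2, 3] * c[4, 5], [1, 0, 0, 0, 0, 0, 1, 0], 8),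
    (c[0, 1, 2, 3, 4], [0, 0, 0, 0, 0, 1, 1, 0], 10), (c[0, 1, 2] * c[3, 4] * c[5, 6], [0, 0, 0, 1, 0, 0, 0, 1], 12)]

def fnOf (l : List (ZMod 2)) : Fin 8 → ZMod 2 := fun i => l.getD i 0

/-- Partial sums of the orbit of `f`. -/
def orbSum (g : Perm (Fin 8)) (f : Fin 8 → ZMod 2) : ℕ → Fin 8 → ZMod 2
  | 0 => fun _ => 0
  | m + 1 => fun i => f i + orbSum g f m (g⁻¹ i)

theorem altWit_spec : (∀ w ∈ altWit, Perm.sign w.1 = 1 ∧ (∑ i, fnOf w.2.1 i) = 0 ∧ 0 < w.2.2 ∧
    w.1 ^ w.2.2 = 1 ∧ (∀ p, diff6 (orbSum w.1 (fnOf w.2.1) w.2.2) p = 0) ∧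
    ∀ m < w.2.2, m = 0 ∨ (∃ i, (w.1 ^ m) i ≠ i) ∨ ∃ p, diff6 (orbSum w.1 (fnOf w.2.1) m) p ≠ 0) ∧
    ∀ n ∈ eightOrders, ∃ w ∈ altWit, w.2.2 = n := by
  decide +kernel

theorem eight_orders_split :
    (∀ o ∈ [1, 2, 3, 4, 5, 6, 7, 15], o ∈ eightOrders) ∧ ∀ o ∈ [1, 2, 3, 4, 5, 6], 2 * o ∈ eightOrders := by
  decide

theorem range_orderOf_ext (N : ℕ) : Set.range (orderOf : Ext8 (N + 1) → ℕ) = {n | n ∈ eightOrders} := by
  ext n
  simp only [Set.mem_range, Set.mem_ofPred_eq]
  constructor
  · rintro ⟨x, rfl⟩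
    have h := (alt_order x.right).1
    by_cases hbig : orderOf x.right = 7 ∨ orderOf x.right = 15
    · rw [order_not_doubled x hbig]; exact eight_orders_split.1 _ h
    · rcases order_split x with e | e
      · rw [e]; exact eight_orders_split.1 _ h
      · rw [e]
        refine eight_orders_split.2 _ ?_
        simp only [List.mem_cons, List.not_mem_nil, or_false] at h ⊢
        omega
  · intro hn
    obtain ⟨w, hw, rfl⟩ := altWit_spec.2 n hn
    obtain ⟨hs, hf, hpos, hg, hzero, hmin⟩ := altWit_spec.1 w hw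
    let v : VN (N + 1) := Multiplicative.ofAdd fun _ => ⟨diff6 (fnOf w.2.1), _, hf, rfl⟩
    let x : Ext8 (N + 1) := ⟨v, ⟨w.1, hs⟩⟩
    have hpow : ∀ m, ((x ^ m).right : Perm (Fin 8)) = w.1 ^ m ∧
        ∀ k, (((x ^ m).left k : V6) : Fin 8 × Fin 8 → ZMod 2) = diff6 (orbSum w.1 (fnOf w.2.1) m) := by
      intro m
      induction m with
      | zero =>
        refine ⟨rfl, fun k => ?_⟩
        funext p; simp [diff6, orbSum]; rfl
      | succ m ih =>
        refine ⟨?_, fun k => ?_⟩
        · rw [pow_succ', SemidirectProduct.mul_right, Subgroup.coe_mul, ih.1, pow_succ']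
        · rw [pow_succ', SemidirectProduct.mul_left]
          refine (congrArg (fun t => diff6 (fnOf w.2.1) + movePair w.1 t) (ih.2 k)).trans ?_
          rw [movePair_diff6]
          funext p; simp [diff6, orbSum]; abel
    refine ⟨x, orderOf_witness hpos ?_ fun m hm => ?_⟩
    · refine SemidirectProduct.ext (funext fun k => Subtype.ext ?_) (Subtype.ext ((hpow _).1.trans hg))
      rw [(hpow _).2 k]; exact funext hzero
    · refine (hmin m hm).imp id fun h e => ?_
      rcases h with ⟨i, hi⟩ | ⟨p, hp⟩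
      · apply hi; rw [← (hpow m).1, e]; rfl
      · apply hp; rw [← (hpow m).2 ⟨0, Nat.succ_pos N⟩, e]; rfl

theorem card_ext_gt (N : ℕ) [Fintype (Ext8 (N + 1))] : N < Fintype.card (Ext8 (N + 1)) := by
  have hne : diff6 (fnOf [1, 1]) ≠ 0 := fun h => by
    have := congrFun h (0, 2)
    revert this; decide
  let w : V6 := ⟨diff6 (fnOf [1, 1]), _, by decide, rfl⟩
  have hw : w ≠ 0 := fun h => hne (congrArg Subtype.val h)
  classical
  let f : Fin (N + 1) → Ext8 (N + 1) := fun a => SemidirectProduct.inl (Multiplicative.ofAdd (Pi.single a w))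
  have hf : Function.Injective f := fun a b h => by
    by_contra hab
    have h' := congrFun (Multiplicative.ofAdd.injective (SemidirectProduct.inl_injective h)) a
    rw [Pi.single_eq_same, Pi.single_eq_of_ne hab] at h'
    exact hw h'
  have := Fintype.card_le_of_injective f hf
  rw [Fintype.card_fin] at this
  omega

end CfsgHJ
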