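/-
The 2-fusion system of the Hall–Janko group is simple.
-/
import Cfsg.Agent.Lib.HallJanko.ReflCent
import Cfsg.Agent.Lib.HallJanko.SylData
import Cfsg.Agent.Lib.Fusion.GroupSimple
import Cfsg.Agent.Lib.Elementary

set_option autoImplicit false

namespace CfsgHJ

open Equiv

/-! ### The checks -/

def isPermC (c : ℕ) : Bool :=
  (List.range 100).all fun i => Nat.blt (ap c i) 100 &&
    (List.range 100).any fun j => Nat.beq (ap c j) i

theorem sy_perm : ((syGens ++ syCore ++ syTwo).all isPermC) = true := by decide +kernel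

theorem sy_chains : chainOK 100 chainSy syGens = true ∧ sizeOfChain chainSy = 128 ∧
    chainOK 100 chainCore syCore = true ∧ sizeOfChain chainCore = 32 ∧
    chainOK 100 chainTwo syTwo = true ∧ sizeOfChain chainTwo = 1920 := by decide +kernel

theorem sy_inG : ((syGens ++ syCore ++ syTwo).all fun c => sift 100 chainData c) = true ∧
    (syCore.all fun c => sift 100 chainSy c) = true ∧ sift 100 chainSy (rCode baseLine) = true ∧
    (syTwo.all fun c => (List.range 100).all fun i =>
      Nat.beq (Nat.repeat (ap c) 8 i) i &&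
      Nat.beq (ap c (ap (rCode baseLine) i)) (ap (rCode baseLine) (ap c i))) = true ∧
    (syGens.all fun c => sift 100 chainTwo c) = true := by
  decide +kernel

def invIn (l : List ℕ) (c : ℕ) : ℕ := pk (fun i => ((List.range 100).findIdx fun j => Nat.beq (ap c j) i) % 128) l.length

theorem sy_norm : ((syGens ++ syTwo).all fun u => syCore.all fun c =>
    sift 100 chainCore (cp 100 u (cp 100 c (invIn (List.range 100) u))) &&
      isPerm 100 u (invIn (List.range 100) u)) = true := by
  decide +kernel

theorem sy_list : (List.range 128).all (fun k =>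
    isPermC (syList.getD k 0) && sift 100 chainSy (syList.getD k 0) &&
    ((List.range k).all fun l => (List.range 100).any fun i =>
      !Nat.beq (ap (syList.getD l 0) i) (ap (syList.getD k 0) i)) &&
    (Nat.blt k 2 || syCore.any fun c => (List.range 100).any fun i =>
      !Nat.beq (ap (syList.getD k 0) (ap c i)) (ap c (ap (syList.getD k 0) i)))) = true ∧
    (List.range 100).all (fun i => Nat.beq (ap (syList.getD 0 0) i) i &&
      Nat.beq (ap (syList.getD 1 0) i) (ap (rCode baseLine) i)) = true := by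
  decide +kernel

def stepOK (x g y : ℕ) : Bool :=
  isPermC g && sift 100 chainData g && sift 100 chainSy y &&
    (List.range 100).all fun i => Nat.beq (ap g (ap x i)) (ap y (ap g i))

theorem sy_steps : (syStepsA.all fun s => stepOK s.1 s.2.1 s.2.2 &&
      (List.range 100).all fun i => Nat.beq (ap s.1 i) (ap (rCode baseLine) i)) = true ∧
    (syStepsB.all fun s => stepOK s.1 s.2.1 s.2.2 && isPermC s.1 && sift 100 chainCore s.1) = true ∧
    syStepsA.map (fun s => s.2.2) = syCore ∧ syStepsB.map (fun s => s.2.2) = syGens := by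
  decide +kernel

theorem zCore : sift 100 chainCore (rCode baseLine) = true := by decide +kernel

attribute [local irreducible] syGens syCore syTwo chainSy chainCore chainTwo syList syStepsA
  syStepsB rCode chainData invIn

theorem valid_of_isPermC {l : List ℕ} (h : l.all isPermC = true) : Valid 100 l := valid_of_isPermList h

theorem exists_of_isPermC {c : ℕ} (h : isPermC c = true) : ∃ p, Rep 100 c p :=
  valid_of_isPermC (l := [c]) (by simpa using h) c (by simp)

theorem orderOf_two_pow_of_pow_eight {M : Type*} [Monoid M] {x : M} (h : x ^ 8 = 1) :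
    ∃ k, orderOf x = 2 ^ k := by
  obtain ⟨k, -, hk⟩ := (Nat.dvd_prime_pow Nat.prime_two).mp
    (orderOf_dvd_of_pow_eq_one (n := 2 ^ 3) (by norm_num; exact h))
  exact ⟨k, hk⟩

theorem repeat_rep {c : ℕ} {p : Perm (Fin 100)} (hp : Rep 100 c p) :
    ∀ (m : ℕ) (i : Fin 100), Nat.repeat (ap c) m i = ((p ^ m) i : ℕ) := by
  intro m
  induction m with
  | zero => intro i; rfl
  | succ m ih =>
    intro i
    show ap c (Nat.repeat (ap c) m i) = _
    rw [ih, hp, pow_succ', Perm.mul_apply]

theorem fusion_isSimple {G : Type*} [Group G] [Finite G] (hG : Cfsg.Spor.IsoJ2 G) (S : Sylow 2 G) :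
    (Cfsg.groupFusionSystem (S : Subgroup G)).IsSimple 2 := by
  classical
  obtain ⟨e⟩ := hG
  haveI : Fact (Nat.Prime 2) := ⟨Nat.prime_two⟩
  let φ : G →* Perm (Fin 100) := hjGroup.subtype.comp (e.trans hjEquiv).toMonoidHom
  have φinj : Function.Injective φ := Subtype.val_injective.comp (e.trans hjEquiv).injective
  have φrange : ∀ p ∈ hjGroup, ∃ g, φ g = p := fun p hp =>
    ⟨(e.trans hjEquiv).symm ⟨p, hp⟩, by simp [φ]⟩
  have hcardG : Nat.card G = 604800 := (Nat.card_congr e.toEquiv).trans card_J2
  -- subgroups given by codes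
  have hperm := sy_perm
  simp only [List.all_append, Bool.and_eq_true] at hperm
  obtain ⟨⟨vS, vC⟩, vT⟩ := hperm
  obtain ⟨hS, hSsize, hC, hCsize, hT, hTsize⟩ := sy_chains
  have sS := chain_sound (by norm_num) hS (valid_of_isPermC vS)
  have sC := chain_sound (by norm_num) hC (valid_of_isPermC vC)
  have sT := chain_sound (by norm_num) hT (valid_of_isPermC vT)
  obtain ⟨hin, hCS, hzS, hT8, hST⟩ := sy_inG
  simp only [List.all_append, Bool.and_eq_true, List.all_eq_true] at hin
  have le_range : ∀ l : List ℕ, (∀ c ∈ l, sift 100 chainData c = true) →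
      genG 100 l ≤ φ.range := by
    intro l hl
    rw [genG, Subgroup.closure_le]
    rintro p ⟨c, hc, hp⟩
    exact φrange p (((chain_sound (by norm_num) chain_check valid_gens).mem_iff _ _ hp).mp (hl c hc))
  let U : Subgroup G := (genG 100 syGens).comap φ
  let Q : Subgroup G := (genG 100 syCore).comap φ
  let T2 : Subgroup G := (genG 100 syTwo).comap φ
  have cardOf : ∀ l : List ℕ, (∀ c ∈ l, sift 100 chainData c = true) →
      Nat.card ↥((genG 100 l).comap φ) = Nat.card (genG 100 l) := by
    intro l hl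
    rw [Nat.card_congr (((genG 100 l).comap φ).equivMapOfInjective φ φinj).toEquiv,
      Subgroup.map_comap_eq_self (le_range l hl)]
  have cardU : Nat.card U = 128 := by rw [cardOf _ hin.1.1, sS.card, hSsize]
  have cardT : Nat.card T2 = 1920 := by rw [cardOf _ hin.2, sT.card, hTsize]
  -- the reflection
  obtain ⟨z, hz⟩ := φrange (rho (reflEl base0)) (rho_mem _)
  have hzrep : Rep 100 (rCode baseLine) (φ z) := hz ▸ rep_refl base0
  have hzU : z ∈ U := (sS.mem_iff _ _ hzrep).mp hzS
  have hez : e z = (QuotientGroup.mk (reflEl base0) : Cfsg.Spor.J2) := hjEquiv.injective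
    (Subtype.ext (by rw [hjEquiv_mk, ← hz]; rfl))
  let Cz : Subgroup G := Subgroup.centralizer {z}
  have cardC : Nat.card Cz = 1920 := by
    have hmap : Cz.map e.toMonoidHom = Subgroup.centralizer {e z} := by
      ext x
      rw [Subgroup.mem_map_equiv, Subgroup.mem_centralizer_singleton_iff,
        Subgroup.mem_centralizer_singleton_iff]
      constructor <;> intro h
      · simpa using congrArg e h
      · simpa using congrArg e.symm h
    rw [Nat.card_congr (Cz.equivMapOfInjective e.toMonoidHom e.injective).toEquiv, hmap, hez]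
    obtain ⟨π, hπ, h32, -⟩ := refl_centralizer _
      (isRefl_iff.mpr ⟨_, isMin_lineAt base0, rfl⟩ :
        Cfsg.Spor.IsIcoReflection ((reflEl base0 : Cfsg.Spor.twoJ2) : Perm ↥Cfsg.Spor.icoLeech))
      (reflEl base0).2
    rw [← π.ker.card_mul_index, Subgroup.index_ker, MonoidHom.range_eq_top.mpr hπ, Subgroup.card_top,
      h32, nat_card_alternatingGroup, Nat.card_fin]
    decide
  -- the core is normalised
  have hQnorm : ∀ l : List ℕ, (∀ c ∈ l, c ∈ syGens ++ syTwo) → (∀ c ∈ l, sift 100 chainData c = true) →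
      (genG 100 l).comap φ ≤ Subgroup.normalizer (Q : Set G) := by
    intro l hl hl'
    have hN : genG 100 l ≤ Subgroup.normalizer (genG 100 syCore : Set (Perm (Fin 100))) := by
      rw [genG, Subgroup.closure_le]
      rintro p ⟨c, hc, hp⟩
      have hsub : ∀ q ∈ genG 100 syCore, p * q * p⁻¹ ∈ genG 100 syCore := by
        have hle : genG 100 syCore ≤ (genG 100 syCore).comap (MulAut.conj p).toMonoidHom := by
          refine (Subgroup.closure_le _).mpr ?_
          rintro q ⟨d, hd, hq⟩
          have h := List.all_eq_true.mp (List.all_eq_true.mp sy_norm c (hl c hc)) d hd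
          simp only [Bool.and_eq_true] at h
          show p * q * p⁻¹ ∈ genG 100 syCore
          rw [mul_assoc]
          exact (sC.mem_iff _ _ (hp.comp (hq.comp (rep_inv (by norm_num) hp h.2)))).mp h.1
        exact fun q hq => hle hq
      refine Subgroup.mem_normalizer_iff.mpr fun x => ⟨hsub x, fun hx => ?_⟩
      have hbij : Set.BijOn (fun q => p * q * p⁻¹) (genG 100 syCore : Set (Perm (Fin 100)))
          (genG 100 syCore) := ((Set.toFinite _).injOn_iff_bijOn_of_mapsTo
            fun q hq => hsub q hq).mp (MulAut.conj p).injective.injOn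
      obtain ⟨y, hy, he⟩ := hbij.surjOn hx
      exact (MulAut.conj p).injective he ▸ hy
    intro g hg
    refine Subgroup.mem_normalizer_iff.mpr fun x => ?_
    show φ x ∈ genG 100 syCore ↔ φ (g * x * g⁻¹) ∈ genG 100 syCore
    rw [map_mul, map_mul, map_inv]
    exact Subgroup.mem_normalizer_iff.mp (hN hg) (φ x)
  have hUN : U ≤ Subgroup.normalizer (Q : Set G) :=
    hQnorm _ (fun c hc => List.mem_append_left _ hc) hin.1.1
  have hTN : T2 ≤ Subgroup.normalizer (Q : Set G) :=
    hQnorm _ (fun c hc => List.mem_append_right _ hc) hin.2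
  have hQU : Q ≤ U := by
    refine Subgroup.comap_mono ?_
    rw [genG, Subgroup.closure_le]
    rintro p ⟨c, hc, hp⟩
    exact (sS.mem_iff _ _ hp).mp (List.all_eq_true.mp hCS c hc)
  -- the elements of `U` centralising the core
  obtain ⟨hlist, hl01⟩ := sy_list
  simp only [List.all_eq_true, List.mem_range, Bool.and_eq_true] at hlist hl01
  have hel : ∀ k : Fin 128, ∃ u : U, Rep 100 (syList.getD k 0) (φ u) := fun k => by
    obtain ⟨⟨⟨hp, hs⟩, -⟩, -⟩ := hlist k k.2
    obtain ⟨p, hp'⟩ := exists_of_isPermC hp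
    have hpS := (sS.mem_iff _ _ hp').mp hs
    obtain ⟨g, rfl⟩ := le_range _ hin.1.1 hpS
    exact ⟨⟨g, hpS⟩, hp'⟩
  choose uk huk using hel
  have ukinj : Function.Injective uk := by
    have lt : ∀ k l : Fin 128, l < k → uk k ≠ uk l := fun k l hlk e => by
      obtain ⟨i, hi, hne⟩ := List.any_eq_true.mp ((hlist k k.2).1.2 l hlk)
      rw [List.mem_range] at hi
      have h1 := huk k ⟨i, hi⟩
      rw [e, ← huk l ⟨i, hi⟩] at h1
      simp only at h1
      rw [h1, Nat.beq_refl] at hne
      simp at hne
    intro k l e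
    rcases lt_trichotomy k l with h | h | h
    · exact absurd e.symm (lt l k h)
    · exact h
    · exact absurd e (lt k l h)
  have ukall : ∀ u : U, ∃ k, uk k = u := by
    haveI : Fintype U := Fintype.ofFinite _
    exact ((Fintype.bijective_iff_injective_and_card uk).mpr
      ⟨ukinj, by rw [Fintype.card_fin, ← Nat.card_eq_fintype_card, cardU]⟩).2
  have hcentQ : ∀ u ∈ U, (∀ q ∈ Q, u * q = q * u) → u = 1 ∨ u = z := by
    intro u hu hcom
    obtain ⟨k, hk⟩ := ukall ⟨u, hu⟩
    have hr : Rep 100 (syList.getD k 0) (φ u) := by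
      have := huk k; rwa [hk] at this
    rcases Bool.or_eq_true _ _ ▸ (hlist k k.2).2 with hk2 | hne
    · rw [Nat.blt_eq] at hk2
      have : (k : ℕ) = 0 ∨ (k : ℕ) = 1 := by omega
      rcases this with h | h <;> rw [h] at hr
      · left; apply φinj; rw [map_one]
        exact Equiv.ext fun i => Fin.ext
          ((hr i).symm.trans (Nat.eq_of_beq_eq_true (hl01 i i.2).1))
      · right; apply φinj
        exact Equiv.ext fun i => Fin.ext
          ((hr i).symm.trans ((Nat.eq_of_beq_eq_true (hl01 i i.2).2).trans (hzrep i)))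
    · obtain ⟨c, hc, hne⟩ := List.any_eq_true.mp hne
      obtain ⟨i, hi, hne⟩ := List.any_eq_true.mp hne
      rw [List.mem_range] at hi
      obtain ⟨p, hp⟩ := valid_of_isPermC vC c hc
      have hpC : p ∈ genG 100 syCore := Subgroup.subset_closure ⟨c, hc, hp⟩
      obtain ⟨q, rfl⟩ := le_range _ hin.1.2 hpC
      have h := congrArg (fun t => ((φ t) ⟨i, hi⟩ : ℕ)) (hcom q hpC)
      simp only [map_mul, Perm.mul_apply] at h
      rw [← hr, ← hp, ← hp, ← hr] at h
      simp only at h
      rw [h, Nat.beq_refl] at hne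
      simp at hne
  have hzQ : ∀ q ∈ Q, z * q = q * z := by
    intro q hq
    have hle : genG 100 syCore ≤ Subgroup.centralizer {φ z} := by
      have hle' : genG 100 syTwo ≤ Subgroup.centralizer {φ z} := by
        rw [genG, Subgroup.closure_le]
        rintro p ⟨c, hc, hp⟩
        refine Subgroup.mem_centralizer_singleton_iff.mpr (Equiv.ext fun i => Fin.ext ?_)
        have h := List.all_eq_true.mp (List.all_eq_true.mp hT8 c hc) i (List.mem_range.mpr i.2)
        simp only [Bool.and_eq_true] at h
        rw [Perm.mul_apply, Perm.mul_apply, ← hp, ← hzrep, ← hzrep (p i), ← hp i]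
        exact Nat.eq_of_beq_eq_true h.2
      refine le_trans ?_ hle'
      rw [genG, Subgroup.closure_le]
      rintro p ⟨c, hc, hp⟩
      have hpS := (sS.mem_iff _ _ hp).mp (List.all_eq_true.mp hCS c hc)
      refine (?_ : genG 100 syGens ≤ genG 100 syTwo) hpS
      rw [genG, Subgroup.closure_le]
      rintro p' ⟨c', hc', hp'⟩
      exact (sT.mem_iff _ _ hp').mp (List.all_eq_true.mp hST c' hc')
    apply φinj
    rw [map_mul, map_mul]
    exact (Subgroup.mem_centralizer_singleton_iff.mp (hle hq)).symm
  have hUC : U ≤ T2 := by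
    refine Subgroup.comap_mono ?_
    rw [genG, Subgroup.closure_le]
    rintro p ⟨c, hc, hp⟩
    exact (sT.mem_iff _ _ hp).mp (List.all_eq_true.mp hST c hc)
  have hTC : T2 = Cz := by
    refine Subgroup.eq_of_le_of_card_ge (fun g hg => ?_) (by rw [cardT, cardC])
    have hle' : genG 100 syTwo ≤ Subgroup.centralizer {φ z} := by
      rw [genG, Subgroup.closure_le]
      rintro p ⟨c, hc, hp⟩
      refine Subgroup.mem_centralizer_singleton_iff.mpr (Equiv.ext fun i => Fin.ext ?_)
      have h := List.all_eq_true.mp (List.all_eq_true.mp hT8 c hc) i (List.mem_range.mpr i.2)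
      simp only [Bool.and_eq_true] at h
      rw [Perm.mul_apply, Perm.mul_apply, ← hp, ← hzrep, ← hzrep (p i), ← hp i]
      exact Nat.eq_of_beq_eq_true h.2
    refine Subgroup.mem_centralizer_singleton_iff.mpr (φinj ?_)
    rw [map_mul, map_mul]
    exact Subgroup.mem_centralizer_singleton_iff.mp (hle' hg)
  have hz1 : z ≠ 1 := fun h => by
    have h01 : uk 1 = uk 0 := Subtype.ext (φinj (Equiv.ext fun i => Fin.ext (by
      rw [← huk 1 i, ← huk 0 i]
      show ap (syList.getD 1 0) i = ap (syList.getD 0 0) i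
      rw [Nat.eq_of_beq_eq_true (hl01 i i.2).1, Nat.eq_of_beq_eq_true (hl01 i i.2).2, hzrep, h,
        map_one, Perm.one_apply])))
    exact absurd (ukinj h01) (by decide)
  -- the Sylow subgroup
  have hindexU : U.index = 4725 := by
    have h := U.card_mul_index
    rw [cardU, hcardG] at h
    omega
  let P : Sylow 2 G := (IsPGroup.of_card (n := 7) (by rw [cardU]; norm_num) : IsPGroup 2 U).toSylow
    (by rw [hindexU]; decide)
  have hPU : (P : Subgroup G) = U := rfl
  refine CfsgLib.GroupSimple.isSimple_group P S (fun h => ?_) ?_ ?_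
  · rw [hPU] at h
    rw [h, Subgroup.card_bot] at cardU
    omega
  · -- fusion-closed subgroups
    rintro T ⟨hTU, hcl⟩ hne
    rw [hPU] at hTU hcl ⊢
    have conjU : ∀ {a : G}, a ∈ T → ∀ g : G, g * a * g⁻¹ ∈ U → g * a * g⁻¹ ∈ T :=
      fun ha g hg => hcl _ ha g hg
    have hzT : z ∈ T := by
      haveI : (T.subgroupOf U).Normal := ⟨fun x hx g => by
        show ((g : U) : G) * x * ((g : U) : G)⁻¹ ∈ T
        exact hcl _ hx _ (mul_mem (mul_mem g.2 x.2) (inv_mem g.2))⟩
      haveI : Group.IsNilpotent U :=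
        (IsPGroup.of_card (n := 7) (by rw [cardU]; norm_num) : IsPGroup 2 U).isNilpotent
      have hne' : T.subgroupOf U ≠ ⊥ := fun h => hne (by
        rw [Subgroup.subgroupOf_eq_bot] at h
        exact h.eq_bot_of_le hTU)
      obtain ⟨w, hw, hw1⟩ := (Subgroup.bot_or_exists_ne_one _).resolve_left
        (CfsgLib.inf_center_ne_bot_of_nilpotent hne')
      obtain ⟨hwT, hwc⟩ := Subgroup.mem_inf.mp hw
      rcases hcentQ w w.2 (fun q hq =>
        (congrArg Subtype.val (Subgroup.mem_center_iff.mp hwc ⟨q, hQU hq⟩)).symm) with h | h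
      · exact absurd (Subtype.ext h) hw1
      · exact h ▸ hwT
    have step : ∀ (x g y : ℕ) (a : G), a ∈ T → Rep 100 x (φ a) → stepOK x g y = true →
        ∃ b ∈ T, Rep 100 y (φ b) := by
      intro x g y a ha hx h
      simp only [stepOK, Bool.and_eq_true, List.all_eq_true, List.mem_range] at h
      obtain ⟨⟨⟨hgp, hgG⟩, hyS⟩, heq⟩ := h
      obtain ⟨p, hp⟩ := exists_of_isPermC hgp
      obtain ⟨k, rfl⟩ := φrange p (((chain_sound (by norm_num) chain_check valid_gens).mem_iff _ _ hp).mp hgG)
      have hy : Rep 100 y (φ (k * a * k⁻¹)) := fun i => by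
        rw [map_mul, map_mul, map_inv, Perm.mul_apply, Perm.mul_apply]
        have h1 := Nat.eq_of_beq_eq_true (heq ((φ k)⁻¹ i : Fin 100) (Fin.is_lt _))
        rw [hx, hp, hp, Perm.inv_def, Equiv.apply_symm_apply] at h1
        exact h1.symm
      exact ⟨_, conjU ha k ((sS.mem_iff _ _ hy).mp hyS), hy⟩
    obtain ⟨hA, hB, eA, eB⟩ := sy_steps
    have hQT : Q ≤ T := by
      intro q hq
      have hle : genG 100 syCore ≤ T.map φ := by
        rw [genG, Subgroup.closure_le]
        rintro p ⟨c, hc, hp⟩
        rw [← eA] at hc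
        obtain ⟨s, hs, rfl⟩ := List.mem_map.mp hc
        have h := List.all_eq_true.mp hA s hs
        simp only [Bool.and_eq_true, List.all_eq_true, List.mem_range] at h
        obtain ⟨b, hb, hbr⟩ := step _ _ _ z hzT
          (fun i => (Nat.eq_of_beq_eq_true (h.2 i i.2)).trans (hzrep i)) h.1
        exact ⟨b, hb, hbr.unique hp⟩
      obtain ⟨b, hb, hbq⟩ := hle hq
      exact φinj hbq ▸ hb
    intro u hu
    have hle : genG 100 syGens ≤ T.map φ := by
      rw [genG, Subgroup.closure_le]
      rintro p ⟨c, hc, hp⟩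
      rw [← eB] at hc
      obtain ⟨s, hs, rfl⟩ := List.mem_map.mp hc
      have h := List.all_eq_true.mp hB s hs
      simp only [Bool.and_eq_true] at h
      obtain ⟨q, hq⟩ := exists_of_isPermC h.1.2
      have hqC := (sC.mem_iff _ _ hq).mp h.2
      obtain ⟨a, rfl⟩ := le_range _ hin.1.2 hqC
      obtain ⟨b, hb, hbr⟩ := step _ _ _ a (hQT hqC) hq h.1.1
      exact ⟨b, hb, hbr.unique hp⟩
    obtain ⟨b, hb, hbu⟩ := hle hu
    exact φinj hbu ▸ hb
  · -- the normaliser of the Sylow subgroup
    rw [hPU]
    intro n hn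
    have hnz : n ∈ Cz := by
      have hmem : n * z * n⁻¹ ∈ U := (Subgroup.mem_normalizer_iff.mp hn z).mp hzU
      have hzc : ∀ v ∈ U, z * v = v * z := fun v hv => by
        have := hUC hv
        rw [hTC] at this
        exact (Subgroup.mem_centralizer_singleton_iff.mp this).symm
      rcases hcentQ _ hmem (fun q hq => by
        have hq' : n⁻¹ * q * n ∈ U := (Subgroup.mem_normalizer_iff''.mp hn q).mp (hQU hq)
        have h := congrArg (fun t => n * t * n⁻¹) (hzc _ hq')
        simpa [mul_assoc] using h) with h | h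
      · exact absurd (conj_eq_one_iff.mp h) hz1
      · exact Subgroup.mem_centralizer_singleton_iff.mpr (mul_inv_eq_iff_eq_mul.mp h)
    have hgenT : T2 ≤ Subgroup.closure {x : G | x ∈ Subgroup.normalizer (Q : Set G) ∧
        ∃ k : ℕ, orderOf x = 2 ^ k} := by
      intro g hg
      have hle : genG 100 syTwo ≤ (Subgroup.closure {x : G | x ∈ Subgroup.normalizer (Q : Set G) ∧
          ∃ k : ℕ, orderOf x = 2 ^ k}).map φ := by
        rw [genG, Subgroup.closure_le]
        rintro p ⟨c, hc, hp⟩
        have hpT : p ∈ genG 100 syTwo := Subgroup.subset_closure ⟨c, hc, hp⟩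
        obtain ⟨x, rfl⟩ := le_range _ hin.2 hpT
        refine ⟨x, Subgroup.subset_closure ⟨hTN hpT, orderOf_two_pow_of_pow_eight (φinj ?_)⟩, rfl⟩
        rw [map_pow, map_one]
        refine Equiv.ext fun i => Fin.ext ?_
        rw [← repeat_rep hp 8 i, Perm.one_apply]
        have h := List.all_eq_true.mp (List.all_eq_true.mp hT8 c hc) i (List.mem_range.mpr i.2)
        simp only [Bool.and_eq_true] at h
        exact Nat.eq_of_beq_eq_true h.1
      obtain ⟨x, hx, hxg⟩ := hle hg
      exact φinj hxg ▸ hx
    refine Subgroup.subset_closure ⟨by rw [hPU]; exact hn, Q, by rw [hPU]; exact hQU,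
      by rw [hPU]; exact hUN, ?_, hgenT (hTC ▸ hnz)⟩
    rw [hPU]
    rintro u ⟨hu, huc⟩
    rcases hcentQ u hu (fun q hq => (Subgroup.mem_centralizer_iff.mp huc q hq).symm) with rfl | rfl
    · exact one_mem _
    · show φ u ∈ genG 100 syCore
      exact (sC.mem_iff _ _ hzrep).mp zCore

end CfsgHJ
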