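/-
The element orders of the Hall–Janko group.
-/
import Cfsg.Agent.Lib.HallJanko.Blocks
import Cfsg.Agent.Lib.HallJanko.CosetCheck0
import Cfsg.Agent.Lib.HallJanko.CosetCheck1
import Cfsg.Agent.Lib.HallJanko.CosetCheck2

set_option autoImplicit false

namespace CfsgHJ

open Equiv

def subAt (o k : ℕ) : ℕ × ℕ × ℕ := (subOrbits.getD o []).getD k (0, 0, 0)

def subSize : List ℕ := [1, 63, 36]

def subStep (o k : ℕ) : Bool :=
  Nat.blt (subAt o k).1 100 &&
    ((Nat.beq k 0 && Nat.beq (subAt o k).1 ((levAt 0).pt (subReps.getD o 0))) ||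
      (Nat.blt (subAt o k).2.1 k && Nat.blt (subAt o k).2.2 4 &&
        Nat.beq (ap (gCode (subAt o k).2.2) (subAt o (subAt o k).2.1).1) (subAt o k).1))

theorem sub_check : ((List.range 3).all fun o => (List.range (subSize.getD o 0)).all (subStep o)) = true ∧
    ((List.range 100).all fun x => (List.range 3).any fun o =>
      (List.range (subSize.getD o 0)).any fun k => Nat.beq (subAt o k).1 x) = true ∧
    ((List.range 4).all fun a => Nat.beq (ap (gCode a) 0) 0) = true := by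
  decide +kernel

theorem chain_shape : chainData = [levAt 0, levAt 1, levAt 2, levAt 3] := rfl

theorem level_check : ((List.range 4).all fun j => (List.range (levAt j).tr.length).all fun k =>
      isPerm 100 ((levAt j).tc k) ((levAt j).ti k) && Nat.beq (ap ((levAt j).tc k) (levAt j).base) ((levAt j).pt k) &&
        Nat.beq ((levAt j).pos.getD ((levAt j).pt k) 0) k && sift 100 chainData ((levAt j).tc k) &&
        ((List.range j).all fun i => Nat.beq (ap ((levAt j).tc k) (levAt i).base) (levAt i).base)) = true ∧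
    ((List.range 4).all fun j => Nat.beq (levAt j).base (basePts.getD j 0) &&
      Nat.beq ((levAt j).tc 0) (idk 100) && Nat.beq ((levAt j).pt 0) (levAt j).base) = true ∧
    ((List.range 4).all fun j => Nat.beq (levAt j).tr.length ([100, 63, 32, 3].getD j 0)) = true := by
  decide +kernel

theorem witness_check : (orderWitness.all fun w =>
    Nat.blt w.2.1 100 && Nat.blt w.2.2.1 63 && Nat.blt w.2.2.2.1 32 && Nat.blt w.2.2.2.2 3 &&
      elemOK (ev4 ((levAt 0).tc w.2.1) ((levAt 1).tc w.2.2.1) ((levAt 2).tc w.2.2.2.1) ((levAt 3).tc w.2.2.2.2)) &&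
      Nat.beq (baseLcm (ev4 ((levAt 0).tc w.2.1) ((levAt 1).tc w.2.2.1) ((levAt 2).tc w.2.2.2.1) ((levAt 3).tc w.2.2.2.2))) w.1 &&
      (List.range w.1).all (fun m => Nat.beq m 0 || basePts.any fun b => !Nat.beq
        (Nat.repeat (ev4 ((levAt 0).tc w.2.1) ((levAt 1).tc w.2.2.1) ((levAt 2).tc w.2.2.2.1) ((levAt 3).tc w.2.2.2.2)) m b) b)
      ) = true ∧
    (allowed.all fun n => orderWitness.any fun w => Nat.beq w.1 n) = true := by
  decide +kernel

attribute [local irreducible] chainData levAt gCode subAt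

theorem allowed_bound : ∀ n ∈ allowed, 0 < n ∧ n ≤ 15 := by decide

theorem allowed_divisors : ∀ n ∈ allowed, ∀ d < 16, d ∣ n → d ∈ allowed := by decide

theorem subReps_lt : ∀ o < 3, subReps.getD o 0 < 100 := by decide +kernel

theorem basePts_lt : ∀ b ∈ basePts, b < 100 := by decide

/-- The transversal element. -/
noncomputable def tEl (j k : ℕ) : Perm (Fin 100) := decP 100 ((levAt j).tc k)

def lenAt (j : ℕ) : ℕ := [100, 63, 32, 3].getD j 0

theorem tEl_facts {j k : ℕ} (hj : j < 4) (hk : k < lenAt j) :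
    Rep 100 ((levAt j).tc k) (tEl j k) ∧ Rep 100 ((levAt j).ti k) (tEl j k)⁻¹ ∧ tEl j k ∈ hjGroup ∧
      ap ((levAt j).tc k) (levAt j).base = (levAt j).pt k ∧ (levAt j).pos.getD ((levAt j).pt k) 0 = k ∧
      ∀ i, i < j → ap ((levAt j).tc k) (levAt i).base = (levAt i).base := by
  have hlen : (levAt j).tr.length = lenAt j :=
    Nat.eq_of_beq_eq_true (List.all_eq_true.mp level_check.2.2 j (List.mem_range.mpr hj))
  have h := List.all_eq_true.mp (List.all_eq_true.mp level_check.1 j (List.mem_range.mpr hj)) k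
    (List.mem_range.mpr (hlen ▸ hk))
  simp only [Bool.and_eq_true, List.all_eq_true, List.mem_range] at h
  obtain ⟨⟨⟨⟨hp, hb⟩, hpos⟩, hs⟩, hfix⟩ := h
  exact ⟨decP_rep hp, rep_inv (by norm_num) (decP_rep hp) hp,
    ((chain_sound (by norm_num) chain_check valid_gens).mem_iff _ _ (decP_rep hp)).mp hs,
    Nat.eq_of_beq_eq_true hb, Nat.eq_of_beq_eq_true hpos, fun i hi => Nat.eq_of_beq_eq_true (hfix i hi)⟩

theorem decompose {g : Perm (Fin 100)} (hg : g ∈ hjGroup) : ∃ a b c d, a < 100 ∧ b < 63 ∧ c < 32 ∧ d < 3 ∧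
    g = tEl 0 a * (tEl 1 b * (tEl 2 c * tEl 3 d)) := by
  have hs := ((chain_sound (by norm_num) chain_check valid_gens).mem_iff _ g (rep_code (by norm_num) g)).mpr hg
  rw [chain_shape] at hs
  simp only [sift, Level.findsOK, Bool.and_eq_true, Nat.blt_eq, List.all_eq_true, List.mem_range] at hs
  have hlen : ∀ j, j < 4 → (levAt j).tr.length = lenAt j := fun j hj =>
    Nat.eq_of_beq_eq_true (List.all_eq_true.mp level_check.2.2 j (List.mem_range.mpr hj))
  obtain ⟨⟨ha, -⟩, ⟨hb, -⟩, ⟨hc, -⟩, ⟨hd, -⟩, hid⟩ := hs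
  rw [hlen 0 (by norm_num)] at ha
  rw [hlen 1 (by norm_num)] at hb
  rw [hlen 2 (by norm_num)] at hc
  rw [hlen 3 (by norm_num)] at hd
  set a := (levAt 0).pos.getD (ap (code g) (levAt 0).base) 0
  have r1 : Rep 100 _ ((tEl 0 a)⁻¹ * g) := (tEl_facts (by norm_num) ha).2.1.comp (rep_code (by norm_num) g)
  set b := (levAt 1).pos.getD (ap (cp 100 ((levAt 0).ti a) (code g)) (levAt 1).base) 0
  have r2 : Rep 100 _ ((tEl 1 b)⁻¹ * ((tEl 0 a)⁻¹ * g)) := (tEl_facts (by norm_num) hb).2.1.comp r1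
  set c := (levAt 2).pos.getD (ap (cp 100 ((levAt 1).ti b) (cp 100 ((levAt 0).ti a) (code g))) (levAt 2).base) 0
  have r3 : Rep 100 _ ((tEl 2 c)⁻¹ * ((tEl 1 b)⁻¹ * ((tEl 0 a)⁻¹ * g))) := (tEl_facts (by norm_num) hc).2.1.comp r2
  set d := (levAt 3).pos.getD (ap (cp 100 ((levAt 2).ti c) (cp 100 ((levAt 1).ti b) (cp 100 ((levAt 0).ti a) (code g)))) (levAt 3).base) 0
  have r4 : Rep 100 _ ((tEl 3 d)⁻¹ * ((tEl 2 c)⁻¹ * ((tEl 1 b)⁻¹ * ((tEl 0 a)⁻¹ * g)))) :=
    (tEl_facts (by norm_num) hd).2.1.comp r3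
  refine ⟨a, b, c, d, ha, hb, hc, hd, ?_⟩
  have h1 : (tEl 3 d)⁻¹ * ((tEl 2 c)⁻¹ * ((tEl 1 b)⁻¹ * ((tEl 0 a)⁻¹ * g))) = 1 :=
    Equiv.ext fun i => Fin.ext (by rw [← r4 i]; exact Nat.eq_of_beq_eq_true (hid i i.2))
  calc g = tEl 0 a * (tEl 1 b * (tEl 2 c * (tEl 3 d * ((tEl 3 d)⁻¹ * ((tEl 2 c)⁻¹ * ((tEl 1 b)⁻¹ * ((tEl 0 a)⁻¹ * g))))))) := by group
    _ = _ := by rw [h1, mul_one]

theorem ev4_rep {a b c d : ℕ} (ha : a < 100) (hb : b < 63) (hc : c < 32) (hd : d < 3) (i : Fin 100) :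
    ev4 ((levAt 0).tc a) ((levAt 1).tc b) ((levAt 2).tc c) ((levAt 3).tc d) i =
      ((tEl 0 a * (tEl 1 b * (tEl 2 c * tEl 3 d))) i : ℕ) := by
  simp only [ev4, Perm.mul_apply]
  rw [(tEl_facts (j := 3) (by norm_num) hd).1, (tEl_facts (j := 2) (by norm_num) hc).1,
    (tEl_facts (j := 1) (by norm_num) hb).1, (tEl_facts (j := 0) (by norm_num) ha).1]

theorem base_facts {j : ℕ} (hj : j < 4) :
    (levAt j).base = basePts.getD j 0 ∧ (levAt j).tc 0 = idk 100 ∧ (levAt j).pt 0 = (levAt j).base := by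
  have h := List.all_eq_true.mp level_check.2.1 j (List.mem_range.mpr hj)
  simp only [Bool.and_eq_true] at h
  exact ⟨Nat.eq_of_beq_eq_true h.1.1, Nat.eq_of_beq_eq_true h.1.2, Nat.eq_of_beq_eq_true h.2⟩

theorem base_lt {j : ℕ} (hj : j < 4) : (levAt j).base < 100 := by
  rw [(base_facts hj).1]
  match j, hj with
  | 0, _ => decide
  | 1, _ => decide
  | 2, _ => decide
  | 3, _ => decide

/-- Fixing the base forces triviality. -/
theorem eq_one_of_base {g : Perm (Fin 100)} (hg : g ∈ hjGroup)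
    (hfix : ∀ b : Fin 100, (b : ℕ) ∈ basePts → g b = b) : g = 1 := by
  obtain ⟨a, b, c, d, ha, hb, hc, hd, rfl⟩ := decompose hg
  have one : ∀ j, j < 4 → tEl j 0 = 1 := fun j hj => by
    rw [tEl, (base_facts hj).2.1]; exact decP_eq (rep_id (by norm_num))
  have key : ∀ j k, (hj : j < 4) → k < lenAt j → tEl j k ⟨_, base_lt hj⟩ = ⟨_, base_lt hj⟩ → k = 0 := by
    intro j k hj hk he
    have h0 := tEl_facts hj hk
    have z := tEl_facts (k := 0) hj (lt_of_le_of_lt (Nat.zero_le k) hk)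
    have e : (levAt j).pt k = (levAt j).pt 0 := by
      rw [← h0.2.2.2.1, h0.1 ⟨_, base_lt hj⟩, he]; exact (base_facts hj).2.2.symm
    rw [← h0.2.2.2.2.1, e, z.2.2.2.2.1]
  have low : ∀ j k i, (hj : j < 4) → k < lenAt j → (hi : i < j) →
      tEl j k ⟨_, base_lt (lt_trans hi hj)⟩ = ⟨_, base_lt (lt_trans hi hj)⟩ := fun j k i hj hk hi =>
    Fin.ext (((tEl_facts hj hk).1 _).symm.trans ((tEl_facts hj hk).2.2.2.2.2 i hi))
  have hb' : ∀ j, (hj : j < 4) → ((⟨_, base_lt hj⟩ : Fin 100) : ℕ) ∈ basePts := fun j hj => by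
    show (levAt j).base ∈ basePts
    rw [(base_facts hj).1]
    match j, hj with
    | 0, _ => decide
    | 1, _ => decide
    | 2, _ => decide
    | 3, _ => decide
  have f0 := hfix _ (hb' 0 (by norm_num))
  simp only [Perm.mul_apply, low 3 d 0 (by norm_num) hd (by norm_num), low 2 c 0 (by norm_num) hc (by norm_num),
    low 1 b 0 (by norm_num) hb (by norm_num)] at f0
  obtain rfl := key 0 a (by norm_num) ha f0
  have f1 := hfix _ (hb' 1 (by norm_num))
  simp only [one 0 (by norm_num), one_mul, Perm.mul_apply, low 3 d 1 (by norm_num) hd (by norm_num),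
    low 2 c 1 (by norm_num) hc (by norm_num)] at f1
  obtain rfl := key 1 b (by norm_num) hb f1
  have f2 := hfix _ (hb' 2 (by norm_num))
  simp only [one 0 (by norm_num), one 1 (by norm_num), one_mul, Perm.mul_apply,
    low 3 d 2 (by norm_num) hd (by norm_num)] at f2
  obtain rfl := key 2 c (by norm_num) hc f2
  have f3 := hfix _ (hb' 3 (by norm_num))
  simp only [one 0 (by norm_num), one 1 (by norm_num), one 2 (by norm_num), one_mul] at f3
  obtain rfl := key 3 d (by norm_num) hd f3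
  simp only [one 0 (by norm_num), one 1 (by norm_num), one 2 (by norm_num), one 3 (by norm_num), one_mul]

theorem elem_order {f : ℕ → ℕ} {g : Perm (Fin 100)} (hg : g ∈ hjGroup) (hf : ∀ i : Fin 100, f i = g i)
    (h : elemOK f = true) : orderOf g ∣ baseLcm f ∧ baseLcm f ∈ allowed := by
  simp only [elemOK, Bool.and_eq_true, List.any_eq_true, List.all_eq_true] at h
  obtain ⟨⟨n, hn, he⟩, hrep⟩ := h
  refine ⟨orderOf_dvd_of_pow_eq_one (eq_one_of_base (pow_mem hg _) fun b hb => ?_), Nat.eq_of_beq_eq_true he ▸ hn⟩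
  have hit : ∀ m, Nat.repeat f m b = ((g ^ m) b : ℕ) := fun m => by
    induction m with
    | zero => rfl
    | succ m ih => rw [Nat.repeat, ih, hf, pow_succ', Perm.mul_apply]
  exact Fin.ext ((hit _).symm.trans (Nat.eq_of_beq_eq_true (hrep _ hb)))

theorem orderOf_mem {g : Perm (Fin 100)} (hg : g ∈ hjGroup) : orderOf g ∈ allowed := by
  have hdiv : ∀ n ∈ allowed, ∀ d, d ∣ n → d ∈ allowed := by
    intro n hn d hd
    have hn' : 0 < n ∧ n ≤ 15 := allowed_bound n hn
    have hd' : d < 16 := lt_of_le_of_lt (Nat.le_of_dvd hn'.1 hd) (by omega)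
    exact allowed_divisors n hn d hd' hd
  obtain ⟨a, b, c, d, ha, -, -, -, rfl⟩ := decompose hg
  set g := tEl 0 a * (tEl 1 b * (tEl 2 c * tEl 3 d))
  obtain ⟨o, ho, k, hk, he⟩ : ∃ o, o < 3 ∧ ∃ k, k < subSize.getD o 0 ∧ (subAt o k).1 = (g ⟨0, by norm_num⟩ : ℕ) := by
    have := List.all_eq_true.mp sub_check.2.1 (g ⟨0, by norm_num⟩ : ℕ) (List.mem_range.mpr (g ⟨0, by norm_num⟩).2)
    simp only [List.any_eq_true, List.mem_range] at this
    obtain ⟨o, ho, k, hk, e⟩ := this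
    exact ⟨o, ho, k, hk, Nat.eq_of_beq_eq_true e⟩
  have red : ∀ k, k < subSize.getD o 0 → ∀ g ∈ hjGroup, (g ⟨0, by norm_num⟩ : ℕ) = (subAt o k).1 →
      ∃ g' ∈ hjGroup, orderOf g' = orderOf g ∧ (g' ⟨0, by norm_num⟩ : ℕ) = (levAt 0).pt (subReps.getD o 0) := by
    intro k
    induction k using Nat.strong_induction_on with
    | _ k ih =>
      intro hk g hg hx
      have h := List.all_eq_true.mp (List.all_eq_true.mp sub_check.1 o (List.mem_range.mpr ho)) k (List.mem_range.mpr hk)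
      simp only [subStep, Bool.and_eq_true, Bool.or_eq_true, Nat.blt_eq] at h
      rcases h.2 with ⟨h0, hb⟩ | ⟨⟨hp, ha⟩, hs⟩
      · exact ⟨g, hg, rfl, hx.trans (Nat.eq_of_beq_eq_true hb)⟩
      · set s := rho (genEl ⟨(subAt o k).2.2, by omega⟩)
        have hsr : Rep 100 (gCode (subAt o k).2.2) s := rep_gen ⟨_, _⟩
        have hs0 : s ⟨0, by norm_num⟩ = ⟨0, by norm_num⟩ := Fin.ext ((hsr _).symm.trans
          (Nat.eq_of_beq_eq_true (List.all_eq_true.mp sub_check.2.2 _ (List.mem_range.mpr ha))))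
        have hplt : (subAt o (subAt o k).2.1).1 < 100 := by
          have h' := List.all_eq_true.mp (List.all_eq_true.mp sub_check.1 o (List.mem_range.mpr ho)) _
            (List.mem_range.mpr (lt_trans hp hk))
          simp only [subStep, Bool.and_eq_true, Nat.blt_eq] at h'
          exact h'.1
        have hsp : s ⟨_, hplt⟩ = g ⟨0, by norm_num⟩ :=
          Fin.ext ((hsr _).symm.trans ((Nat.eq_of_beq_eq_true hs).trans hx.symm))
        have hsm : s ∈ hjGroup := rho_range ▸ ⟨_, rfl⟩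
        obtain ⟨g', h1, h2, h3⟩ := ih _ hp (lt_trans hp hk) (s⁻¹ * g * s) (mul_mem (mul_mem (inv_mem hsm) hg) hsm) (by
          rw [Perm.mul_apply, Perm.mul_apply, hs0, ← hsp, Perm.inv_def, Equiv.symm_apply_apply])
        refine ⟨g', h1, h2.trans ?_, h3⟩
        rw [← MulAut.conj_symm_apply]
        exact MulEquiv.orderOf_eq (MulAut.conj s).symm g
  obtain ⟨g', hg', hord, hpt⟩ := red k hk g hg he.symm
  rw [← hord]
  obtain ⟨a', b', c', d', ha', hb', hc', hd', rfl⟩ := decompose hg'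
  have hpos : a' = subReps.getD o 0 := by
    have low : ∀ j k, j < 4 → 0 < j → k < lenAt j → tEl j k ⟨0, by norm_num⟩ = ⟨0, by norm_num⟩ := by
      intro j k hj hj0 hk
      have h := (tEl_facts hj hk).2.2.2.2.2 0 hj0
      rw [(base_facts (j := 0) (by norm_num)).1] at h
      exact Fin.ext (((tEl_facts hj hk).1 _).symm.trans h)
    rw [Perm.mul_apply, Perm.mul_apply, Perm.mul_apply, low 3 d' (by norm_num) (by norm_num) hd',
      low 2 c' (by norm_num) (by norm_num) hc', low 1 b' (by norm_num) (by norm_num) hb',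
      ← (tEl_facts (j := 0) (by norm_num) ha').1] at hpt
    have h0 := (tEl_facts (j := 0) (by norm_num) ha').2.2.2.1
    rw [(base_facts (j := 0) (by norm_num)).1] at h0
    have hr : subReps.getD o 0 < lenAt 0 := subReps_lt o ho
    rw [← (tEl_facts (j := 0) (by norm_num) ha').2.2.2.2.1, ← (tEl_facts (j := 0) (by norm_num) hr).2.2.2.2.1]
    exact congrArg (fun p => (levAt 0).pos.getD p 0) (h0.symm.trans hpt)
  have hc : cosetsOK (subReps.getD o 0) (List.range 63) = true := by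
    match o, ho with
    | 0, _ => exact coset_check0
    | 1, _ => exact coset_check1
    | 2, _ => exact coset_check2
  simp only [cosetsOK, List.all_eq_true, List.mem_range] at hc
  obtain ⟨h1, h2⟩ := elem_order hg' (fun i => ev4_rep ha' hb' hc' hd' i) (hpos ▸ hc b' hb' c' hc' d' hd')
  exact hdiv _ h2 _ h1

theorem exists_order {n : ℕ} (hn : n ∈ allowed) : ∃ g ∈ hjGroup, orderOf g = n := by
  obtain ⟨w, hw, e⟩ := List.any_eq_true.mp (List.all_eq_true.mp witness_check.2 n hn)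
  have h := List.all_eq_true.mp witness_check.1 w hw
  simp only [Bool.and_eq_true, Nat.blt_eq] at h
  obtain ⟨⟨⟨⟨⟨⟨ha, hb⟩, hc⟩, hd⟩, hok⟩, hl⟩, hmin⟩ := h
  set g := tEl 0 w.2.1 * (tEl 1 w.2.2.1 * (tEl 2 w.2.2.2.1 * tEl 3 w.2.2.2.2))
  have hg : g ∈ hjGroup := mul_mem (tEl_facts (by norm_num) ha).2.2.1 (mul_mem (tEl_facts (by norm_num) hb).2.2.1
    (mul_mem (tEl_facts (by norm_num) hc).2.2.1 (tEl_facts (by norm_num) hd).2.2.1))
  have hf := fun i => ev4_rep ha hb hc hd i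
  obtain ⟨h1, -⟩ := elem_order hg hf hok
  have hnl : baseLcm (ev4 ((levAt 0).tc w.2.1) ((levAt 1).tc w.2.2.1) ((levAt 2).tc w.2.2.2.1)
      ((levAt 3).tc w.2.2.2.2)) = n := (Nat.eq_of_beq_eq_true hl).trans (Nat.eq_of_beq_eq_true e)
  rw [hnl] at h1
  have hn0 : 0 < n := (allowed_bound n hn).1
  refine ⟨g, hg, (orderOf_eq_iff hn0).mpr ⟨orderOf_dvd_iff_pow_eq_one.mp h1, fun m hm hm0 he => ?_⟩⟩
  rw [List.all_eq_true] at hmin
  have := hmin m (List.mem_range.mpr (Nat.eq_of_beq_eq_true e ▸ hm))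
  simp only [Bool.or_eq_true, List.any_eq_true, Bool.not_eq_true'] at this
  rcases this with h0 | ⟨b, hb', hne⟩
  · exact absurd (Nat.eq_of_beq_eq_true h0) (by omega)
  · have hb100 : b < 100 := basePts_lt b hb'
    have hit : ∀ m, Nat.repeat (ev4 ((levAt 0).tc w.2.1) ((levAt 1).tc w.2.2.1) ((levAt 2).tc w.2.2.2.1)
        ((levAt 3).tc w.2.2.2.2)) m b = ((g ^ m) ⟨b, hb100⟩ : ℕ) := fun m => by
      induction m with
      | zero => rfl
      | succ m ih => rw [Nat.repeat, ih, hf, pow_succ']; rfl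
    rw [hit, he, Perm.one_apply, Nat.beq_refl] at hne
    exact Bool.false_ne_true hne.symm

theorem range_orderOf : Set.range (orderOf : Cfsg.Spor.J2 → ℕ) = {n | n ∈ allowed} := by
  ext n
  simp only [Set.mem_range, Set.mem_setOf_eq]
  constructor
  · rintro ⟨x, rfl⟩
    rw [← MulEquiv.orderOf_eq hjEquiv x, ← Subgroup.orderOf_coe]
    exact orderOf_mem (hjEquiv x).2
  · intro hn
    obtain ⟨g, hg, rfl⟩ := exists_order hn
    exact ⟨hjEquiv.symm ⟨g, hg⟩, (MulEquiv.orderOf_eq hjEquiv.symm ⟨g, hg⟩).trans (Subgroup.orderOf_mk _ _)⟩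

end CfsgHJ
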