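/-
The Hall–Janko group has the element orders of the symmetric group of degree 8.
-/
import Cfsg.Agent.Lib.HallJanko.Spectrum
import Cfsg.Agent.Lib.HallJanko.EightPoints

set_option autoImplicit false

namespace CfsgHJ

theorem allowed_eq : allowed = eightOrders := rfl

theorem spectrum_eight :
    Set.range (orderOf : Equiv.Perm (Fin 8) → ℕ) = Set.range (orderOf : Cfsg.Spor.J2 → ℕ) := by
  rw [range_orderOf_eight, range_orderOf, allowed_eq]

theorem arbitrarily_large (N : ℕ) : ∃ (H : Type) (_ : Group H) (_ : Fintype H), N < Fintype.card H ∧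
    Set.range (orderOf : H → ℕ) = Set.range (orderOf : Cfsg.Spor.J2 → ℕ) := by
  haveI : Finite (Ext8 (N + 1)) := Finite.of_equiv _ SemidirectProduct.equivProd.symm
  haveI := Fintype.ofFinite (Ext8 (N + 1))
  exact ⟨Ext8 (N + 1), inferInstance, inferInstance, card_ext_gt N, by
    rw [range_orderOf_ext, range_orderOf, allowed_eq]⟩

end CfsgHJ
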