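/-
The Schur multiplier of the Hall–Janko group has order two.
-/
import Cfsg.Agent.Lib.HallJanko.Simple
import Cfsg.Agent.Lib.HallJanko.MultData
import Cfsg.Agent.Lib.StemSylow.Basic
import Cfsg.Agent.Lib.StemSylow.MathieuTwelve

set_option autoImplicit false
set_option maxRecDepth 8000
set_option linter.style.haveILetI false

namespace CfsgHJ.Multiplier

open Subgroup MultData CfsgHJ
open CfsgLib.StemSylow
open CfsgLib.StemSylow.Collect (ev ev_nil ev_cons)
open scoped commutatorElement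

universe u

/-- The code of a product of generators. -/
def evCode (l : List ℕ) : List ℕ → ℕ
  | [] => idk 100
  | k :: w => cp 100 (l.getD k (idk 100)) (evCode l w)

/-- All products of subsequences. -/
def subProds : ℕ → List ℕ
  | 0 => [idk 100]
  | d + 1 => subProds d ++ (subProds d).map (cp 100 (gc.getD (cert.n - (d + 1)) (idk 100)))

def pairsC : List (ℕ × ℕ) :=
  gc.zip gcInv ++ tc.zip tcInv ++
    [(o7, o7Inv), (oa, oaInv), (ob, obInv), (oc, ocInv), (ot, otInv), (ox, oxInv), (oy, oyInv), (os, osInv)]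

def canon (c : ℕ) : ℕ := cp 100 c (idk 100)

def agree (c d : ℕ) : Bool := Nat.beq (canon c) (canon d)

def factsOK : Bool :=
  agree (tc.getD 0 (idk 100)) (idk 100) && (List.range cert.facts.length).all fun m =>
    agree (cp 100 (tc.getD (cert.fact m).1 (idk 100)) (evCode gc (cert.fact m).2.1))
      (cp 100 (evCode gc (cert.fact m).2.2) (tc.getD (cert.fact m).1 (idk 100)))

def cpw (c : ℕ) : ℕ → ℕ
  | 0 => idk 100
  | n + 1 => cp 100 c (cpw c n)

theorem mem_check : ((pairsC.all fun p => isPerm 100 p.1 p.2 && sift 100 chainData p.1) &&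
    Nat.beq (gc.zip gcInv).length gc.length && Nat.beq (tc.zip tcInv).length tc.length) = true := by
  decide +kernel

theorem cert_check : cert.check = true ∧ factsOK = true ∧ distinctKeys ((subProds cert.n).map canon) = true ∧
    (cert.n = 7 ∧ cert.q = 4 ∧ cert.r = 2) := by
  decide +kernel

theorem odd_check : ([(o7, 7), (oa, 3), (ob, 3), (oc, 3), (ox, 5), (oy, 5)].all fun p =>
      agree (cpw p.1 p.2) (idk 100) && !agree p.1 (idk 100)) = true ∧
    (agree (cp 100 oc oa) (cp 100 oa oc) && agree (cp 100 oc ob) (cp 100 ob oc) &&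
      agree (cp 100 oa ob) (cp 100 (cp 100 oc ob) oa) && agree (cp 100 ot oc) (cp 100 oc ot) &&
      agree (cp 100 ot oa) (cp 100 oaInv ot) && agree (cp 100 ot ob) (cp 100 obInv ot) &&
      agree (cp 100 ox oy) (cp 100 oy ox) && agree (cp 100 os ox) (cp 100 ox os) &&
      agree (cp 100 os oy) (cp 100 oyInv os)) = true ∧
    distinctKeys ((List.range 25).map fun k => canon (cp 100 (cpw ox (k / 5)) (cpw oy (k % 5)))) = true := by
  decide +kernel

theorem rep_canon {c : ℕ} {g : Equiv.Perm (Fin 100)} (h : Rep 100 c g) : Rep 100 (canon c) g := by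
  have := h.comp (rep_id (n := 100) (by norm_num))
  rwa [mul_one] at this

theorem Rep.of_agree {c d : ℕ} {g h : Equiv.Perm (Fin 100)} (hg : Rep 100 c g) (hh : Rep 100 d h)
    (e : agree c d = true) : g = h :=
  (rep_canon hg).eq_beq (rep_canon hh) e

theorem canon_eq {c d : ℕ} {g : Equiv.Perm (Fin 100)} (hc : Rep 100 c g) (hd : Rep 100 d g) : canon c = canon d :=
  Rep.cp_id_eq hc hd (by norm_num)

theorem exists_elem {p : ℕ × ℕ} (hp : p ∈ pairsC) :
    ∃ g : hjGroup, Rep 100 p.1 (g : Equiv.Perm (Fin 100)) ∧ Rep 100 p.2 ((g⁻¹ : hjGroup) : Equiv.Perm (Fin 100)) := by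
  have h := mem_check
  simp only [Bool.and_eq_true] at h
  have h' := List.all_eq_true.mp h.1.1 p hp
  simp only [Bool.and_eq_true] at h'
  refine ⟨⟨decP 100 p.1, ((chain_sound (by norm_num) chain_check valid_gens).mem_iff _ _ (decP_rep h'.1)).mp h'.2⟩,
    decP_rep h'.1, ?_⟩
  rw [Subgroup.coe_inv]
  exact rep_inv (by norm_num) (decP_rep h'.1) h'.1

attribute [local irreducible] cert gc tc evCode canon chainData genCodes

theorem one_rep : Rep 100 (idk 100) ((1 : hjGroup) : Equiv.Perm (Fin 100)) := rep_id (by norm_num)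

theorem pow_rep {c : ℕ} {g : hjGroup} (hg : Rep 100 c (g : Equiv.Perm (Fin 100))) :
    ∀ n, Rep 100 (cpw c n) ((g ^ n : hjGroup) : Equiv.Perm (Fin 100))
  | 0 => by rw [pow_zero, cpw]; exact one_rep
  | n + 1 => by rw [pow_succ', Subgroup.coe_mul, cpw]; exact hg.comp (pow_rep hg n)

theorem ev_rep {g : ℕ → hjGroup} (hg : ∀ k, Rep 100 (gc.getD k (idk 100)) (g k : Equiv.Perm (Fin 100))) :
    ∀ l, Rep 100 (evCode gc l) ((ev g l : hjGroup) : Equiv.Perm (Fin 100))
  | [] => by rw [ev_nil, evCode]; exact one_rep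
  | k :: l => by rw [ev_cons, Subgroup.coe_mul, evCode]; exact (hg k).comp (ev_rep hg l)

theorem exp_four {Γ : Type u} [Group Γ] [Finite Γ] {σ : Γ →* hjGroup} (hσ : Cfsg.IsStemExtension σ)
    (hexp : ∀ z ∈ σ.ker, z ^ 4 = 1) : ∃ w ∈ σ.ker, w ^ 2 = 1 ∧ σ.ker ≤ zpowers w := by
  classical
  have hmc := mem_check
  simp only [Bool.and_eq_true] at hmc
  have hex : ∀ (l li : List ℕ), (l.zip li).length = l.length → (∀ p ∈ l.zip li, p ∈ pairsC) →
      ∀ k, ∃ g : hjGroup, Rep 100 (l.getD k (idk 100)) (g : Equiv.Perm (Fin 100)) := by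
    intro l li hlen hl k
    rcases Nat.lt_or_ge k l.length with h | h
    · have hk : k < (l.zip li).length := hlen.symm ▸ h
      obtain ⟨g, hg, -⟩ := exists_elem (hl _ (List.getElem_mem hk))
      rw [List.getElem_zip] at hg
      exact ⟨g, by rw [List.getD_eq_getElem _ _ h]; exact hg⟩
    · exact ⟨1, by rw [List.getD_eq_default _ _ h]; exact one_rep⟩
  choose g hg using hex gc gcInv (Nat.eq_of_beq_eq_true hmc.1.2)
    (fun p hp => List.mem_append_left _ (List.mem_append_left _ hp))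
  choose t ht using hex tc tcInv (Nat.eq_of_beq_eq_true hmc.2)
    (fun p hp => List.mem_append_left _ (List.mem_append_right _ hp))
  obtain ⟨hC, hf, hd, hn⟩ := cert_check
  simp only [factsOK, Bool.and_eq_true, List.all_eq_true, List.mem_range] at hf
  obtain ⟨hf0, hf⟩ := hf
  have ht0 : t 0 = 1 := Subtype.ext (Rep.of_agree (ht 0) one_rep hf0)
  have hfacts : ∀ m < cert.facts.length,
      t (cert.fact m).1 * ev g (cert.fact m).2.1 * (t (cert.fact m).1)⁻¹ = ev g (cert.fact m).2.2 := by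
    intro m hm
    rw [mul_inv_eq_iff_eq_mul]
    refine Subtype.ext ?_
    rw [Subgroup.coe_mul, Subgroup.coe_mul]
    exact Rep.of_agree ((ht _).comp (ev_rep hg _)) ((ev_rep hg _).comp (ht _)) (hf m hm)
  set P := closure (g '' {k | k < cert.n}) with hP
  have hprods : ∀ d ≤ cert.n, ∀ c ∈ subProds d, ∃ x ∈ P, Rep 100 c (x : Equiv.Perm (Fin 100)) := by
    intro d hd
    induction d with
    | zero =>
      intro c hc
      simp only [subProds, List.mem_singleton] at hc
      subst hc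
      exact ⟨1, one_mem _, one_rep⟩
    | succ d ih =>
      intro c hc
      rcases List.mem_append.mp hc with hc | hc
      · exact ih (by omega) c hc
      · obtain ⟨c', hc', rfl⟩ := List.mem_map.mp hc
        obtain ⟨x, hx, hr⟩ := ih (by omega) c' hc'
        refine ⟨g (cert.n - (d + 1)) * x, mul_mem (subset_closure ⟨_, ?_, rfl⟩) hx, ?_⟩
        · show cert.n - (d + 1) < cert.n
          omega
        · rw [Subgroup.coe_mul]; exact (hg _).comp hr
  have hlen : ∀ d, (subProds d).length = 2 ^ d := fun d => by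
    induction d with
    | zero => rfl
    | succ d ih => rw [subProds, List.length_append, List.length_map, ih, pow_succ]; ring
  have hlow : 2 ^ cert.n ≤ Nat.card P := by
    choose x hx hxr using hprods cert.n le_rfl
    let F : {c // c ∈ (subProds cert.n).map canon} → P := fun c =>
      ⟨x _ (List.mem_map.mp c.2).choose_spec.1, hx _ _⟩
    have hF : Function.Injective F := fun a b h => Subtype.ext (by
      have ha := (List.mem_map.mp a.2).choose_spec
      have hb := (List.mem_map.mp b.2).choose_spec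
      have e : x _ ha.1 = x _ hb.1 := congrArg Subtype.val h
      rw [← ha.2, ← hb.2]
      exact canon_eq (hxr _ ha.1) (by rw [e]; exact hxr _ hb.1))
    refine le_trans (le_of_eq ?_) (Nat.card_le_card_of_injective F hF)
    rw [Nat.subtype_card ((subProds cert.n).map canon).toFinset (fun c => List.mem_toFinset),
      List.toFinset_card_of_nodup (distinctKeys_sound hd), List.length_map, hlen]
  have hup : Nat.card P ≤ 2 ^ cert.n := by
    have h1 : ∀ m (y : hjGroup), Commute ((fun _ => 1 : ℕ → hjGroup) m) y := fun _ y => Commute.one_left y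
    have hz : ∀ N f, CollectMod.zz (fun _ => (1 : hjGroup)) N f = 1 := fun N f => by
      induction N with
      | zero => rfl
      | succ N ih => simp [CollectMod.zz, ih]
    have := CollectMod.card_lift cert (Gl := g) (Tl := t) (E := fun _ => 1) h1 (fun _ => one_pow _) ht0 (fun m => by
      show _ = _ * (1 : hjGroup)
      rw [mul_one]
      by_cases hm : m < cert.facts.length
      · exact hfacts m hm
      · have hd : cert.fact m = (0, [], []) := List.getD_eq_default _ _ (not_lt.mp hm)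
        simp [hd, ev_nil, ht0]) hC
    simp only [hz, mul_one, orderOf_one] at this
    exact le_trans (card_le_of_le (closure_mono Set.subset_union_left)) this
  have hidx : P.index = 4725 := by
    have h := P.card_mul_index
    rw [card_hjGroup, le_antisymm hup hlow, hn.1] at h
    omega
  obtain ⟨w, hw, hwr, hz⟩ := CollectMod.pow_index_mem_zpowers hσ cert (hn.2.1.symm ▸ hexp) hC g t ht0 hfacts hlow
  refine ⟨w, hw, hn.2.2 ▸ hwr, fun z hzk => ?_⟩
  have := hz z hzk
  rwa [← hP, hidx, show (4725 : ℕ) = 4 * 1181 + 1 by norm_num, pow_succ, pow_mul, hexp z hzk, one_pow, one_mul] at this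

theorem odd_facts : ∃ g7 a b c t x y s : hjGroup, orderOf g7 = 7 ∧ orderOf a = 3 ∧ orderOf b = 3 ∧ orderOf c = 3 ∧
    orderOf x = 5 ∧ orderOf y = 5 ∧ ⁅a, b⁆ = c ∧ Commute c a ∧ Commute c b ∧ t * c * t⁻¹ = c ∧ t * a * t⁻¹ = a⁻¹ ∧
    t * b * t⁻¹ = b⁻¹ ∧ Commute x y ∧ s * x * s⁻¹ = x ∧ s * y * s⁻¹ = y⁻¹ ∧
    25 ≤ Nat.card (closure ({x, y} : Set hjGroup)) := by
  classical
  obtain ⟨hord, hrel, hdist⟩ := odd_check
  simp only [Bool.and_eq_true] at hrel
  obtain ⟨⟨⟨⟨⟨⟨⟨⟨eca, ecb⟩, eab⟩, etc⟩, eta⟩, etb⟩, exy⟩, esx⟩, esy⟩ := hrel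
  have hex : ∀ p ∈ [(o7, o7Inv), (oa, oaInv), (ob, obInv), (oc, ocInv), (ot, otInv), (ox, oxInv), (oy, oyInv), (os, osInv)],
      ∃ g : hjGroup, Rep 100 p.1 (g : Equiv.Perm (Fin 100)) ∧ Rep 100 p.2 ((g⁻¹ : hjGroup) : Equiv.Perm (Fin 100)) :=
    fun p hp => exists_elem (List.mem_append_right _ hp)
  obtain ⟨g7, h7, -⟩ := hex (o7, o7Inv) (by simp)
  obtain ⟨a, ha, ha'⟩ := hex (oa, oaInv) (by simp)
  obtain ⟨b, hb, hb'⟩ := hex (ob, obInv) (by simp)
  obtain ⟨c, hc, -⟩ := hex (oc, ocInv) (by simp)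
  obtain ⟨t, ht, -⟩ := hex (ot, otInv) (by simp)
  obtain ⟨x, hx, -⟩ := hex (ox, oxInv) (by simp)
  obtain ⟨y, hy, hy'⟩ := hex (oy, oyInv) (by simp)
  obtain ⟨s, hs, -⟩ := hex (os, osInv) (by simp)
  have ord : ∀ {cc p : ℕ} {g : hjGroup}, Rep 100 cc (g : Equiv.Perm (Fin 100)) → p.Prime →
      (agree (cpw cc p) (idk 100) && !agree cc (idk 100)) = true → orderOf g = p := by
    intro cc p g hg hp h
    haveI := Fact.mk hp
    simp only [Bool.and_eq_true, Bool.not_eq_true'] at h
    refine orderOf_eq_prime (Subtype.ext (Rep.of_agree (pow_rep hg p) one_rep h.1)) fun e => ?_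
    subst e
    have : agree cc (idk 100) = true := by
      rw [agree, canon_eq hg one_rep]; exact Nat.beq_refl _
    rw [this] at h
    exact Bool.false_ne_true h.2.symm
  simp only [List.all_cons, List.all_nil, Bool.and_true, Bool.and_eq_true] at hord
  obtain ⟨k7, ka, kb, kc, kx, ky⟩ := hord
  have eq2 : ∀ {p q r s : hjGroup} {cp' cq cr cs : ℕ}, Rep 100 cp' (p : Equiv.Perm (Fin 100)) →
      Rep 100 cq (q : Equiv.Perm (Fin 100)) → Rep 100 cr (r : Equiv.Perm (Fin 100)) →
      Rep 100 cs (s : Equiv.Perm (Fin 100)) → agree (cp 100 cp' cq) (cp 100 cr cs) = true → p * q = r * s :=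
    fun hp hq hr hs e => Subtype.ext (by
      rw [Subgroup.coe_mul, Subgroup.coe_mul]; exact Rep.of_agree (hp.comp hq) (hr.comp hs) e)
  have hab : a * b = c * b * a :=
    eq2 ha hb (r := c * b) (cr := cp 100 oc ob) (by rw [Subgroup.coe_mul]; exact hc.comp hb) ha eab
  refine ⟨g7, a, b, c, t, x, y, s, ord h7 (by norm_num) (by simp [k7]), ord ha Nat.prime_three (by simp [ka]),
    ord hb Nat.prime_three (by simp [kb]), ord hc Nat.prime_three (by simp [kc]), ord hx Nat.prime_five (by simp [kx]),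
    ord hy Nat.prime_five (by simp [ky]), ?_, eq2 hc ha ha hc eca, eq2 hc hb hb hc ecb,
    mul_inv_eq_iff_eq_mul.mpr (eq2 ht hc hc ht etc), mul_inv_eq_iff_eq_mul.mpr (eq2 ht ha ha' ht eta),
    mul_inv_eq_iff_eq_mul.mpr (eq2 ht hb hb' ht etb), eq2 hx hy hy hx exy,
    mul_inv_eq_iff_eq_mul.mpr (eq2 hs hx hx hs esx), mul_inv_eq_iff_eq_mul.mpr (eq2 hs hy hy' hs esy), ?_⟩
  · rw [commutatorElement_def, hab]; group
  · have hxm : x ∈ closure ({x, y} : Set hjGroup) := Subgroup.subset_closure (by simp)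
    have hym : y ∈ closure ({x, y} : Set hjGroup) := Subgroup.subset_closure (by simp)
    let F : Fin 5 × Fin 5 → closure ({x, y} : Set hjGroup) := fun p =>
      ⟨x ^ (p.1 : ℕ) * y ^ (p.2 : ℕ), mul_mem (pow_mem hxm _) (pow_mem hym _)⟩
    have hF : Function.Injective F := by
      intro p q h
      have hr : ∀ p : Fin 5 × Fin 5, Rep 100 (cp 100 (cpw ox p.1) (cpw oy p.2)) ((F p : hjGroup) : Equiv.Perm (Fin 100)) :=
        fun p => by
          show Rep 100 _ ((x ^ (p.1 : ℕ) * y ^ (p.2 : ℕ) : hjGroup) : Equiv.Perm (Fin 100))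
          rw [Subgroup.coe_mul]; exact (pow_rep hx _).comp (pow_rep hy _)
      have e := canon_eq (hr p) (h ▸ hr q)
      have hidx : ∀ p : Fin 5 × Fin 5, (5 * (p.1 : ℕ) + p.2) / 5 = p.1 ∧ (5 * (p.1 : ℕ) + p.2) % 5 = p.2 :=
        fun p => by omega
      have h25 := List.inj_on_of_nodup_map (distinctKeys_sound hdist)
        (List.mem_range.mpr (show 5 * (p.1 : ℕ) + p.2 < 25 by omega))
        (List.mem_range.mpr (show 5 * (q.1 : ℕ) + q.2 < 25 by omega))
        (by rw [(hidx p).1, (hidx p).2, (hidx q).1, (hidx q).2]; exact e)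
      exact Prod.ext (Fin.ext (by omega)) (Fin.ext (by omega))
    have := Nat.card_le_card_of_injective F hF
    simpa using this

/-- An odd pair with an element fixing one and inverting the other has commuting lifts. -/
theorem commute_lifts_odd {G : Type*} [Group G] {Γ : Type u} [Group Γ] [Finite Γ] {σ : Γ →* G} (hσ : Cfsg.IsStemExtension σ)
    {p : ℕ} (hp : p % 2 = 1) {x y t : G} (hx : x ^ p = 1) (hxy : Commute x y)
    (htx : t * x * t⁻¹ = x) (hty : t * y * t⁻¹ = y⁻¹) {X Y : Γ} (hX : σ X = x) (hY : σ Y = y) : Commute X Y := by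
  obtain ⟨T, hT⟩ := hσ.1 t
  set u := ⁅X, Y⁆ with hu
  have huk : u ∈ σ.ker := by
    rw [MonoidHom.mem_ker, hu, map_commutatorElement, hX, hY, commutatorElement_eq_one_iff_commute]
    exact hxy
  have hc : ∀ g, g * u = u * g := fun g => mem_center_iff.mp (hσ.2.1 huk) g
  have h2 : ⁅T * X * T⁻¹, T * Y * T⁻¹⁆ = ⁅X, Y⁻¹⁆ :=
    CfsgLib.StSL.comm_congr hσ.2.1 (by rw [map_mul, map_mul, map_inv, hT, hX, htx])
      (by rw [map_mul, map_mul, map_inv, map_inv, hT, hY, hty])
  have h3 : ⁅X, Y⁻¹⁆ = u⁻¹ := by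
    have e : X * Y * X⁻¹ = u * Y := by rw [hu, commutatorElement_def]; group
    calc ⁅X, Y⁻¹⁆ = (X * Y * X⁻¹)⁻¹ * Y := by rw [commutatorElement_def]; group
      _ = u⁻¹ := by rw [e, mul_inv_rev, mul_assoc, (show Commute Y u from hc Y).inv_right.symm.eq, inv_mul_cancel_left]
  have hsq : u = u⁻¹ := by
    calc u = T * u * T⁻¹ := by rw [hc T, mul_inv_cancel_right]
      _ = ⁅T * X * T⁻¹, T * Y * T⁻¹⁆ := by rw [hu, commutatorElement_def, commutatorElement_def]; group
      _ = u⁻¹ := by rw [h2, h3]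
  have hup : u ^ p = 1 := by
    refine comm_pow_eq_one (hc X) ?_
    have hXp : X ^ p ∈ σ.ker := by rw [MonoidHom.mem_ker, map_pow, hX, hx]
    exact (mem_center_iff.mp (hσ.2.1 hXp) Y).symm
  have hu1 : u = 1 := by
    have h4 : u ^ 2 = 1 := by rw [sq]; nth_rewrite 2 [hsq]; exact mul_inv_cancel u
    rw [← Nat.mod_add_div p 2, hp, pow_add, pow_one, pow_mul, h4, one_pow, mul_one] at hup
    exact hup
  exact commutatorElement_eq_one_iff_commute.mp hu1

theorem ker_small {Γ : Type u} [Group Γ] [Finite Γ] {σ : Γ →* hjGroup} (hσ : Cfsg.IsStemExtension σ) :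
    ∃ w ∈ σ.ker, w ^ 2 = 1 ∧ σ.ker ≤ zpowers w := by
  classical
  obtain ⟨g7, a, b, c, t, x, y, s, o7', oA, oB, oC, oX, oY, hcd, hca, hcb, htc, hta, htb, hxy, hsx, hsy, h25⟩ :=
    odd_facts
  haveI : Fact (Nat.Prime 5) := ⟨Nat.prime_five⟩
  have ha3 : a ^ 3 = 1 := oA ▸ pow_orderOf_eq_one a
  have hidx : ∀ (P : Subgroup hjGroup) (m i : ℕ), m ∣ Nat.card P → m * i = 604800 → 0 < m → P.index ∣ i := by
    intro P m i hm hmi hpos
    obtain ⟨d, hd⟩ := hm
    refine ⟨d, Nat.eq_of_mul_eq_mul_left hpos ?_⟩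
    rw [hmi, ← card_hjGroup, ← P.card_mul_index, hd]; ring
  have h128 : ∀ z ∈ σ.ker, z ^ 128 = 1 := by
    intro z hz
    have d1 : orderOf z ∣ 86400 := (orderOf_dvd_of_pow_eq_one (CfsgLib.StSL.pow_index_eq_one_of_cyclic hσ g7 hz)).trans
      (hidx _ 7 86400 (by rw [Nat.card_zpowers, o7']) (by norm_num) (by norm_num))
    have d3 : orderOf z ∣ 22400 := (orderOf_dvd_of_pow_eq_one
      (pow_index_eq_one_of_heisenberg hσ ha3 hcd hca hcb oC htc hta htb hz)).trans
      (hidx _ (3 ^ 3) 22400 (MathieuTwelve.three_cubed_dvd oA oB oC hcd hca hcb) (by norm_num) (by norm_num))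
    have d5 : orderOf z ∣ 24192 := by
      obtain ⟨X, hX⟩ := hσ.1 x
      obtain ⟨Y, hY⟩ := hσ.1 y
      have hXY := commute_lifts_odd hσ (p := 5) rfl (oX ▸ pow_orderOf_eq_one x) hxy hsx hsy hX hY
      have h := pow_index_eq_one_of_commute hσ (X := {X, Y}) (by
        rintro a (rfl | rfl) b (rfl | rfl)
        exacts [Commute.refl _, hXY, hXY.symm, Commute.refl _]) hz
      rw [Set.image_pair, hX, hY] at h
      refine (orderOf_dvd_of_pow_eq_one h).trans (hidx _ (5 ^ 2) 24192 ?_ (by norm_num) (by norm_num))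
      have hP : IsPGroup 5 (closure ({x, y} : Set hjGroup)) := by
        have hN : zpowers y ≤ normalizer (zpowers x : Set hjGroup) := by
          rw [zpowers_le, mem_normalizer_iff_map_conj_eq, MonoidHom.map_zpowers]
          congr 1
          exact mul_inv_eq_iff_eq_mul.mpr hxy.symm.eq
        rw [Set.insert_eq, Subgroup.closure_union, ← zpowers_eq_closure, ← zpowers_eq_closure]
        exact (IsPGroup.of_card (n := 1) (by rw [Nat.card_zpowers, oX, pow_one])).to_sup_of_normal_left'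
          (IsPGroup.of_card (n := 1) (by rw [Nat.card_zpowers, oY, pow_one])) hN
      obtain ⟨k, hk⟩ := IsPGroup.iff_card.mp hP
      rw [hk]
      refine pow_dvd_pow 5 ?_
      by_contra hlt
      have := Nat.pow_le_pow_right (show 1 ≤ 5 by norm_num) (show k ≤ 1 by omega)
      omega
    exact orderOf_dvd_iff_pow_eq_one.mp ((Nat.dvd_gcd (Nat.dvd_gcd d1 d3) d5).trans (by norm_num))
  obtain ⟨z₀, hz₀, ⟨y₀, hy₀, he₀⟩, hall⟩ := CollectMod.mod_pow hσ 4 2 (fun Δ _ _ τ hτ hexp => exp_four hτ hexp)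
  have hsq : ∀ z ∈ σ.ker, ∃ v ∈ σ.ker, z ^ 2 = v ^ 4 := by
    intro z hz
    obtain ⟨k, y, hy, rfl⟩ := hall z hz
    refine ⟨y₀ ^ k * y ^ 2, mul_mem (zpow_mem hy₀ k) (pow_mem hy 2), ?_⟩
    have hc : ∀ x, x ∈ σ.ker → ∀ g, Commute x g := fun x hx g => (mem_center_iff.mp (hσ.2.1 hx) g).symm
    rw [(hc _ (zpow_mem hz₀ k) _).mul_pow, (hc _ (zpow_mem hy₀ k) _).mul_pow, ← pow_mul, ← pow_mul]
    congr 1
    rw [← zpow_natCast (z₀ ^ k), ← zpow_natCast (y₀ ^ k), ← zpow_mul, ← zpow_mul, mul_comm k, mul_comm k,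
      zpow_mul, zpow_mul, zpow_natCast, zpow_natCast, he₀]
  have hit : ∀ j : ℕ, ∀ z ∈ σ.ker, ∃ v ∈ σ.ker, z ^ 2 = v ^ 2 ^ (j + 2) := by
    intro j
    induction j with
    | zero => exact hsq
    | succ j ih =>
      intro z hz
      obtain ⟨v, hv, e⟩ := ih z hz
      obtain ⟨u, hu, e'⟩ := hsq v hv
      refine ⟨u, hu, ?_⟩
      rw [e, show 2 ^ (j + 2) = 2 * 2 ^ (j + 1) by ring, pow_mul, e', ← pow_mul]
      congr 1
      ring
  have h2 : ∀ z ∈ σ.ker, z ^ 2 = 1 := by
    intro z hz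
    obtain ⟨v, hv, e⟩ := hit 5 z hz
    rw [e]; exact h128 v hv
  refine ⟨z₀, hz₀, h2 _ hz₀, fun z hz => ?_⟩
  obtain ⟨k, y, hy, rfl⟩ := hall z hz
  rw [show (4 : ℕ) = 2 * 2 from rfl, pow_mul, h2 y hy, one_pow, mul_one]
  exact zpow_mem (mem_zpowers z₀) k

/-! The double cover -/

/-- The vector obtained by the reflections of a word, the last acting first. -/
def wordVec : List ℕ → Vec → Vec
  | [], v => v
  | i :: w, v =>
    let x := wordVec w v
    let r := lineAt i
    let c := Ico.neg (Ico.half (ipV x r))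
    (Ico.add x.1 (Ico.mul c r.1), Ico.add x.2.1 (Ico.mul c r.2.1), Ico.add x.2.2 (Ico.mul c r.2.2))

def wordCode : List ℕ → ℕ
  | [] => idk 100
  | i :: w => cp 100 (rCode i) (wordCode w)

theorem sq_check : (sqWord.all fun i => Nat.blt i 315) = true ∧
    agree (wordCode (sqWord ++ sqWord)) (idk 100) = true ∧
    beqV (wordVec (sqWord ++ sqWord) (lineAt 0)) (lineAt 0) = false := by
  decide +kernel

attribute [local irreducible] smallL lines unitL repL bucketL shortTab lineAt rCode sqWord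

theorem word_el : ∀ w : List ℕ, (∀ i ∈ w, i < 315) → ∃ h : Cfsg.Spor.twoJ2,
    ∀ (g : Cfsg.Spor.twoJ2) (v : List ℕ), Rep 100 (wordCode v) (rho g) →
      act (g : Equiv.Perm Cfsg.Spor.icoLeech) (lineAt 0) = wordVec v (lineAt 0) →
      Rep 100 (wordCode (w ++ v)) (rho (h * g)) ∧
        act ((h * g : Cfsg.Spor.twoJ2) : Equiv.Perm Cfsg.Spor.icoLeech) (lineAt 0) = wordVec (w ++ v) (lineAt 0) := by
  intro w
  induction w with
  | nil => exact fun _ => ⟨1, fun g v a b => by rw [one_mul]; exact ⟨a, b⟩⟩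
  | cons i w ih =>
    intro hw
    obtain ⟨h, hh⟩ := ih fun j hj => hw j (List.mem_cons_of_mem _ hj)
    have hi : i < 315 := hw i (List.mem_cons_self ..)
    refine ⟨reflEl ⟨i, hi⟩ * h, fun g v a b => ?_⟩
    obtain ⟨k1, k2⟩ := hh g v a b
    rw [mul_assoc]
    refine ⟨by rw [map_mul, List.cons_append, wordCode]; exact (rep_refl ⟨i, hi⟩).comp k1, ?_⟩
    have h0 : inLam (lineAt 0) = true := (isMin_lineAt ⟨0, by norm_num⟩).1
    rw [Subgroup.coe_mul, act_mul _ _ h0, k2]
    refine (act_sigma (isMin_lineAt ⟨i, hi⟩) (k2 ▸ act_mem _ h0)).trans ?_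
    apply phi3_inj
    rw [reflV, phi3_addV, phi3_negV, phi3_smulV, List.cons_append, wordVec]
    funext t
    fin_cases t <;> simp [phi3, Ico.phi_add, Ico.phi_mul, Ico.phi_neg]

theorem negEl_square : ∃ a : Cfsg.Spor.twoJ2, negEl = a * a := by
  obtain ⟨hlt, hcode, hvec⟩ := sq_check
  have hw : ∀ i ∈ sqWord, i < 315 := fun i hi => by simpa using List.all_eq_true.mp hlt i hi
  obtain ⟨h, hh⟩ := word_el sqWord hw
  obtain ⟨k1, k2⟩ := hh 1 [] (by rw [map_one, wordCode]; exact rep_id (by norm_num))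
    (by rw [Subgroup.coe_one, act_one]; rfl)
  rw [mul_one, List.append_nil] at k1 k2
  obtain ⟨m1, m2⟩ := hh h sqWord k1 k2
  refine ⟨h, ((rho_ker.mp (Rep.of_agree m1 (rep_id (by norm_num)) hcode)).resolve_left fun e => ?_).symm⟩
  rw [e, Subgroup.coe_one, act_one] at m2
  rw [← m2, beqV_iff.mpr rfl] at hvec
  simp at hvec

theorem perfect : commutator Cfsg.Spor.twoJ2 = ⊤ := by
  classical
  set D := commutator Cfsg.Spor.twoJ2
  have hab : ∀ x y : Cfsg.Spor.twoJ2 ⧸ D, x * y = y * x := by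
    intro x y
    induction x using QuotientGroup.induction_on with | _ x => ?_
    induction y using QuotientGroup.induction_on with | _ y => ?_
    rw [← QuotientGroup.mk_mul, ← QuotientGroup.mk_mul, QuotientGroup.eq, show (x * y)⁻¹ * (y * x) = ⁅y⁻¹, x⁻¹⁆ by group]
    exact commutator_mem_commutator (Subgroup.mem_top _) (Subgroup.mem_top _)
  have hncen : ¬ D ≤ Subgroup.center Cfsg.Spor.twoJ2 := by
    intro hle
    obtain ⟨a, b, hne⟩ := exists_noncomm
    haveI := isSimple_J2
    have hc : commutator Cfsg.Spor.J2 = ⊥ := by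
      rw [eq_bot_iff, _root_.commutator_def, commutator_le]
      intro x _ y _
      induction x using QuotientGroup.induction_on with | _ x => ?_
      induction y using QuotientGroup.induction_on with | _ y => ?_
      exact Subgroup.mem_bot.mpr ((QuotientGroup.eq_one_iff _).mpr
        (hle (commutator_mem_commutator (Subgroup.mem_top x) (Subgroup.mem_top y))))
    have hm : ⁅a, b⁆ ∈ commutator Cfsg.Spor.J2 := commutator_mem_commutator (Subgroup.mem_top _) (Subgroup.mem_top _)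
    rw [hc, Subgroup.mem_bot, commutatorElement_eq_one_iff_commute] at hm
    exact hne hm
  obtain ⟨a, ha⟩ := negEl_square
  refine normal_twoJ2 D ?_ hncen
  rw [ha, ← QuotientGroup.eq_one_iff, QuotientGroup.mk_mul]
  have hcl : a ∈ Subgroup.comap (QuotientGroup.mk' D)
      { carrier := {x | x * x = 1}
        one_mem' := one_mul 1
        mul_mem' := fun {x y} (hx : x * x = 1) (hy : y * y = 1) => by
          show x * y * (x * y) = 1
          rw [mul_assoc, ← mul_assoc y, hab y x, mul_assoc, hy, mul_one, hx]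
        inv_mem' := fun {x} (hx : x * x = 1) => by
          show x⁻¹ * x⁻¹ = 1
          rw [← mul_inv_rev, hx, inv_one] } := by
    clear ha
    obtain ⟨g, hg⟩ := a
    have hg' : g ∈ Subgroup.closure (Set.range fun k => ((genEl k : Cfsg.Spor.twoJ2) : Equiv.Perm Cfsg.Spor.icoLeech)) :=
      closure_gens ▸ hg
    revert hg
    induction hg' using Subgroup.closure_induction with
    | mem x hx =>
      obtain ⟨k, rfl⟩ := hx
      intro h
      show QuotientGroup.mk' D (genEl k) * QuotientGroup.mk' D (genEl k) = 1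
      rw [← map_mul]
      show QuotientGroup.mk' D (reflEl _ * reflEl _) = 1
      rw [reflEl_sq, map_one]
    | one => exact fun _ => one_mem _
    | mul x y hx hy ihx ihy =>
      intro h
      exact mul_mem (ihx (closure_gens.symm ▸ hx)) (ihy (closure_gens.symm ▸ hy))
    | inv x hx ihx => exact fun h => inv_mem (ihx (closure_gens.symm ▸ hx))
  exact hcl

theorem multiplier : Cfsg.HasCyclicSchurMultiplier Cfsg.Spor.J2 2 := by
  haveI : Fact (Nat.Prime 2) := ⟨Nat.prime_two⟩
  have hZ : Nat.card (Multiplicative (ZMod 2)) = 2 := by simp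
  haveI : Finite Cfsg.Spor.twoJ2 := Nat.finite_of_card_ne_zero (by rw [card_twoJ2]; norm_num)
  have hker : (QuotientGroup.mk' (Subgroup.center Cfsg.Spor.twoJ2)).ker = Subgroup.center Cfsg.Spor.twoJ2 :=
    QuotientGroup.ker_mk' _
  refine ⟨⟨Cfsg.Spor.twoJ2, inferInstance, inferInstance, QuotientGroup.mk' _,
    ⟨QuotientGroup.mk'_surjective _, hker.le, by rw [perfect]; exact le_top⟩,
    ⟨mulEquivOfPrimeCardEq (by rw [hker, card_center]) hZ⟩⟩, fun Γ _ _ σ hσ => ?_⟩
  set e := hjEquiv.toMonoidHom.comp σ with he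
  have hek : e.ker = σ.ker := by
    ext x
    simp [he, MonoidHom.mem_ker]
  have hes : Cfsg.IsStemExtension e :=
    ⟨hjEquiv.surjective.comp hσ.1, hek.symm ▸ hσ.2.1, hek.symm ▸ hσ.2.2⟩
  obtain ⟨w, hw, hw2, hle⟩ := ker_small hes
  rw [hek] at hw hle
  by_cases h1 : w = 1
  · refine ⟨1, fun x => ⟨1, ?_⟩⟩
    have := hle x.2
    rw [h1, Subgroup.zpowers_one_eq_bot, Subgroup.mem_bot] at this
    exact Subtype.ext this.symm
  · have hc : Nat.card σ.ker = 2 := by
      rw [le_antisymm hle (Subgroup.zpowers_le.mpr hw), Nat.card_zpowers, orderOf_eq_prime hw2 h1]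
    exact ⟨(mulEquivOfPrimeCardEq hZ hc).toMonoidHom, (mulEquivOfPrimeCardEq hZ hc).surjective⟩

end CfsgHJ.Multiplier
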