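/-
Transitivity on the 100 points.
-/
import Cfsg.Agent.Lib.HallJanko.Blocks

set_option autoImplicit false

namespace CfsgHJ

open Equiv

def lev0 : Level := chainData.getD 0 ⟨0, [], [], []⟩

def toPt (x : ℕ) : ℕ := lev0.tc (lev0.pos.getD x 0)

def toPtInv (x : ℕ) : ℕ := lev0.ti (lev0.pos.getD x 0)

theorem toPt_check : ((List.range 100).all fun x => isPerm 100 (toPt x) (toPtInv x) &&
    sift 100 chainData (toPt x) && Nat.beq (ap (toPt x) 0) x) = true ∧
    ((List.range 4).all fun a => Nat.beq (ap (gCode a) 0) 0) = true := by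
  decide +kernel

attribute [local irreducible] chainData genCodes toPt toPtInv gCode lev0

/-- An element of the group moving `0` to `x`. -/
theorem exists_toPt (x : Fin 100) : ∃ p ∈ hjGroup, p (0 : Fin 100) = x := by
  have h := List.all_eq_true.mp toPt_check.1 x (List.mem_range.mpr x.2)
  simp only [Bool.and_eq_true] at h
  obtain ⟨⟨hp, hs⟩, hx⟩ := h
  exact ⟨_, ((chain_sound (by norm_num) chain_check valid_gens).mem_iff _ _ (decP_rep hp)).mp hs,
    Fin.ext ((decP_rep hp (0 : Fin 100)).symm.trans (Nat.eq_of_beq_eq_true hx))⟩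

theorem gCode_fix {a : ℕ} (ha : a < 4) : ap (gCode a) 0 = 0 :=
  Nat.eq_of_beq_eq_true (List.all_eq_true.mp toPt_check.2 a (List.mem_range.mpr ha))

end CfsgHJ
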