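/-
The outer automorphism group of the Hall–Janko group has order two.
-/
import Cfsg.Agent.Lib.HallJanko.FusionSimple
import Cfsg.Agent.Lib.HallJanko.Trans
import Cfsg.Agent.Lib.HallJanko.OuterData
import Cfsg.Prelude.Def_KGroupFacts

set_option autoImplicit false

namespace CfsgHJ

open Equiv Cfsg.Spor

/-! ### The checks -/

def outCodes (a b c d : ℕ) : List ℕ := [rCode a, rCode b, rCode c, rCode d]

def evW (cs : List ℕ) : List ℕ → ℕ → ℕ
  | [], i => i
  | a :: w, i => ap (cs.getD a 0) (evW cs w i)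

/-- The relation `wⁿ = 1` has the stated truth value. -/
def relOK (cs : List ℕ) (r : List ℕ × ℕ × Bool) : Bool :=
  ((List.range 100).all fun i => Nat.beq (Nat.repeat (evW cs r.1) r.2.1 i) i) == r.2.2

def relsHold (cs : List ℕ) (l : List (List ℕ × ℕ × Bool)) : Bool := l.all (relOK cs)

/-- A witness carries line `j` to line `k`, fixing the lines in `fixed`. -/
def witOK (fixed : List ℕ) (k : ℕ) (w : ℕ × ℕ × ℕ) : Bool :=
  isPerm 100 w.2.1 w.2.2 && sift 100 chainData w.2.1 && (List.range 100).all fun i =>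
    Nat.beq (ap w.2.1 (ap (rCode w.1) i)) (ap (rCode k) (ap w.2.1 i)) &&
      fixed.all fun f => Nat.beq (ap w.2.1 (ap (rCode f) i)) (ap (rCode f) (ap w.2.1 i))

theorem out_valid : (Nat.blt outL1 315 && Nat.blt outL2 315 && Nat.blt outL3 315 &&
    Nat.blt outL3' 315) = true := by decide +kernel

theorem out_rels : relsHold (outCodes baseLine outL1 0 0) outRel1 = true ∧
    relsHold (outCodes baseLine outL1 outL2 0) outRel2 = true ∧
    relsHold (outCodes baseLine outL1 outL2 outL3) outRel3 = true ∧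
    (((outRel1.all fun r => r.1.all fun a => Nat.blt a 2) &&
    (outRel2.all fun r => r.1.all fun a => Nat.blt a 3)) &&
    (outRel3.all fun r => r.1.all fun a => Nat.blt a 4)) = true := by decide +kernel

theorem out_step1 : ((List.range 315).all fun j => !relsHold (outCodes baseLine j 0 0) outRel1 ||
    outWit1.any fun w => Nat.beq w.1 j && witOK [baseLine] outL1 w) = true := by decide +kernel

theorem out_step2 : ((List.range 315).all fun j => !relsHold (outCodes baseLine outL1 j 0) outRel2 ||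
    outWit2.any fun w => Nat.beq w.1 j && witOK [baseLine, outL1] outL2 w) = true := by decide +kernel

theorem out_step3 : ((List.range 315).all fun j => !relsHold (outCodes baseLine outL1 outL2 j) outRel3 ||
    Nat.beq j outL3 || Nat.beq j outL3') = true := by decide +kernel

theorem out_gen : chainOK 100 chainOut (outCodes baseLine outL1 outL2 outL3) = true ∧
    sizeOfChain chainOut = 604800 := by decide +kernel

theorem out_tau : isPerm 100 outTau outTauInv = true ∧ isPerm 100 outTauInv outTau = true ∧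
    sift 100 chainData outTau = false ∧
    (genCodes.all fun c => sift 100 chainData (cp 100 outTau (cp 100 c outTauInv))) = true := by
  decide +kernel

theorem only_fixed : ((List.range 100).all fun x => Nat.beq x 0 ||
    (List.range 4).any fun a => !Nat.beq (ap (gCode a) x) x) = true := by decide +kernel

attribute [local irreducible] outL1 outL2 outL3 outL3' outRel1 outRel2 outRel3 outTau outTauInv
  outWit1 outWit2 chainOut rCode gCode chainData genCodes syGens syCore syList chainSy chainCore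

/-! ### The centre of the Sylow subgroup -/

theorem centre_sylow {u : Perm (Fin 100)} (hu : u ∈ genG 100 syGens)
    (h : ∀ q ∈ genG 100 syCore, Commute u q) : u = 1 ∨ u = rho (reflEl base0) := by
  classical
  have hperm := sy_perm
  simp only [List.all_append, Bool.and_eq_true] at hperm
  obtain ⟨⟨vS, vC⟩, -⟩ := hperm
  obtain ⟨hS, hSsize, -⟩ := sy_chains
  have sS := chain_sound (by norm_num) hS (valid_of_isPermC vS)
  have hcard : Nat.card (genG 100 syGens) = 128 := sS.card.trans hSsize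
  obtain ⟨hlist, hl01⟩ := sy_list
  simp only [List.all_eq_true, List.mem_range, Bool.and_eq_true] at hlist hl01
  have hel : ∀ k : Fin 128, ∃ v : genG 100 syGens, Rep 100 (syList.getD k 0) v := fun k => by
    obtain ⟨⟨⟨hp, hs⟩, -⟩, -⟩ := hlist k k.2
    obtain ⟨p, hp'⟩ := exists_of_isPermC hp
    exact ⟨⟨p, (sS.mem_iff _ _ hp').mp hs⟩, hp'⟩
  choose el hel using hel
  have elinj : Function.Injective el := by
    have lt : ∀ k l : Fin 128, l < k → el k ≠ el l := fun k l hlk e => by
      obtain ⟨i, hi, hne⟩ := List.any_eq_true.mp ((hlist k k.2).1.2 l hlk)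
      rw [List.mem_range] at hi
      have h1 := hel k ⟨i, hi⟩
      rw [e, ← hel l ⟨i, hi⟩] at h1
      simp only at h1
      rw [h1, Nat.beq_refl] at hne
      simp at hne
    intro k l e
    rcases lt_trichotomy k l with h' | h' | h'
    · exact absurd e.symm (lt l k h')
    · exact h'
    · exact absurd e (lt k l h')
  obtain ⟨k, hk⟩ : ∃ k, el k = ⟨u, hu⟩ := by
    haveI : Finite (genG 100 syGens) := Nat.finite_of_card_ne_zero (by omega)
    haveI : Fintype (genG 100 syGens) := Fintype.ofFinite _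
    exact ((Fintype.bijective_iff_injective_and_card el).mpr
      ⟨elinj, by rw [Fintype.card_fin, ← Nat.card_eq_fintype_card, hcard]⟩).2 _
  have hr : Rep 100 (syList.getD k 0) u := by
    have := hel k; rwa [hk] at this
  rcases Bool.or_eq_true _ _ ▸ (hlist k k.2).2 with hk2 | hne
  · rw [Nat.blt_eq] at hk2
    have : (k : ℕ) = 0 ∨ (k : ℕ) = 1 := by omega
    rcases this with e | e <;> rw [e] at hr
    · exact Or.inl (Equiv.ext fun i => Fin.ext
        ((hr i).symm.trans (Nat.eq_of_beq_eq_true (hl01 i i.2).1)))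
    · exact Or.inr (Equiv.ext fun i => Fin.ext
        ((hr i).symm.trans ((Nat.eq_of_beq_eq_true (hl01 i i.2).2).trans (rep_refl base0 i))))
  · obtain ⟨c, hc, hne⟩ := List.any_eq_true.mp hne
    obtain ⟨i, hi, hne⟩ := List.any_eq_true.mp hne
    rw [List.mem_range] at hi
    obtain ⟨p, hp⟩ := valid_of_isPermC vC c hc
    have e := congrArg (fun t : Perm (Fin 100) => (t ⟨i, hi⟩ : ℕ))
      (h p (Subgroup.subset_closure ⟨c, hc, hp⟩)).eq
    simp only [Perm.mul_apply] at e
    rw [← hr, ← hp, ← hp, ← hr] at e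
    simp only at e
    rw [e, Nat.beq_refl] at hne
    simp at hne

/-! ### Automorphisms -/

/-- The action of `J₂` on 100 points. -/
noncomputable def psi : J2 →* Perm (Fin 100) := hjGroup.subtype.comp hjEquiv.toMonoidHom

theorem psi_injective : Function.Injective psi := Subtype.val_injective.comp hjEquiv.injective

theorem psi_surj {p : Perm (Fin 100)} (hp : p ∈ hjGroup) : ∃ g, psi g = p :=
  ⟨hjEquiv.symm ⟨p, hp⟩, by simp [psi]⟩

theorem finite_J2 : Finite J2 := Nat.finite_of_card_ne_zero (by rw [card_J2]; norm_num)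

/-- The reflection of a line in `J₂`. -/
noncomputable def reflJ (i : Fin 315) : J2 := QuotientGroup.mk (reflEl i)

theorem psi_reflJ (i : Fin 315) : psi (reflJ i) = rho (reflEl i) := hjEquiv_mk _

theorem rep_reflJ (i : Fin 315) : Rep 100 (rCode i) (psi (reflJ i)) := psi_reflJ i ▸ rep_refl i

theorem conj_reflJ (g : twoJ2) (j : Fin 315) :
    (QuotientGroup.mk g : J2) * reflJ j * (QuotientGroup.mk g : J2)⁻¹ = reflJ (lineHom g j) := by
  rw [reflJ, reflJ, ← QuotientGroup.mk_inv, ← QuotientGroup.mk_mul, ← QuotientGroup.mk_mul,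
    conj_reflEl]

theorem exists_reflJ_conj (x : J2) : ∃ j, x * reflJ base0 * x⁻¹ = reflJ j := by
  obtain ⟨g, rfl⟩ := QuotientGroup.mk_surjective x
  exact ⟨_, conj_reflJ g base0⟩

theorem refl_ne_one : rho (reflEl base0) ≠ 1 := by
  intro h
  have hl := sy_list
  simp only [List.all_eq_true, List.mem_range, Bool.and_eq_true, List.any_eq_true] at hl
  obtain ⟨i, hi, hne⟩ := (hl.1 1 (by norm_num)).1.2 0 (by norm_num)
  have h0 := (hl.2 i hi)
  have hb : ap (rCode baseLine) i = i := by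
    have e := rep_refl base0 ⟨i, hi⟩
    rw [h] at e
    exact e
  rw [Nat.eq_of_beq_eq_true h0.1, Nat.eq_of_beq_eq_true h0.2, hb] at hne
  simp at hne

/-- An automorphism sends the base reflection to a reflection. -/
theorem aut_refl (α : MulAut J2) : ∃ j, α (reflJ base0) = reflJ j := by
  classical
  haveI := finite_J2
  haveI : Fact (Nat.Prime 2) := ⟨Nat.prime_two⟩
  set z := reflJ base0
  -- the Sylow subgroup and its centre
  let U : Subgroup J2 := (genG 100 syGens).comap psi
  have hperm := sy_perm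
  simp only [List.all_append, Bool.and_eq_true] at hperm
  obtain ⟨⟨vS, -⟩, vT⟩ := hperm
  obtain ⟨hS, hSsize, -, -, hT, -⟩ := sy_chains
  have sS := chain_sound (by norm_num) hS (valid_of_isPermC vS)
  have sT := chain_sound (by norm_num) hT (valid_of_isPermC vT)
  obtain ⟨hin, hCS, hzS, hT8, hST⟩ := sy_inG
  simp only [List.all_append, Bool.and_eq_true, List.all_eq_true] at hin
  have hGs : genG 100 syGens ≤ hjGroup := by
    rw [genG, Subgroup.closure_le]
    rintro p ⟨c, hc, hp⟩
    exact ((chain_sound (by norm_num) chain_check valid_gens).mem_iff _ _ hp).mp (hin.1.1 c hc)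
  have hGc : genG 100 syCore ≤ genG 100 syGens := by
    rw [genG, Subgroup.closure_le]
    rintro p ⟨c, hc, hp⟩
    exact (sS.mem_iff _ _ hp).mp (List.all_eq_true.mp hCS c hc)
  have cardU : Nat.card U = 128 := by
    rw [Nat.card_congr (U.equivMapOfInjective psi psi_injective).toEquiv,
      Subgroup.map_comap_eq_self (fun p hp => psi_surj (hGs hp)), sS.card, hSsize]
  have hzU : z ∈ U := (sS.mem_iff _ _ (rep_reflJ base0)).mp hzS
  have hzcomm : ∀ u ∈ U, u * z = z * u := by
    intro u hu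
    have hle : genG 100 syGens ≤ Subgroup.centralizer {psi z} := by
      refine le_trans (b := genG 100 syTwo) ?_ ?_ <;> rw [genG, Subgroup.closure_le]
      · rintro p ⟨c, hc, hp⟩
        exact (sT.mem_iff _ _ hp).mp (List.all_eq_true.mp hST c hc)
      · rintro p ⟨c, hc, hp⟩
        refine Subgroup.mem_centralizer_singleton_iff.mpr (Equiv.ext fun i => Fin.ext ?_)
        have h := List.all_eq_true.mp (List.all_eq_true.mp hT8 c hc) i (List.mem_range.mpr i.2)
        simp only [Bool.and_eq_true] at h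
        rw [Perm.mul_apply, Perm.mul_apply, ← hp, ← rep_reflJ base0, ← rep_reflJ base0 (p i), ← hp i]
        exact Nat.eq_of_beq_eq_true h.2
    apply psi_injective
    rw [map_mul, map_mul]
    exact Subgroup.mem_centralizer_singleton_iff.mp (hle hu)
  -- `α⁻¹` carries `U` to a Sylow subgroup centralising `z`; compare with `U`
  let V : Subgroup J2 := U.map α.toMonoidHom
  have cardV : Nat.card V = 128 := by
    rw [← Nat.card_congr (U.equivMapOfInjective α.toMonoidHom α.injective).toEquiv, cardU]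
  have hidx : ∀ {W : Subgroup J2}, Nat.card W = 128 → ¬ 2 ∣ W.index := by
    intro W hW
    have h := W.card_mul_index
    rw [hW, card_J2] at h
    omega
  let P : Sylow 2 J2 := (IsPGroup.of_card (n := 7) (by rw [cardU]; norm_num) : IsPGroup 2 U).toSylow (hidx cardU)
  let P' : Sylow 2 J2 := (IsPGroup.of_card (n := 7) (by rw [cardV]; norm_num) : IsPGroup 2 V).toSylow (hidx cardV)
  obtain ⟨c, hc⟩ := MulAction.exists_smul_eq J2 P' P
  have hcV : ∀ x, x ∈ V → c * x * c⁻¹ ∈ U := fun x hx => by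
    have h : c * x * c⁻¹ ∈ (c • P' : Sylow 2 J2).1 := by
      rw [Sylow.coe_subgroup_smul]; exact ⟨x, hx, rfl⟩
    rwa [hc] at h
  have hcU : ∀ u ∈ U, ∃ x ∈ V, c * x * c⁻¹ = u := fun u hu => by
    have h : u ∈ (c • P' : Sylow 2 J2).1 := by rw [hc]; exact hu
    rw [Sylow.coe_subgroup_smul] at h
    obtain ⟨x, hx, e⟩ := h
    exact ⟨x, hx, e⟩
  have hy : c * α z * c⁻¹ ∈ U := hcV _ ⟨z, hzU, rfl⟩
  have hcentral : ∀ q ∈ genG 100 syCore, Commute (psi (c * α z * c⁻¹)) q := by
    intro q hq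
    obtain ⟨g, rfl⟩ := psi_surj (hGs (hGc hq))
    obtain ⟨_, ⟨u, hu, rfl⟩, rfl⟩ := hcU g (hGc hq)
    refine Commute.map ?_ psi
    show c * α z * c⁻¹ * (c * α u * c⁻¹) = c * α u * c⁻¹ * (c * α z * c⁻¹)
    have h := congrArg α (hzcomm u hu)
    rw [map_mul, map_mul] at h
    simp only [mul_assoc, inv_mul_cancel_left]
    rw [← mul_assoc (α z), ← h, mul_assoc]
  rcases centre_sylow hy hcentral with h | h
  · exfalso
    have h' : c * α z * c⁻¹ = 1 := psi_injective (h.trans (map_one _).symm)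
    rw [conj_eq_one_iff, MulEquiv.map_eq_one_iff] at h'
    have := congrArg psi h'
    rw [psi_reflJ, map_one] at this
    exact refl_ne_one this
  · have h' : c * α z * c⁻¹ = z := psi_injective (h.trans (psi_reflJ base0).symm)
    obtain ⟨j, hj⟩ := exists_reflJ_conj c⁻¹
    refine ⟨j, ?_⟩
    rw [← hj]
    calc α z = c⁻¹ * (c * α z * c⁻¹) * c⁻¹⁻¹ := by group
      _ = _ := by rw [h']

theorem psi_apply (g : J2) : psi g = ((hjEquiv g : hjGroup) : Perm (Fin 100)) := rfl

attribute [local irreducible] reflJ psi rho reflEl hjEquiv lineHom relsHold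

theorem exists_code_outCodes {a : ℕ} (ls : Fin 4 → Fin 315) (ha : a < 4) :
    (outCodes (ls 0) (ls 1) (ls 2) (ls 3)).getD a 0 = rCode (ls ⟨a, ha⟩) := by
  unfold outCodes
  interval_cases a <;> rfl

theorem evW_eq (ls : Fin 4 → Fin 315) : ∀ (w : List ℕ), (∀ a ∈ w, a < 4) → ∀ i : Fin 100,
    evW (outCodes (ls 0) (ls 1) (ls 2) (ls 3)) w i =
      ((psi (w.map fun a => reflJ (ls ⟨a % 4, Nat.mod_lt _ (by norm_num)⟩)).prod) i : ℕ) := by
  intro w
  induction w with
  | nil => intro _ i; simp [evW]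
  | cons a w ih =>
    intro h i
    have ha : a < 4 := h a (List.mem_cons_self ..)
    rw [evW, ih (fun b hb => h b (List.mem_cons_of_mem _ hb)), exists_code_outCodes ls ha,
      rep_reflJ, List.map_cons, List.prod_cons, map_mul, Perm.mul_apply]
    simp [Nat.mod_eq_of_lt ha]

theorem relOK_iff (ls : Fin 4 → Fin 315) (r : List ℕ × ℕ × Bool) (hr : ∀ a ∈ r.1, a < 4) :
    relOK (outCodes (ls 0) (ls 1) (ls 2) (ls 3)) r = true ↔
      (((r.1.map fun a => reflJ (ls ⟨a % 4, Nat.mod_lt _ (by norm_num)⟩)).prod ^ r.2.1 = 1) ↔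
        r.2.2 = true) := by
  set g := (r.1.map fun a => reflJ (ls ⟨a % 4, Nat.mod_lt _ (by norm_num)⟩)).prod
  have key : ∀ (m : ℕ) (i : Fin 100),
      Nat.repeat (evW (outCodes (ls 0) (ls 1) (ls 2) (ls 3)) r.1) m i = (psi (g ^ m) i : ℕ) := by
    intro m
    induction m with
    | zero => intro i; simp [Nat.repeat]
    | succ m ih =>
      intro i
      show evW _ r.1 (Nat.repeat _ m i) = _
      rw [ih, evW_eq ls r.1 hr, pow_succ', map_mul, Perm.mul_apply]
  have hiff : ((List.range 100).all fun i => Nat.beq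
      (Nat.repeat (evW (outCodes (ls 0) (ls 1) (ls 2) (ls 3)) r.1) r.2.1 i) i) = true ↔
      g ^ r.2.1 = 1 := by
    simp only [List.all_eq_true, List.mem_range]
    constructor
    · intro h
      apply psi_injective
      rw [map_one]
      exact Equiv.ext fun i => Fin.ext (by
        rw [← key]; exact Nat.eq_of_beq_eq_true (h i i.2))
    · intro h i hi
      rw [key r.2.1 ⟨i, hi⟩, h, map_one]
      exact Nat.beq_refl i
  unfold relOK
  rw [← hiff]
  cases (List.range 100).all fun i => Nat.beq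
      (Nat.repeat (evW (outCodes (ls 0) (ls 1) (ls 2) (ls 3)) r.1) r.2.1 i) i <;>
    cases r.2.2 <;> simp

/-- Relations are kept by automorphisms. -/
theorem rels_transfer {k : ℕ} (hk : k ≤ 4) (α : MulAut J2) (ls ls' : Fin 4 → Fin 315)
    (h : ∀ a : Fin 4, (a : ℕ) < k → α (reflJ (ls a)) = reflJ (ls' a))
    (l : List (List ℕ × ℕ × Bool)) (hl : ∀ r ∈ l, ∀ a ∈ r.1, a < k)
    (hrel : relsHold (outCodes (ls 0) (ls 1) (ls 2) (ls 3)) l = true) :
    relsHold (outCodes (ls' 0) (ls' 1) (ls' 2) (ls' 3)) l = true := by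
  simp only [relsHold, List.all_eq_true] at hrel ⊢
  intro r hr
  have hlt : ∀ a ∈ r.1, a < 4 := fun a ha => lt_of_lt_of_le (hl r hr a ha) hk
  rw [relOK_iff ls' r hlt]
  have e : α (r.1.map fun a => reflJ (ls ⟨a % 4, Nat.mod_lt _ (by norm_num)⟩)).prod =
      (r.1.map fun a => reflJ (ls' ⟨a % 4, Nat.mod_lt _ (by norm_num)⟩)).prod := by
    rw [map_list_prod, List.map_map]
    refine congrArg List.prod (List.map_congr_left fun a ha => ?_)
    exact h _ (show a % 4 < k by rw [Nat.mod_eq_of_lt (hlt a ha)]; exact hl r hr a ha)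
  rw [← e, ← map_pow, MulEquiv.map_eq_one_iff]
  exact (relOK_iff ls r hlt).mp (hrel r hr)

theorem exists_of_wit {fixed : List ℕ} {k : Fin 315} {j : Fin 315} {w : ℕ × ℕ × ℕ}
    (hj : Nat.beq w.1 j = true) (h : witOK fixed k w = true) :
    ∃ g : J2, g * reflJ j * g⁻¹ = reflJ k ∧
      ∀ f : Fin 315, (f : ℕ) ∈ fixed → g * reflJ f * g⁻¹ = reflJ f := by
  simp only [witOK, Bool.and_eq_true, List.all_eq_true, List.mem_range] at h
  obtain ⟨⟨hp, hs⟩, hall⟩ := h
  obtain ⟨g, hg⟩ := psi_surj (((chain_sound (by norm_num) chain_check valid_gens).mem_iff _ _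
    (decP_rep hp)).mp hs)
  have hr : Rep 100 w.2.1 (psi g) := hg ▸ decP_rep hp
  have main : ∀ a b : Fin 315, (∀ i < 100, Nat.beq (ap w.2.1 (ap (rCode a) i))
      (ap (rCode b) (ap w.2.1 i)) = true) → g * reflJ a * g⁻¹ = reflJ b := fun a b hab => by
    rw [mul_inv_eq_iff_eq_mul]
    apply psi_injective
    rw [map_mul, map_mul]
    refine Equiv.ext fun i => Fin.ext ?_
    rw [Perm.mul_apply, Perm.mul_apply, ← hr, ← rep_reflJ a, ← rep_reflJ b, ← hr i]
    exact Nat.eq_of_beq_eq_true (hab i i.2)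
  refine ⟨g, main j k fun i hi => ?_, fun f hf => main f f fun i hi => (hall i hi).2 f hf⟩
  rw [← Nat.eq_of_beq_eq_true hj]
  exact (hall i hi).1

theorem out_class (α : MulAut J2) :
    ∃ (β : MulAut J2) (L1 L2 L3 L3' : Fin 315), QuotientGroup.mk' (Cfsg.Inn J2) β = QuotientGroup.mk' _ α ∧
      ((L1 : ℕ) = outL1 ∧ (L2 : ℕ) = outL2 ∧ (L3 : ℕ) = outL3 ∧ (L3' : ℕ) = outL3') ∧
      β (reflJ base0) = reflJ base0 ∧ β (reflJ L1) = reflJ L1 ∧ β (reflJ L2) = reflJ L2 ∧
      (β (reflJ L3) = reflJ L3 ∨ β (reflJ L3) = reflJ L3') := by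
  have hv := out_valid
  simp only [Bool.and_eq_true, Nat.blt_eq] at hv
  obtain ⟨⟨⟨v1, v2⟩, v3⟩, v3'⟩ := hv
  set L1 : Fin 315 := ⟨outL1, v1⟩
  set L2 : Fin 315 := ⟨outL2, v2⟩
  set L3 : Fin 315 := ⟨outL3, v3⟩
  set L3' : Fin 315 := ⟨outL3', v3'⟩
  obtain ⟨hr1, hr2, hr3, hb⟩ := out_rels
  simp only [Bool.and_eq_true, List.all_eq_true, Nat.blt_eq] at hb
  obtain ⟨⟨hb1, hb2⟩, hb3⟩ := hb
  -- every reflection goes to a reflection once the base one is fixed
  have hrefl : ∀ β : MulAut J2, β (reflJ base0) = reflJ base0 → ∀ j, ∃ j', β (reflJ j) = reflJ j' := by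
    intro β hβ j
    obtain ⟨g, hg⟩ := exists_lineHom_eq j
    rw [← hg, ← conj_reflJ, map_mul, map_mul, map_inv, hβ]
    exact exists_reflJ_conj _
  have inner : ∀ (g : J2) (β : MulAut J2),
      QuotientGroup.mk' (Cfsg.Inn J2) (MulAut.conj g * β) = QuotientGroup.mk' _ β := fun g β => by
    rw [map_mul, show QuotientGroup.mk' (Cfsg.Inn J2) (MulAut.conj g) = 1 from
      (QuotientGroup.eq_one_iff _).mpr ⟨g, rfl⟩, one_mul]
  have capp : ∀ (g : J2) (β : MulAut J2) (x : J2), (MulAut.conj g * β) x = g * β x * g⁻¹ :=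
    fun g β x => rfl
  -- the base reflection
  obtain ⟨j0, hj0⟩ := aut_refl α
  obtain ⟨g0, hg0⟩ := exists_lineHom_eq j0
  set α1 := MulAut.conj ((QuotientGroup.mk g0 : J2)⁻¹) * α with hα1
  have a0 : α1 (reflJ base0) = reflJ base0 := by
    rw [hα1, capp, hj0, ← hg0, ← conj_reflJ]; group
  -- the second
  obtain ⟨j1, hj1⟩ := hrefl α1 a0 L1
  have t1 := rels_transfer (k := 2) (by norm_num) α1 ![base0, L1, ⟨0, by norm_num⟩, ⟨0, by norm_num⟩]
    ![base0, j1, ⟨0, by norm_num⟩, ⟨0, by norm_num⟩]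
    (fun a ha => by fin_cases a <;> first | exact a0 | exact hj1 | (simp at ha)) outRel1 hb1 hr1
  have s1 := List.all_eq_true.mp out_step1 j1 (List.mem_range.mpr j1.2)
  rw [Bool.or_eq_true, List.any_eq_true] at s1
  obtain ⟨w1, -, hw1⟩ := s1.resolve_left (by
    simp only [Bool.not_eq_true', Bool.not_eq_false]; exact t1)
  rw [Bool.and_eq_true] at hw1
  obtain ⟨g1, hg1, hf1⟩ := exists_of_wit (k := L1) (j := j1) hw1.1 hw1.2
  set α2 := MulAut.conj g1 * α1 with hα2
  have b0 : α2 (reflJ base0) = reflJ base0 := by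
    rw [hα2, capp, a0]; exact hf1 base0 (by simp [base0])
  have b1 : α2 (reflJ L1) = reflJ L1 := by rw [hα2, capp, hj1]; exact hg1
  -- the third
  obtain ⟨j2, hj2⟩ := hrefl α2 b0 L2
  have t2 := rels_transfer (k := 3) (by norm_num) α2 ![base0, L1, L2, ⟨0, by norm_num⟩]
    ![base0, L1, j2, ⟨0, by norm_num⟩]
    (fun a ha => by fin_cases a <;> first | exact b0 | exact b1 | exact hj2 | (simp at ha)) outRel2 hb2 hr2
  have s2 := List.all_eq_true.mp out_step2 j2 (List.mem_range.mpr j2.2)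
  rw [Bool.or_eq_true, List.any_eq_true] at s2
  obtain ⟨w2, -, hw2⟩ := s2.resolve_left (by
    simp only [Bool.not_eq_true', Bool.not_eq_false]; exact t2)
  rw [Bool.and_eq_true] at hw2
  obtain ⟨g2, hg2, hf2⟩ := exists_of_wit (k := L2) (j := j2) hw2.1 hw2.2
  set α3 := MulAut.conj g2 * α2 with hα3
  have c0 : α3 (reflJ base0) = reflJ base0 := by
    rw [hα3, capp, b0]; exact hf2 base0 (by simp [base0])
  have c1 : α3 (reflJ L1) = reflJ L1 := by rw [hα3, capp, b1]; exact hf2 L1 (by simp [L1])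
  have c2 : α3 (reflJ L2) = reflJ L2 := by rw [hα3, capp, hj2]; exact hg2
  -- the fourth
  obtain ⟨j3, hj3⟩ := hrefl α3 c0 L3
  have t3 := rels_transfer (k := 4) le_rfl α3 ![base0, L1, L2, L3] ![base0, L1, L2, j3]
    (fun a _ => by fin_cases a <;> first | exact c0 | exact c1 | exact c2 | exact hj3) outRel3 hb3 hr3
  have s3 := List.all_eq_true.mp out_step3 j3 (List.mem_range.mpr j3.2)
  simp only [Bool.or_eq_true, Bool.not_eq_true'] at s3
  refine ⟨α3, L1, L2, L3, L3', by rw [hα3, inner, hα2, inner, hα1, inner], ⟨rfl, rfl, rfl, rfl⟩,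
    c0, c1, c2, ?_⟩
  rcases s3 with (h | h) | h
  · exact absurd (t3.symm.trans h) (by decide)
  · exact Or.inl (hj3.trans (congrArg reflJ (Fin.ext (Nat.eq_of_beq_eq_true h))))
  · exact Or.inr (hj3.trans (congrArg reflJ (Fin.ext (Nat.eq_of_beq_eq_true h))))

theorem aut_eq (L1 L2 L3 : Fin 315) (h1 : (L1 : ℕ) = outL1) (h2 : (L2 : ℕ) = outL2)
    (h3 : (L3 : ℕ) = outL3) (β γ : MulAut J2) (e0 : β (reflJ base0) = γ (reflJ base0))
    (e1 : β (reflJ L1) = γ (reflJ L1)) (e2 : β (reflJ L2) = γ (reflJ L2))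
    (e3 : β (reflJ L3) = γ (reflJ L3)) : β = γ := by
  haveI := finite_J2
  set ls : List (Fin 315) := [base0, L1, L2, L3] with hls
  set K : Subgroup J2 := Subgroup.closure {g | ∃ i ∈ ls, g = reflJ i}
  have hmap : K.map psi = genG 100 (outCodes baseLine outL1 outL2 outL3) := by
    rw [MonoidHom.map_closure, genG]
    congr 1
    ext p
    constructor
    · rintro ⟨g, ⟨i, hi, rfl⟩, rfl⟩
      refine ⟨rCode i, ?_, rep_reflJ i⟩
      simp only [hls, List.mem_cons, List.not_mem_nil, or_false] at hi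
      rcases hi with rfl | rfl | rfl | rfl <;> simp [outCodes, ← h1, ← h2, ← h3, base0]
    · rintro ⟨c, hc, hp⟩
      simp only [outCodes, List.mem_cons, List.not_mem_nil, or_false, ← h1, ← h2, ← h3] at hc
      rcases hc with rfl | rfl | rfl | rfl
      · exact ⟨_, ⟨base0, by simp [hls], rfl⟩, (rep_reflJ base0).unique hp⟩
      · exact ⟨_, ⟨L1, by simp [hls], rfl⟩, (rep_reflJ L1).unique hp⟩
      · exact ⟨_, ⟨L2, by simp [hls], rfl⟩, (rep_reflJ L2).unique hp⟩
      · exact ⟨_, ⟨L3, by simp [hls], rfl⟩, (rep_reflJ L3).unique hp⟩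
  have hvalid : Valid 100 (outCodes baseLine outL1 outL2 outL3) := by
    intro c hc
    simp only [outCodes, List.mem_cons, List.not_mem_nil, or_false, ← h1, ← h2, ← h3] at hc
    rcases hc with rfl | rfl | rfl | rfl
    · exact ⟨_, rep_reflJ base0⟩
    · exact ⟨_, rep_reflJ L1⟩
    · exact ⟨_, rep_reflJ L2⟩
    · exact ⟨_, rep_reflJ L3⟩
  have hK : K = ⊤ := by
    refine Subgroup.eq_top_of_card_eq K ?_
    rw [Nat.card_congr (K.equivMapOfInjective psi psi_injective).toEquiv, hmap, card_J2,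
      (chain_sound (by norm_num) out_gen.1 hvalid).card, out_gen.2]
  refine MulEquiv.toMonoidHom_injective (MonoidHom.eq_of_eqOn_dense hK ?_)
  rintro g ⟨i, hi, rfl⟩
  simp only [hls, List.mem_cons, List.not_mem_nil, or_false] at hi
  rcases hi with rfl | rfl | rfl | rfl <;> assumption

theorem exists_outer : ∃ σ : MulAut J2, σ ∉ Cfsg.Inn J2 := by
  classical
  obtain ⟨hp, hp', hnot, hnorm⟩ := out_tau
  set t := decP 100 outTau
  have ht : Rep 100 outTau t := decP_rep hp
  have ht' : Rep 100 outTauInv t⁻¹ := rep_inv (by norm_num) ht hp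
  have main := chain_sound (by norm_num) chain_check valid_gens
  have hle : ∀ p ∈ hjGroup, t * p * t⁻¹ ∈ hjGroup := by
    have : hjGroup ≤ hjGroup.comap (MulAut.conj t).toMonoidHom := by
      refine (Subgroup.closure_le _).mpr ?_
      rintro p ⟨c, hc, hp⟩
      show t * p * t⁻¹ ∈ hjGroup
      rw [mul_assoc]
      exact (main.mem_iff _ _ (ht.comp (hp.comp ht'))).mp (List.all_eq_true.mp hnorm c hc)
    exact fun p hp => this hp
  have htN : t ∈ Subgroup.normalizer (hjGroup : Set (Perm (Fin 100))) := by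
    refine Subgroup.mem_normalizer_iff.mpr fun x => ⟨hle x, fun hx => ?_⟩
    have hbij : Set.BijOn (fun q => t * q * t⁻¹) (hjGroup : Set (Perm (Fin 100))) hjGroup :=
      ((Set.toFinite _).injOn_iff_bijOn_of_mapsTo fun q hq => hle q hq).mp
        (MulAut.conj t).injective.injOn
    obtain ⟨y, hy, he⟩ := hbij.surjOn hx
    exact (MulAut.conj t).injective he ▸ hy
  let a : MulAut hjGroup := hjGroup.normalizerMonoidHom ⟨t, htN⟩
  let σ : MulAut J2 := (hjEquiv.trans a).trans hjEquiv.symm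
  refine ⟨σ, fun ⟨g, hg⟩ => ?_⟩
  -- then `t` differs from an element of the group by something centralising it
  have hcomm : ∀ p ∈ hjGroup, Commute ((psi g)⁻¹ * t) p := by
    intro p hp
    obtain ⟨x, rfl⟩ := psi_surj hp
    have hσ : psi (σ x) = t * psi x * t⁻¹ := by
      rw [psi_apply, psi_apply]
      show ((hjEquiv (hjEquiv.symm (a (hjEquiv x)))) : Perm (Fin 100)) = _
      rw [MulEquiv.apply_symm_apply]
      rfl
    rw [← hg, MulAut.conj_apply, map_mul, map_mul, map_inv] at hσ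
    show (psi g)⁻¹ * t * psi x = psi x * ((psi g)⁻¹ * t)
    have h2 := congrArg (fun q => (psi g)⁻¹ * q * t) hσ
    simp only [mul_assoc, inv_mul_cancel_left, inv_mul_cancel, mul_one] at h2
    simp only [mul_assoc]
    exact h2.symm
  set q := (psi g)⁻¹ * t
  have hq0 : q (0 : Fin 100) = 0 := by
    by_contra hne
    have h := List.all_eq_true.mp only_fixed (q 0 : ℕ) (List.mem_range.mpr (q 0).2)
    simp only [Bool.or_eq_true, List.any_eq_true, List.mem_range] at h
    rcases h with h | ⟨a, ha, h⟩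
    · exact hne (Fin.ext (Nat.eq_of_beq_eq_true h))
    · have ha5 : a < 5 := by omega
      have hfix : ap (gCode a) 0 = 0 := gCode_fix ha
      have hr : Rep 100 (gCode a) (rho (genEl ⟨a, ha5⟩)) := rep_gen ⟨a, ha5⟩
      have e := congrArg (fun s : Perm (Fin 100) => s (0 : Fin 100)) (hcomm _ (rho_mem (genEl ⟨a, ha5⟩))).eq
      simp only [Perm.mul_apply] at e
      rw [show rho (genEl ⟨a, ha5⟩) (0 : Fin 100) = 0 from Fin.ext ((hr 0).symm.trans hfix)] at e
      have e' : ap (gCode a) (q 0 : ℕ) = (q 0 : ℕ) := (hr (q 0)).trans (congrArg Fin.val e.symm)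
      rw [e', Nat.beq_refl] at h
      simp at h
  have hq1 : q = 1 := Equiv.ext fun x => by
    obtain ⟨p, hmem, hx⟩ := exists_toPt x
    have e := congrArg (fun s : Perm (Fin 100) => s (0 : Fin 100)) (hcomm _ hmem).eq
    simp only [Perm.mul_apply] at e
    rw [hq0, hx] at e
    exact e
  have htG : t ∈ hjGroup := by
    rw [show t = psi g from (inv_mul_eq_one.mp hq1).symm]
    rw [psi_apply]
    exact (hjEquiv g).2
  rw [(main.mem_iff _ _ ht).mpr htG] at hnot
  simp at hnot

theorem card_out_J2 : Nat.card (Cfsg.Out J2) = 2 := by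
  obtain ⟨σ, hσ⟩ := exists_outer
  let q := QuotientGroup.mk' (Cfsg.Inn J2)
  have hne : q σ ≠ 1 := fun h => hσ ((QuotientGroup.eq_one_iff σ).mp h)
  refine (Nat.card_eq_two_iff' (1 : Cfsg.Out J2)).mpr ⟨q σ, hne, fun x hx => ?_⟩
  obtain ⟨α, rfl⟩ := QuotientGroup.mk'_surjective _ x
  obtain ⟨β, L1, L2, L3, L3', hβ, ⟨h1, h2, h3, h3'⟩, b0, b1, b2, b3⟩ := out_class α
  obtain ⟨γ, M1, M2, M3, M3', hγ, ⟨k1, k2, k3, k3'⟩, c0, c1, c2, c3⟩ := out_class σ
  obtain rfl : M1 = L1 := Fin.ext (k1.trans h1.symm)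
  obtain rfl : M2 = L2 := Fin.ext (k2.trans h2.symm)
  obtain rfl : M3 = L3 := Fin.ext (k3.trans h3.symm)
  obtain rfl : M3' = L3' := Fin.ext (k3'.trans h3'.symm)
  have triv : ∀ (δ : MulAut J2), δ (reflJ base0) = reflJ base0 → δ (reflJ M1) = reflJ M1 →
      δ (reflJ M2) = reflJ M2 → δ (reflJ M3) = reflJ M3 → δ = 1 :=
    fun δ d0 d1 d2 d3 => aut_eq _ _ _ h1 h2 h3 δ 1 d0 d1 d2 d3
  have c3' : γ (reflJ M3) = reflJ M3' := c3.resolve_left fun h => hne (by
    rw [← hγ, triv γ c0 c1 c2 h, map_one])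
  have b3' : β (reflJ M3) = reflJ M3' := b3.resolve_left fun h => hx (by
    rw [← hβ, triv β b0 b1 b2 h, map_one])
  have e : β = γ := aut_eq _ _ _ h1 h2 h3 β γ (b0.trans c0.symm) (b1.trans c1.symm)
    (b2.trans c2.symm) (b3'.trans c3'.symm)
  rw [← hβ, ← hγ, e]

end CfsgHJ
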