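/-
The point stabiliser of the action of degree 100 is `PSU₃(3)`; its orbits have lengths 1, 36, 63.
-/
import Cfsg.Agent.Lib.HallJanko.Trans
import Cfsg.Agent.Lib.HallJanko.StabData
import Cfsg.Agent.Lib.SpectrumU33.SU3
import Cfsg.Agent.S0280

set_option autoImplicit false

namespace CfsgHJ

open Equiv Matrix CfsgLib.SpectrumU33

/-! ### The checks -/

def scalT (k : ℕ) (p : ℕ × ℕ × ℕ) : ℕ × ℕ × ℕ := (mulC k p.1, mulC k p.2.1, mulC k p.2.2)

def appT : T9 → ℕ × ℕ × ℕ → ℕ × ℕ × ℕ
  | (a, b, c, d, e, f, g, h, i), (x, y, z) =>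
    (addC (addC (mulC a x) (mulC b y)) (mulC c z), addC (addC (mulC d x) (mulC e y)) (mulC f z),
      addC (addC (mulC g x) (mulC h y)) (mulC i z))

def isoAt (i : ℕ) : ℕ × ℕ × ℕ := isoPts.getD i (0, 0, 0)

theorem iso_cover : (triples.all fun v => v == (0, 0, 0) || ipC v v != 0 ||
    (List.range 28).any fun j => (List.range 9).any fun k => v == scalT k (isoAt j)) = true := by
  decide +kernel

theorem iso_distinct : ((List.range 28).all fun i => (List.range 28).all fun j => i == j ||
    (List.range 9).all fun k => scalT k (isoAt i) != isoAt j) = true ∧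
    ((List.range 28).all fun i => isoAt i != (0, 0, 0) && ipC (isoAt i) (isoAt i) == 0 &&
      Nat.blt (isoAt i).1 9 && Nat.blt (isoAt i).2.1 9 && Nat.blt (isoAt i).2.2 9) = true := by
  decide +kernel

theorem gens28_check : isSU genSeven = true ∧ isSU genEight = true ∧
    ((List.range 28).all fun i =>
      ((List.range 9).any fun k =>
        appT genSeven (isoAt i) == scalT k (isoAt (ap (codes28.getD 0 0) i))) &&
      ((List.range 9).any fun k =>
        appT genEight (isoAt i) == scalT k (isoAt (ap (codes28.getD 1 0) i)))) = true := by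
  decide +kernel

theorem chain28_check : chainOK 28 chain28 codes28 = true ∧ sizeOfChain chain28 = 6048 ∧
    (codes28.all fun c => (List.range 28).all fun i => Nat.blt (ap c i) 28) = true := by
  decide +kernel

theorem chain100_check : chainOK 100 chain100 codes100 = true ∧ sizeOfChain chain100 = 6048 ∧
    (codes100.all fun c => sift 100 chainData c && Nat.beq (ap c 0) 0) = true := by
  decide +kernel

theorem chainBoth_check : chainOK 128 chainBoth codesBoth = true ∧ sizeOfChain chainBoth = 6048 ∧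
    ((List.range 28).all fun i => Nat.beq (ap (codesBoth.getD 0 0) i) (ap (codes28.getD 0 0) i) &&
      Nat.beq (ap (codesBoth.getD 1 0) i) (ap (codes28.getD 1 0) i)) = true ∧
    ((List.range 100).all fun i =>
      Nat.beq (ap (codesBoth.getD 0 0) (28 + i)) (28 + ap (codes100.getD 0 0) i) &&
      Nat.beq (ap (codesBoth.getD 1 0) (28 + i)) (28 + ap (codes100.getD 1 0) i)) = true := by
  decide +kernel

theorem perm_checks :
    (codes28.all fun c => (List.range 28).all fun i => (List.range 28).any fun j => Nat.beq (ap c j) i)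
      = true ∧
    (codes100.all fun c => (List.range 100).all fun i => Nat.blt (ap c i) 100 &&
      (List.range 100).any fun j => Nat.beq (ap c j) i) = true := by
  decide +kernel

theorem code_lists : codes28 = [codes28.getD 0 0, codes28.getD 1 0] ∧
    codes100 = [codes100.getD 0 0, codes100.getD 1 0] ∧
    codesBoth = [codesBoth.getD 0 0, codesBoth.getD 1 0] := ⟨rfl, rfl, rfl⟩

def orbPt (o k : ℕ) : ℕ := ((stabOrbits.getD o []).getD k (0, 0, 0)).1

def orbLen (o : ℕ) : ℕ := [1, 36, 63].getD o 0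

def orbStepU33 (o k : ℕ) : Bool :=
  Nat.blt (orbPt o k) 100 && (Nat.beq k 0 ||
    (Nat.blt ((stabOrbits.getD o []).getD k (0, 0, 0)).2.1 k &&
      Nat.blt ((stabOrbits.getD o []).getD k (0, 0, 0)).2.2 2 &&
      Nat.beq (ap (codes100.getD ((stabOrbits.getD o []).getD k (0, 0, 0)).2.2 0)
        (orbPt o ((stabOrbits.getD o []).getD k (0, 0, 0)).2.1)) (orbPt o k))) &&
  ((List.range 2).all fun a => (List.range (orbLen o)).any fun m =>
    Nat.beq (ap (codes100.getD a 0) (orbPt o k)) (orbPt o m)) &&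
  ((List.range k).all fun m => !Nat.beq (orbPt o m) (orbPt o k))

theorem orb_check : ((List.range 3).all fun o => (List.range (orbLen o)).all (orbStepU33 o)) = true := by
  decide +kernel

attribute [local irreducible] codes28 codes100 codesBoth chain28 chain100 chainBoth isoPts
  stabOrbits chainData

theorem valid28 : Valid 28 codes28 := fun c hc => by
  have h := List.all_eq_true.mp chain28_check.2.2 c hc
  have h' := List.all_eq_true.mp perm_checks.1 c hc
  simp only [List.all_eq_true, List.any_eq_true, List.mem_range, Nat.blt_eq] at h h'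
  let f : Fin 28 → Fin 28 := fun i => ⟨ap c i, h i i.2⟩
  have hs : Function.Surjective f := fun i => by
    obtain ⟨j, hj, e⟩ := h' i i.2
    exact ⟨⟨j, hj⟩, Fin.ext (Nat.eq_of_beq_eq_true e)⟩
  exact ⟨Equiv.ofBijective f (Finite.surjective_iff_bijective.mp hs), fun i => rfl⟩

theorem valid100 : Valid 100 codes100 := fun c hc => by
  have h' := List.all_eq_true.mp perm_checks.2 c hc
  simp only [Bool.and_eq_true, List.all_eq_true, List.any_eq_true, List.mem_range, Nat.blt_eq] at h'
  let f : Fin 100 → Fin 100 := fun i => ⟨ap c i, (h' i i.2).1⟩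
  have hs : Function.Surjective f := fun i => by
    obtain ⟨j, hj, e⟩ := (h' i i.2).2
    exact ⟨⟨j, hj⟩, Fin.ext (Nat.eq_of_beq_eq_true e)⟩
  exact ⟨Equiv.ofBijective f (Finite.surjective_iff_bijective.mp hs), fun i => rfl⟩

theorem card_gen28 : Nat.card (genG 28 codes28) = 6048 :=
  (chain_sound (by norm_num) chain28_check.1 valid28).card.trans chain28_check.2.1

theorem card_gen100 : Nat.card (genG 100 codes100) = 6048 :=
  (chain_sound (by norm_num) chain100_check.1 valid100).card.trans chain100_check.2.1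

/-! ### The two groups side by side -/

noncomputable def joinHom : Perm (Fin 28) × Perm (Fin 100) →* Perm (Fin 128) :=
  ((finSumFinEquiv (m := 28) (n := 100)).permCongrHom.toMonoidHom).comp
    (Equiv.Perm.sumCongrHom (Fin 28) (Fin 100))

theorem joinHom_injective : Function.Injective joinHom :=
  (finSumFinEquiv (m := 28) (n := 100)).permCongrHom.injective.comp Equiv.Perm.sumCongrHom_injective

theorem joinHom_rep {c d e : ℕ} {g : Perm (Fin 28)} {h : Perm (Fin 100)} (hg : Rep 28 c g)
    (hh : Rep 100 d h) (h1 : ∀ i < 28, ap e i = ap c i) (h2 : ∀ i < 100, ap e (28 + i) = 28 + ap d i) :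
    Rep 128 e (joinHom (g, h)) := by
  intro i
  obtain ⟨x, rfl⟩ := (finSumFinEquiv (m := 28) (n := 100)).surjective i
  have key : joinHom (g, h) (finSumFinEquiv x) = finSumFinEquiv (Sum.map g h x) := by
    show finSumFinEquiv (Equiv.sumCongr g h (finSumFinEquiv.symm (finSumFinEquiv x))) = _
    rw [Equiv.symm_apply_apply]
    rfl
  rw [key]
  rcases x with x | x
  · show ap e (x : ℕ) = ((g x : Fin 28) : ℕ)
    rw [h1 x x.2, hg x]
  · show ap e (28 + (x : ℕ)) = 28 + ((h x : Fin 100) : ℕ)
    rw [h2 x x.2, hh x]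

/-- The stabiliser of `0` is isomorphic to the group on 28 points. -/
theorem gen100_iso_gen28 : Nonempty (genG 100 codes100 ≃* genG 28 codes28) := by
  classical
  obtain ⟨e28, e100, eB⟩ := code_lists
  obtain ⟨g, hg⟩ := valid28 (codes28.getD 0 0) (by rw [e28]; simp)
  obtain ⟨g', hg'⟩ := valid28 (codes28.getD 1 0) (by rw [e28]; simp)
  obtain ⟨h, hh⟩ := valid100 (codes100.getD 0 0) (by rw [e100]; simp)
  obtain ⟨h', hh'⟩ := valid100 (codes100.getD 1 0) (by rw [e100]; simp)
  obtain ⟨hchain, hsize, hl, hr⟩ := chainBoth_check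
  simp only [List.all_eq_true, List.mem_range, Bool.and_eq_true] at hl hr
  have r0 := joinHom_rep hg hh (fun i hi => Nat.eq_of_beq_eq_true (hl i hi).1)
    (fun i hi => Nat.eq_of_beq_eq_true (hr i hi).1)
  have r1 := joinHom_rep hg' hh' (fun i hi => Nat.eq_of_beq_eq_true (hl i hi).2)
    (fun i hi => Nat.eq_of_beq_eq_true (hr i hi).2)
  have gen_pair : ∀ {n : ℕ} (l : List ℕ) (a b : Perm (Fin n)), l = [l.getD 0 0, l.getD 1 0] →
      Rep n (l.getD 0 0) a → Rep n (l.getD 1 0) b → genG n l = Subgroup.closure {a, b} := by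
    intro n l a b el ha hb
    apply le_antisymm <;> rw [genG, Subgroup.closure_le]
    · rintro x ⟨c, hc, hx⟩
      rw [el] at hc
      simp only [List.mem_cons, List.not_mem_nil, or_false] at hc
      rcases hc with rfl | rfl
      · exact Subgroup.subset_closure (Or.inl (hx.unique ha))
      · exact Subgroup.subset_closure (Or.inr (hx.unique hb))
    · intro x hx
      rcases hx with rfl | rfl
      · exact Subgroup.subset_closure ⟨_, by rw [el]; simp, ha⟩
      · exact Subgroup.subset_closure ⟨_, by rw [el]; simp, hb⟩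
  let K : Subgroup (Perm (Fin 28) × Perm (Fin 100)) := Subgroup.closure {(g, h), (g', h')}
  have hvB : Valid 128 codesBoth := fun c hc => by
    rw [eB] at hc
    simp only [List.mem_cons, List.not_mem_nil, or_false] at hc
    rcases hc with rfl | rfl
    · exact ⟨_, r0⟩
    · exact ⟨_, r1⟩
  have hK : Nat.card K = 6048 := by
    have e : genG 128 codesBoth = K.map joinHom := by
      rw [gen_pair _ _ _ eB r0 r1, MonoidHom.map_closure, Set.image_pair]
    rw [← hsize, ← (chain_sound (by norm_num) hchain hvB).card, e]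
    exact Nat.card_congr (K.equivMapOfInjective joinHom joinHom_injective).toEquiv
  have e1 : K.map (MonoidHom.fst _ _) = genG 28 codes28 := by
    rw [gen_pair _ _ _ e28 hg hg', MonoidHom.map_closure, Set.image_pair]; rfl
  have e2 : K.map (MonoidHom.snd _ _) = genG 100 codes100 := by
    rw [gen_pair _ _ _ e100 hh hh', MonoidHom.map_closure, Set.image_pair]; rfl
  have iso : ∀ {M : Type} [Group M] (p : Perm (Fin 28) × Perm (Fin 100) →* M) (L : Subgroup M),
      K.map p = L → Nat.card L = 6048 → Nonempty (K ≃* L) := by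
    intro M _ p L e hL
    subst e
    haveI : Finite (K.map p) := Nat.finite_of_card_ne_zero (by omega)
    exact ⟨MulEquiv.ofBijective (p.subgroupMap K)
      ((Nat.bijective_iff_surjective_and_card _).mpr ⟨p.subgroupMap_surjective K, by rw [hK, hL]⟩)⟩
  obtain ⟨f1⟩ := iso _ _ e1 card_gen28
  obtain ⟨f2⟩ := iso _ _ e2 card_gen100
  exact ⟨f2.symm.trans f1⟩

/-! ### `PSU₃(3)` on the isotropic points -/

section Unitary

variable {F : Type} [Field F] [Fintype F]

theorem gen28_iso_PSU (hF : Fintype.card F = 9) : Nonempty (genG 28 codes28 ≃* Cfsg.PSU 3 F 3) := by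
  classical
  haveI : Fact (Nat.Prime 3) := ⟨Nat.prime_three⟩
  haveI : CharP F 3 := charP_of_card_eq_prime_pow (f := 2) (by rw [hF]; norm_num)
  obtain ⟨r, hr'⟩ := (FiniteField.isSquare_neg_one_iff (F := F)).mpr (by rw [hF]; norm_num)
  have hr : r * r = -1 := hr'.symm
  have hsurj : ∀ t : F, ∃ n, n < 9 ∧ dec r n = t := by
    have hb : Function.Bijective fun n : Fin 9 => dec r n.val :=
      (Fintype.bijective_iff_injective_and_card _).mpr
        ⟨fun m n h => Fin.ext (dec_inj hr m.2 n.2 h), by rw [Fintype.card_fin, hF]⟩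
    intro t
    obtain ⟨n, hn⟩ := hb.2 t
    exact ⟨n, n.2, hn⟩
  choose cd hcd_lt hcd using hsurj
  let vec : ℕ × ℕ × ℕ → Fin 3 → F := fun p => ![dec r p.1, dec r p.2.1, dec r p.2.2]
  have vec_scal : ∀ k p, vec (scalT k p) = dec r k • vec p := fun k p => by
    funext t; fin_cases t <;> simp [vec, scalT, dec_mul hr]
  have vec_app : ∀ A p, mat r A *ᵥ vec p = vec (appT A p) := by
    rintro ⟨a, b, c, d, e, f, g, h, i⟩ ⟨x, y, z⟩
    funext t; fin_cases t <;>
      simp [vec, appT, mat, dec_add, dec_mul hr, Matrix.mulVec, dotProduct, Fin.sum_univ_three]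
  have vec_inj : ∀ p q : ℕ × ℕ × ℕ, p.1 < 9 → p.2.1 < 9 → p.2.2 < 9 → q.1 < 9 → q.2.1 < 9 →
      q.2.2 < 9 → vec p = vec q → p = q := by
    rintro ⟨a, b, c⟩ ⟨a', b', c'⟩ ha hb hc ha' hb' hc' e
    have e0 := dec_inj hr ha ha' (congrFun e 0)
    have e1 := dec_inj hr hb hb' (congrFun e 1)
    have e2 := dec_inj hr hc hc' (congrFun e 2)
    simp only at e0 e1 e2
    rw [e0, e1, e2]
  obtain ⟨hdist, hiso⟩ := iso_distinct
  simp only [List.all_eq_true, List.mem_range, Bool.and_eq_true, Bool.or_eq_true, beq_iff_eq,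
    bne_iff_ne, Nat.blt_eq] at hdist hiso
  let v : Fin 28 → Fin 3 → F := fun i => vec (isoAt i)
  have v_ne : ∀ i, v i ≠ 0 := fun i e => by
    obtain ⟨⟨⟨⟨hne, -⟩, h1⟩, h2⟩, h3⟩ := hiso i i.2
    refine hne (vec_inj _ (0, 0, 0) h1 h2 h3 (by norm_num) (by norm_num) (by norm_num) ?_)
    rw [show vec (isoAt i) = v i from rfl, e]
    funext t; fin_cases t <;> simp [vec, dec_zero]
  have v_uniq : ∀ i j (c : F), v j = c • v i → i = j := fun i j c e => by
    by_contra hij
    obtain ⟨⟨⟨⟨-, -⟩, h1⟩, h2⟩, h3⟩ := hiso j j.2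
    refine ((hdist i i.2 j j.2).resolve_left (fun e' => hij (Fin.ext e'))) (cd c) (hcd_lt c) ?_
    exact vec_inj _ _ (mulC_lt _ _) (mulC_lt _ _) (mulC_lt _ _) h1 h2 h3
      (by rw [vec_scal, hcd]; exact e.symm)
  have image : ∀ (g : Cfsg.SU 3 F 3) (i : Fin 28),
      ∃ j, ∃ c : F, g.1.1 *ᵥ v i = c • v j := fun g i => by
    set w := g.1.1 *ᵥ v i
    let q : ℕ × ℕ × ℕ := (cd (w 0), cd (w 1), cd (w 2))
    have hq : vec q = w := by funext t; fin_cases t <;> simp [vec, q, hcd]
    have hform : ∀ p, Cfsg.hermForm 3 F 3 (vec p) (vec p) = dec r (ipC p p) := fun p => by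
      rw [dec_ip hr]; simp [Cfsg.hermForm, Fin.sum_univ_three, vec]
    have h0 : ipC q q = 0 := by
      refine dec_inj hr (ipC_lt _ _) (by norm_num) ?_
      rw [← hform, hq, dec_zero]
      have := g.2 (v i) (v i)
      rw [show Cfsg.hermForm 3 F 3 (v i) (v i) = 0 by
        rw [show v i = vec (isoAt i) from rfl, hform, (hiso i i.2).1.1.1.2, dec_zero]] at this
      exact this
    have hne : q ≠ (0, 0, 0) := fun e => by
      have hw : w = 0 := by rw [← hq, e]; funext t; fin_cases t <;> simp [vec, dec_zero]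
      refine v_ne i ?_
      have h1 : (g⁻¹).1.1 *ᵥ w = v i := by
        rw [Matrix.mulVec_mulVec,
          show (g⁻¹).1.1 * g.1.1 = 1 from congrArg (fun t : Cfsg.SU 3 F 3 => t.1.1) (inv_mul_cancel g),
          Matrix.one_mulVec]
      rw [← h1, hw, Matrix.mulVec_zero]
    have hc := iso_cover
    simp only [List.all_eq_true, Bool.or_eq_true, beq_iff_eq, bne_iff_ne, List.any_eq_true,
      List.mem_range] at hc
    obtain ⟨j, hj, k, -, e⟩ := (hc q (by
      simp only [triples, List.mem_flatMap, List.mem_map, List.mem_range]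
      exact ⟨_, hcd_lt _, _, hcd_lt _, _, hcd_lt _, rfl⟩)).resolve_left (by simp [hne, h0])
    exact ⟨⟨j, hj⟩, dec r k, by rw [← hq, e, vec_scal]⟩
  choose f hf using image
  have f_eq : ∀ g i j (c : F), g.1.1 *ᵥ v i = c • v j → f g i = j := fun g i j c e => by
    obtain ⟨c', e'⟩ := hf g i
    rw [e'] at e
    have hc' : c' ≠ 0 := fun h0 => by
      have hw : g.1.1 *ᵥ v i = 0 := by rw [e', h0, zero_smul]
      refine v_ne i ?_
      rw [← Matrix.one_mulVec (v i),
        ← show (g⁻¹).1.1 * g.1.1 = 1 from congrArg (fun t : Cfsg.SU 3 F 3 => t.1.1) (inv_mul_cancel g),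
        ← Matrix.mulVec_mulVec, hw, Matrix.mulVec_zero]
    refine (v_uniq j _ (c'⁻¹ * c) ?_).symm
    rw [mul_smul, ← e, smul_smul, inv_mul_cancel₀ hc', one_smul]
  have f_one : ∀ i, f 1 i = i := fun i => f_eq 1 i i 1 (by
    rw [show (1 : Cfsg.SU 3 F 3).1.1 = 1 from rfl, Matrix.one_mulVec, one_smul])
  have f_mul : ∀ g h i, f (g * h) i = f g (f h i) := fun g h i => by
    obtain ⟨c, hc⟩ := hf h i
    obtain ⟨c', hc'⟩ := hf g (f h i)
    refine f_eq _ _ _ (c * c') ?_
    rw [show (g * h).1.1 = g.1.1 * h.1.1 from rfl, ← Matrix.mulVec_mulVec, hc, Matrix.mulVec_smul,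
      hc', smul_smul]
  let act : Cfsg.SU 3 F 3 →* Perm (Fin 28) :=
    { toFun := fun g => ⟨f g, f g⁻¹, fun i => by rw [← f_mul, inv_mul_cancel, f_one],
        fun i => by rw [← f_mul, mul_inv_cancel, f_one]⟩
      map_one' := Equiv.ext f_one
      map_mul' := fun g h => Equiv.ext (f_mul g h) }
  -- the two generators
  obtain ⟨hs7, hs8, hgen⟩ := gens28_check
  simp only [List.all_eq_true, List.any_eq_true, List.mem_range, Bool.and_eq_true, beq_iff_eq] at hgen
  have elem : ∀ A : T9, isSU A = true → ∃ g : Cfsg.SU 3 F 3, g.1.1 = mat r A := by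
    rintro ⟨a, b, c, d, e, f, g, h', i⟩ hsu
    simp only [isSU, Bool.and_eq_true, beq_iff_eq] at hsu
    obtain ⟨⟨⟨⟨⟨⟨⟨hdet, h11⟩, h22⟩, h33⟩, h12⟩, h13⟩, h23⟩, -⟩ := hsu
    set A : T9 := (a, b, c, d, e, f, g, h', i) with hAdef
    have hd : (mat r A).det = 1 := by rw [← dec_det hr, hdet, dec_one]
    refine ⟨⟨⟨mat r A, hd⟩, ?_⟩, rfl⟩
    intro u w
    have d11 := congrArg (dec r) h11
    have d22 := congrArg (dec r) h22
    have d33 := congrArg (dec r) h33
    have d12 := congrArg (dec r) h12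
    have d13 := congrArg (dec r) h13
    have d23 := congrArg (dec r) h23
    rw [dec_ip hr] at d11 d22 d33 d12 d13 d23
    simp only [dec_one, dec_zero] at d11 d22 d33 d12 d13 d23
    have h9 : ∀ t : F, (t ^ 3) ^ 3 = t := fun t => by
      rw [← pow_mul]; have := FiniteField.pow_card t; rwa [hF] at this
    have hflip : ∀ {p q s P Q R : F}, p * P ^ 3 + q * Q ^ 3 + s * R ^ 3 = 0 →
        P * p ^ 3 + Q * q ^ 3 + R * s ^ 3 = 0 := fun {p q s P Q R} e => by
      have e2 := congrArg (· ^ 3) e
      simp only [add_pow_char, mul_pow, h9, zero_pow (by norm_num : 3 ≠ 0)] at e2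
      linear_combination e2
    have d21 := hflip d12
    have d31 := hflip d13
    have d32 := hflip d23
    show Cfsg.hermForm 3 F 3 (mat r A *ᵥ u) (mat r A *ᵥ w) = _
    simp only [Cfsg.hermForm, Fin.sum_univ_three, Matrix.mulVec, dotProduct, mat, hAdef,
      Matrix.of_apply, Matrix.cons_val_zero, Matrix.cons_val_one, Matrix.cons_val, add_pow_char,
      mul_pow]
    linear_combination u 0 * w 0 ^ 3 * d11 + u 1 * w 1 ^ 3 * d22 + u 2 * w 2 ^ 3 * d33 +
      u 0 * w 1 ^ 3 * d12 + u 0 * w 2 ^ 3 * d13 + u 1 * w 2 ^ 3 * d23 +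
      u 1 * w 0 ^ 3 * d21 + u 2 * w 0 ^ 3 * d31 + u 2 * w 1 ^ 3 * d32
  have genrep : ∀ (A : T9) (c : ℕ), isSU A = true → (∀ i < 28, ap c i < 28) →
      (∀ i < 28, ∃ k, k < 9 ∧ appT A (isoAt i) = scalT k (isoAt (ap c i))) →
      ∃ g, Rep 28 c (act g) := by
    intro A c hA hlt hA'
    obtain ⟨g, hg⟩ := elem A hA
    refine ⟨g, fun i => ?_⟩
    obtain ⟨k, -, e⟩ := hA' i i.2
    have : f g i = ⟨ap c i, hlt i i.2⟩ := f_eq g i _ (dec r k) (by
      rw [hg, vec_app, e, vec_scal])
    exact (congrArg Fin.val this).symm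
  have hlt28 := chain28_check.2.2
  simp only [List.all_eq_true, List.mem_range, Nat.blt_eq] at hlt28
  obtain ⟨e28, -, -⟩ := code_lists
  obtain ⟨g7, hg7⟩ := genrep genSeven _ hs7 (hlt28 _ (by rw [e28]; simp)) fun i hi => (hgen i hi).1
  obtain ⟨g8, hg8⟩ := genrep genEight _ hs8 (hlt28 _ (by rw [e28]; simp)) fun i hi => (hgen i hi).2
  have hle : genG 28 codes28 ≤ act.range := by
    rw [genG, Subgroup.closure_le]
    rintro x ⟨c, hc, hx⟩
    rw [e28] at hc
    simp only [List.mem_cons, List.not_mem_nil, or_false] at hc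
    rcases hc with rfl | rfl
    · exact ⟨g7, hg7.unique hx⟩
    · exact ⟨g8, hg8.unique hx⟩
  have hcen := Cfsg.Agent.S0280.center_card (F := F) (q := 3) (by rw [hF]; norm_num) 3 (by norm_num)
  rw [show Nat.gcd 3 (3 + 1) = 1 by norm_num] at hcen
  have hcard : Nat.card (Cfsg.PSU 3 F 3) = 6048 := by
    have h := Cfsg.Agent.S0280.result (F := F) (q := 3) (by rw [hF]; norm_num) 3 (by norm_num)
    norm_num [Finset.prod_range_succ, Nat.even_iff] at h
    rw [Nat.card_eq_fintype_card]
    omega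
  have hbot : Subgroup.center (Cfsg.SU 3 F 3) = ⊥ := Subgroup.card_eq_one.mp hcen
  let q : Cfsg.PSU 3 F 3 ≃* Cfsg.SU 3 F 3 :=
    (QuotientGroup.quotientMulEquivOfEq hbot).trans QuotientGroup.quotientBot
  have hSU : Nat.card (Cfsg.SU 3 F 3) = 6048 := (Nat.card_congr q.toEquiv).symm.trans hcard
  haveI : Finite (Cfsg.SU 3 F 3) := Nat.finite_of_card_ne_zero (by omega)
  have hrange : act.range = genG 28 codes28 := by
    refine (Subgroup.eq_of_le_of_card_ge hle ?_).symm
    rw [card_gen28, ← hSU]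
    exact Nat.le_of_dvd Nat.card_pos (Subgroup.card_range_dvd act)
  have hbij : Function.Bijective act.rangeRestrict :=
    (Nat.bijective_iff_surjective_and_card _).mpr ⟨act.rangeRestrict_surjective, by
      rw [hSU, hrange, card_gen28]⟩
  exact ⟨((q.trans (MulEquiv.ofBijective _ hbij)).trans (MulEquiv.subgroupCongr hrange)).symm⟩

end Unitary

/-! ### The stabiliser in `J₂` -/

theorem rank_three : ∃ H : Subgroup Cfsg.Spor.J2, H.index = 100 ∧
    (∃ (F : Type) (_ : Field F) (_ : Fintype F), Fintype.card F = 9 ∧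
      Nonempty (↥H ≃* Cfsg.PSU 3 F 3)) ∧
    ∃ c₁ c₂ : Cfsg.Spor.J2 ⧸ H, (MulAction.orbit ↥H c₁).ncard = 36 ∧
      (MulAction.orbit ↥H c₂).ncard = 63 := by
  classical
  let ψ : Cfsg.Spor.J2 →* Perm (Fin 100) := hjGroup.subtype.comp hjEquiv.toMonoidHom
  have ψinj : Function.Injective ψ := Subtype.val_injective.comp hjEquiv.injective
  letI : MulAction Cfsg.Spor.J2 (Fin 100) := MulAction.compHom (Fin 100) ψ
  have hψ : ∀ (g : Cfsg.Spor.J2) (i : Fin 100), g • i = ψ g i := fun g i => rfl
  let H := MulAction.stabilizer Cfsg.Spor.J2 (0 : Fin 100)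
  haveI : Finite Cfsg.Spor.J2 := Nat.finite_of_card_ne_zero (by rw [card_J2]; norm_num)
  have lift : ∀ p ∈ hjGroup, ∃ g, ψ g = p := fun p hp =>
    ⟨hjEquiv.symm ⟨p, hp⟩, by simp [ψ]⟩
  have horb := orb_check
  have htrans : MulAction.orbit Cfsg.Spor.J2 (0 : Fin 100) = Set.univ := by
    refine Set.eq_univ_of_forall fun x => ?_
    obtain ⟨p, hp, hpx⟩ := exists_toPt x
    obtain ⟨g, hg⟩ := lift p hp
    refine ⟨g, ?_⟩
    show (ψ g) (0 : Fin 100) = x
    rw [hg, hpx]
  have hindex : H.index = 100 := by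
    rw [MulAction.index_stabilizer, htrans, Set.ncard_univ, Nat.card_fin]
  have hcardH : Nat.card H = 6048 := by
    have := H.card_mul_index
    rw [hindex, card_J2] at this
    omega
  obtain ⟨-, e100, -⟩ := code_lists
  have hmap : H.map ψ = genG 100 codes100 := by
    refine (Subgroup.eq_of_le_of_card_ge ?_ ?_).symm
    · rw [genG, Subgroup.closure_le]
      rintro p ⟨c, hc, hp⟩
      have h := List.all_eq_true.mp chain100_check.2.2 c hc
      simp only [Bool.and_eq_true] at h
      obtain ⟨g, hg⟩ := lift p (((chain_sound (by norm_num) chain_check valid_gens).mem_iff _ _ hp).mp h.1)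
      refine ⟨g, ?_, hg⟩
      show g • (0 : Fin 100) = 0
      refine Fin.ext ?_
      rw [hψ, hg, ← hp (0 : Fin 100)]
      exact Nat.eq_of_beq_eq_true h.2
    · rw [card_gen100, ← hcardH]
      exact (Nat.card_congr (H.equivMapOfInjective ψ ψinj).toEquiv).ge
  obtain ⟨eI⟩ := gen100_iso_gen28
  haveI : Fact (Nat.Prime 3) := ⟨Nat.prime_three⟩
  haveI := Fintype.ofFinite (GaloisField 3 2)
  have h9 : Fintype.card (GaloisField 3 2) = 9 := by
    rw [← Nat.card_eq_fintype_card, GaloisField.card 3 2 (by norm_num)]; norm_num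
  obtain ⟨eU⟩ := gen28_iso_PSU h9
  refine ⟨H, hindex, ⟨GaloisField 3 2, inferInstance, inferInstance, h9,
    ⟨(((H.equivMapOfInjective ψ ψinj).trans (MulEquiv.subgroupCongr hmap)).trans eI).trans eU⟩⟩, ?_⟩
  -- orbits
  simp only [List.all_eq_true, List.mem_range] at horb
  have key : ∀ o, o < 3 → ∃ c : Cfsg.Spor.J2 ⧸ H, (MulAction.orbit ↥H c).ncard = orbLen o := by
    intro o ho
    have hstep := horb o ho
    simp only [orbStepU33, Bool.and_eq_true, Bool.or_eq_true, List.all_eq_true, List.any_eq_true,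
      List.mem_range, Nat.blt_eq, Bool.not_eq_true'] at hstep
    have hlen : 0 < orbLen o := by interval_cases o <;> decide
    let x : Fin (orbLen o) → Fin 100 := fun k => ⟨orbPt o k, (hstep k k.2).1.1.1⟩
    have xinj : Function.Injective x := by
      intro a b e
      have e' : orbPt o a = orbPt o b := congrArg Fin.val e
      rcases lt_trichotomy a.val b.val with h | h | h
      · have := (hstep b b.2).2 a h
        rw [e', Nat.beq_refl] at this
        simp at this
      · exact Fin.ext h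
      · have := (hstep a a.2).2 b h
        rw [e', Nat.beq_refl] at this
        simp at this
    obtain ⟨g0, hg0⟩ := (htrans ▸ Set.mem_univ (x ⟨0, hlen⟩) :
      x ⟨0, hlen⟩ ∈ MulAction.orbit Cfsg.Spor.J2 (0 : Fin 100))
    refine ⟨(g0 : Cfsg.Spor.J2 ⧸ H), ?_⟩
    let π : Cfsg.Spor.J2 ⧸ H → Fin 100 := MulAction.ofQuotientStabilizer Cfsg.Spor.J2 (0 : Fin 100)
    have hπ : Function.Injective π := MulAction.injective_ofQuotientStabilizer _ _
    have himg : π '' MulAction.orbit ↥H (g0 : Cfsg.Spor.J2 ⧸ H) = Set.range x := by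
      apply Set.Subset.antisymm
      · rintro _ ⟨_, ⟨h, rfl⟩, rfl⟩
        show π ((h : Cfsg.Spor.J2) • (g0 : Cfsg.Spor.J2 ⧸ H)) ∈ _
        rw [show π ((h : Cfsg.Spor.J2) • (g0 : Cfsg.Spor.J2 ⧸ H)) =
          (h : Cfsg.Spor.J2) • π (g0 : Cfsg.Spor.J2 ⧸ H) from MulAction.ofQuotientStabilizer_smul _ _ _ _,
          show π (g0 : Cfsg.Spor.J2 ⧸ H) = x ⟨0, hlen⟩ from hg0, hψ]
        have hmem : ψ h ∈ genG 100 codes100 := hmap ▸ ⟨(h : Cfsg.Spor.J2), h.2, rfl⟩
        have stab : ∀ p ∈ genG 100 codes100, ∀ y ∈ Set.range x, p y ∈ Set.range x := by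
          intro p hp
          induction hp using Subgroup.closure_induction with
          | mem p hp =>
            obtain ⟨c, hc, hr⟩ := hp
            rintro _ ⟨k, rfl⟩
            rw [e100] at hc
            simp only [List.mem_cons, List.not_mem_nil, or_false] at hc
            obtain ⟨a, ha, rfl⟩ : ∃ a < 2, c = codes100.getD a 0 := by
              rcases hc with rfl | rfl
              · exact ⟨0, by norm_num, rfl⟩
              · exact ⟨1, by norm_num, rfl⟩
            obtain ⟨m, hm, e⟩ := (hstep k k.2).1.2 a ha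
            exact ⟨⟨m, hm⟩, Fin.ext (by rw [← hr (x k)]; exact (Nat.eq_of_beq_eq_true e).symm)⟩
          | one => exact fun y hy => hy
          | mul a b _ _ ha hb => exact fun y hy => ha _ (hb y hy)
          | inv a _ ha =>
            intro y hy
            have hb : Set.BijOn a (Set.range x) (Set.range x) :=
              (Set.finite_range x).injOn_iff_bijOn_of_mapsTo ha |>.mp a.injective.injOn
            obtain ⟨z, hz, rfl⟩ := hb.surjOn hy
            simpa using hz
        exact stab _ hmem _ ⟨_, rfl⟩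
      · rintro _ ⟨k, rfl⟩
        have all : ∀ m, (hm : m < orbLen o) → ∃ h : H, (h : Cfsg.Spor.J2) • x ⟨0, hlen⟩ = x ⟨m, hm⟩ := by
          intro m
          induction m using Nat.strong_induction_on with
          | _ m ih =>
            intro hm
            rcases (hstep m hm).1.1.2 with e | ⟨⟨hpar, hg⟩, e⟩
            · obtain rfl := Nat.eq_of_beq_eq_true e
              exact ⟨1, one_smul _ _⟩
            · obtain ⟨h, hh⟩ := ih _ hpar (lt_trans hpar hm)
              obtain ⟨p, hp⟩ := valid100 (codes100.getD ((stabOrbits.getD o []).getD m (0, 0, 0)).2.2 0)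
                (by
                  obtain h2 | h2 : ((stabOrbits.getD o []).getD m (0, 0, 0)).2.2 = 0 ∨
                      ((stabOrbits.getD o []).getD m (0, 0, 0)).2.2 = 1 := by omega
                  all_goals rw [h2, e100]; simp)
              have hpG : p ∈ genG 100 codes100 := Subgroup.subset_closure ⟨_, by
                obtain h2 | h2 : ((stabOrbits.getD o []).getD m (0, 0, 0)).2.2 = 0 ∨
                    ((stabOrbits.getD o []).getD m (0, 0, 0)).2.2 = 1 := by omega
                all_goals rw [h2, e100]; simp, hp⟩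
              rw [← hmap] at hpG
              obtain ⟨g, hg', rfl⟩ := hpG
              refine ⟨⟨g, hg'⟩ * h, ?_⟩
              rw [Subgroup.coe_mul, mul_smul, hh]
              refine Fin.ext ?_
              rw [hψ, ← hp]
              exact Nat.eq_of_beq_eq_true e
        obtain ⟨h, hh⟩ := all k k.2
        refine ⟨(h : Cfsg.Spor.J2) • (g0 : Cfsg.Spor.J2 ⧸ H), ⟨h, rfl⟩, ?_⟩
        rw [show π ((h : Cfsg.Spor.J2) • (g0 : Cfsg.Spor.J2 ⧸ H)) =
          (h : Cfsg.Spor.J2) • π (g0 : Cfsg.Spor.J2 ⧸ H) from MulAction.ofQuotientStabilizer_smul _ _ _ _,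
          show π (g0 : Cfsg.Spor.J2 ⧸ H) = x ⟨0, hlen⟩ from hg0, hh]
    rw [← Set.ncard_image_of_injective _ hπ, himg, Set.ncard_range_of_injective xinj, Nat.card_fin]
  obtain ⟨c1, h1⟩ := key 1 (by norm_num)
  obtain ⟨c2, h2⟩ := key 2 (by norm_num)
  exact ⟨c1, c2, h1, h2⟩

end CfsgHJ
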